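import Mathlib

/-!
Groups in which every element commutes with all of its conjugates, and fixed-point-free
automorphisms of order three.
-/

set_option autoImplicit false

open scoped commutatorElement

namespace CfsgLib.SchurExt

variable {G : Type*} [Group G]

section Engel

/-- The ring identities behind the Engel argument. -/
theorem engel_ring {R : Type*} [Ring R] (C : G →* R) (hsq : ∀ g : G, (C g - 1) * (C g - 1) = 0) (b c : G) :
    (C c - 1) * (C b - 1) + (C b - 1) * (C c - 1) = 0 ∧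
      C ⁅c, b⁆ - 1 = (C c - 1) * (C b - 1) + (C c - 1) * (C b - 1) := by
  have key : ∀ U V : R, U * U = 0 → V * V = 0 →
      (U + V + U * V) * (U + V + U * V) = 0 → U * V * U = 0 := by
    intro U V hU hV h
    have h1 : U * V * U + U * V * U * V = 0 := by
      calc U * V * U + U * V * U * V
          = U * ((U + V + U * V) * (U + V + U * V)) - (U * U) * U - (U * U) * V
            - (U * U) * (U * V) - U * (V * V) - (U * U) * (V * U)
            - (U * U) * (V * V) - (U * U) * (V * U * V) - U * (V * U) * 0 := by noncomm_ring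
        _ = _ := by rw [h, hU, hV]; noncomm_ring
    have h2 : U * V * U * V = 0 := by
      calc U * V * U * V = (U * V * U + U * V * U * V) * V - U * V * U * (V * V) := by noncomm_ring
        _ = 0 := by rw [h1, hV]; noncomm_ring
    rwa [h2, add_zero] at h1
  obtain ⟨Y, hY⟩ : ∃ Y, C b = 1 + Y := ⟨C b - 1, by abel⟩
  obtain ⟨Z, hZ⟩ : ∃ Z, C c = 1 + Z := ⟨C c - 1, by abel⟩
  have hY2 : Y * Y = 0 := by have := hsq b; rwa [hY, add_sub_cancel_left] at this
  have hZ2 : Z * Z = 0 := by have := hsq c; rwa [hZ, add_sub_cancel_left] at this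
  have hbc : (Y + Z + Y * Z) * (Y + Z + Y * Z) = 0 := by
    have := hsq (b * c)
    rwa [map_mul, hY, hZ, show (1 + Y) * (1 + Z) - 1 = Y + Z + Y * Z by noncomm_ring] at this
  have hcb : (Z + Y + Z * Y) * (Z + Y + Z * Y) = 0 := by
    have := hsq (c * b)
    rwa [map_mul, hY, hZ, show (1 + Z) * (1 + Y) - 1 = Z + Y + Z * Y by noncomm_ring] at this
  have hYZY : Y * Z * Y = 0 := key Y Z hY2 hZ2 hbc
  have hZYZ : Z * Y * Z = 0 := key Z Y hZ2 hY2 hcb
  have hanti : Y * Z + Z * Y = 0 := by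
    calc Y * Z + Z * Y = (Y + Z + Y * Z) * (Y + Z + Y * Z) - Y * Y - Z * Z - (Y * Y) * Z
          - Y * (Z * Z) - Z * Y * Z - Y * Z * Y - (Y * Z * Y) * Z := by noncomm_ring
      _ = 0 := by rw [hbc, hY2, hZ2, hZYZ, hYZY]; noncomm_ring
  have hinv : ∀ (g : G) (W : R), C g = 1 + W → C g⁻¹ = 1 - W := by
    intro g W hW
    have h0 : W * W = 0 := by have := hsq g; rwa [hW, add_sub_cancel_left] at this
    refine left_inv_eq_right_inv (a := C g) (by rw [← map_mul, inv_mul_cancel, map_one]) ?_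
    calc C g * (1 - W) = 1 - W * W := by rw [hW]; noncomm_ring
      _ = 1 := by rw [h0, sub_zero]
  refine ⟨?_, ?_⟩
  · rw [hY, hZ, add_sub_cancel_left, add_sub_cancel_left, add_comm, hanti]
  · rw [commutatorElement_def, map_mul, map_mul, map_mul, hinv c Z hZ, hinv b Y hY, hY, hZ,
      add_sub_cancel_left, add_sub_cancel_left]
    calc (1 + Z) * (1 + Y) * (1 - Z) * (1 - Y) - 1
        = (Z * Y + Z * Y) - (Y * Z + Z * Y) - Z * Z - Y * Y + Y * Z * Y - Z * Y * Z - Z * (Y * Y)
          + (Z * Z) * Y + Z * Y * Z * Y := by noncomm_ring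
      _ = _ := by rw [hanti, hZ2, hY2, hYZY, hZYZ]; noncomm_ring

variable (hE : ∀ x h : G, Commute x (h * x * h⁻¹))

include hE in
theorem isMulCommutative_normalClosure_singleton (x : G) :
    IsMulCommutative (Subgroup.normalClosure ({x} : Set G)) := by
  refine Subgroup.isMulCommutative_closure ?_
  intro a ha b hb
  simp only [Group.mem_conjugatesOfSet_iff, Set.mem_singleton_iff, exists_eq_left] at ha hb
  obtain ⟨u, rfl⟩ := isConj_iff.1 ha
  obtain ⟨v, rfl⟩ := isConj_iff.1 hb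
  have h := hE (u * x * u⁻¹) (v * u⁻¹)
  have e : v * u⁻¹ * (u * x * u⁻¹) * (v * u⁻¹)⁻¹ = v * x * v⁻¹ := by group
  rwa [e] at h

include hE in
/-- In such a group every triple commutator has order dividing `3`. -/
theorem triple_commutator_pow_three (x y z : G) : ⁅z, ⁅y, x⁆⁆ ^ 3 = 1 := by
  classical
  have alt : ∀ a b c : G, ⁅c, ⁅b, a⁆⁆ * ⁅b, ⁅c, a⁆⁆ = 1 ∧ ⁅c, ⁅b, a⁆⁆ * ⁅c, ⁅a, b⁆⁆ = 1 ∧
      ⁅⁅c, b⁆, a⁆ = ⁅c, ⁅b, a⁆⁆ ^ 2 := by
    intro a b c
    set A := Subgroup.normalClosure ({a} : Set G) with hA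
    haveI := isMulCommutative_normalClosure_singleton hE a
    letI : CommGroup A := { (inferInstance : Group A) with mul_comm := fun p q => this.is_comm.comm p q }
    let C : G →* AddMonoid.End (Additive A) :=
      { toFun := fun g => MonoidHom.toAdditive (MulAut.conjNormal g : MulAut A).toMonoidHom
        map_one' := by
          refine AddMonoidHom.ext fun v => Additive.toMul.injective (Subtype.ext ?_)
          change ((MulAut.conjNormal (1 : G)) (Additive.toMul v) : G) = ((Additive.toMul v : A) : G)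
          simp
        map_mul' := fun g h => by
          refine AddMonoidHom.ext fun v => Additive.toMul.injective (Subtype.ext ?_)
          change ((MulAut.conjNormal (g * h)) (Additive.toMul v) : G) =
            ((MulAut.conjNormal g) ((MulAut.conjNormal h) (Additive.toMul v)) : G)
          rw [map_mul]; rfl }
    have hCval : ∀ g : G, ∀ v : A, ((Additive.toMul ((C g - 1) (Additive.ofMul v)) : A) : G) = ⁅g, (v : G)⁆ := by
      intro g v
      rw [commutatorElement_def]
      change (((MulAut.conjNormal g : MulAut A) v / v : A) : G) = _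
      rw [div_eq_mul_inv, Subgroup.coe_mul, Subgroup.coe_inv]
      rfl
    have hsq : ∀ g : G, (C g - 1) * (C g - 1) = 0 := by
      intro g
      refine AddMonoidHom.ext fun v => ?_
      obtain ⟨w, rfl⟩ := Additive.ofMul.surjective v
      refine Additive.toMul.injective (Subtype.ext ?_)
      have h1 := hCval g (Additive.toMul ((C g - 1) (Additive.ofMul w)))
      rw [ofMul_toMul, hCval g w] at h1
      refine h1.trans ?_
      show ⁅g, ⁅g, (w : G)⁆⁆ = 1
      rw [commutatorElement_eq_one_iff_commute, commutatorElement_def]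
      have h2 := hE g (w : G)
      have e : g * (w : G) * g⁻¹ * (w : G)⁻¹ = g * ((w : G) * g * (w : G)⁻¹)⁻¹ := by group
      rw [e]
      exact (Commute.refl g).mul_right h2.inv_right
    obtain ⟨hanti, hcomm⟩ := engel_ring C hsq b c
    have hval2 : ∀ g h : G, ((Additive.toMul (((C g - 1) * (C h - 1))
        (Additive.ofMul (⟨a, Subgroup.subset_normalClosure rfl⟩ : A))) : A) : G) = ⁅g, ⁅h, a⁆⁆ := by
      intro g h
      have h1 := hCval g (Additive.toMul ((C h - 1) (Additive.ofMul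
        (⟨a, Subgroup.subset_normalClosure rfl⟩ : A))))
      rw [ofMul_toMul, hCval h] at h1
      exact h1
    refine ⟨?_, ?_, ?_⟩
    · rw [← hval2 c b, ← hval2 b c, ← Subgroup.coe_mul, ← toMul_add]
      change ((Additive.toMul (((C c - 1) * (C b - 1) + (C b - 1) * (C c - 1))
        (Additive.ofMul (⟨a, Subgroup.subset_normalClosure rfl⟩ : A))) : A) : G) = 1
      rw [hanti]
      rfl
    · have hm : ⁅b, a⁆ ∈ A := by
        rw [commutatorElement_def]
        exact A.mul_mem ((inferInstance : A.Normal).conj_mem _ (Subgroup.subset_normalClosure rfl) b)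
          (A.inv_mem (Subgroup.subset_normalClosure rfl))
      have h1 := hCval c ⟨_, hm⟩
      have h2 := hCval c ⟨_, A.inv_mem hm⟩
      rw [show ⁅a, b⁆ = ⁅b, a⁆⁻¹ from (commutatorElement_inv b a).symm, ← h2, ← h1, ← Subgroup.coe_mul,
        ← toMul_add, ← map_add, show (⟨_, A.inv_mem hm⟩ : A) = (⟨_, hm⟩ : A)⁻¹ from rfl, ofMul_inv,
        add_neg_cancel, map_zero]
      rfl
    · have h1 := hCval ⁅c, b⁆ ⟨a, Subgroup.subset_normalClosure rfl⟩
      rw [hcomm] at h1
      rw [← h1, pow_two, ← hval2 c b, ← Subgroup.coe_mul, ← toMul_add]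
      rfl
  obtain ⟨-, h2, h3⟩ := alt x y z
  obtain ⟨k1, -, -⟩ := alt y x z
  have e1 : ⁅z, ⁅x, y⁆⁆ = ⁅z, ⁅y, x⁆⁆⁻¹ := eq_inv_of_mul_eq_one_right h2
  have e2 : ⁅x, ⁅z, y⁆⁆ = ⁅z, ⁅y, x⁆⁆ := by
    rw [eq_inv_of_mul_eq_one_right k1, e1, inv_inv]
  rw [← commutatorElement_inv x ⁅z, y⁆, e2] at h3
  rw [pow_succ, ← h3, inv_mul_cancel]

include hE in
/-- Without elements of order three such a group has class at most two. -/
theorem commutatorElement_mem_center [Finite G] (h3 : ¬ 3 ∣ Nat.card G) (x y : G) :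
    ⁅y, x⁆ ∈ Subgroup.center G := by
  rw [Subgroup.mem_center_iff]
  intro z
  refine commutatorElement_eq_one_iff_commute.1 (orderOf_eq_one_iff.1 ?_)
  exact Nat.eq_one_of_dvd_coprimes (Nat.prime_three.coprime_iff_not_dvd.2 h3)
    (orderOf_dvd_of_pow_eq_one (triple_commutator_pow_three hE x y z)) (orderOf_dvd_natCard _)

end Engel

section FPF

variable {N : Subgroup G} [N.Normal] [Finite G] {t : G} (ht : t ^ 3 = 1)
  (hfix : ∀ v ∈ N, t * v = v * t → v = 1)

include hfix in
theorem exists_conj_fpf {g : G} (hg : g ∈ N) : ∃ a ∈ N, a * t * a⁻¹ = g * t := by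
  let f : N → N := fun a =>
    ⟨(a : G) * (t * (a : G)⁻¹ * t⁻¹), N.mul_mem a.2 ((inferInstance : N.Normal).conj_mem _ (N.inv_mem a.2) t)⟩
  have hinj : Function.Injective f := by
    intro a b hab
    have e : (a : G) * (t * (a : G)⁻¹ * t⁻¹) = (b : G) * (t * (b : G)⁻¹ * t⁻¹) :=
      congrArg Subtype.val hab
    refine Subtype.ext (inv_mul_eq_one.1 (hfix _ (N.mul_mem (N.inv_mem b.2) a.2) ?_)).symm
    calc t * ((b : G)⁻¹ * a) = (b : G)⁻¹ * ((b : G) * (t * (b : G)⁻¹ * t⁻¹)) * t * a := by group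
      _ = (b : G)⁻¹ * ((a : G) * (t * (a : G)⁻¹ * t⁻¹)) * t * a := by rw [e]
      _ = ((b : G)⁻¹ * a) * t := by group
  obtain ⟨a, ha⟩ := Finite.surjective_of_injective hinj ⟨g, hg⟩
  refine ⟨a, a.2, ?_⟩
  have e : (a : G) * (t * (a : G)⁻¹ * t⁻¹) = g := congrArg Subtype.val ha
  rw [← e]
  group

include ht hfix in
theorem prod_fpf_three {x : G} (hx : x ∈ N) : x * (t * x * t⁻¹) * (t⁻¹ * x * t) = 1 := by
  obtain ⟨a, -, ha⟩ := exists_conj_fpf hfix hx
  have h : (x * t) ^ 3 = 1 := by rw [← ha, conj_pow, ht]; group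
  have ht2 : t⁻¹ = t * t := inv_eq_of_mul_eq_one_right (by rw [← ht, pow_three])
  rw [← h]
  calc x * (t * x * t⁻¹) * (t⁻¹ * x * t) = x * t * x * (t⁻¹ * t⁻¹) * x * t := by group
    _ = x * t * x * ((t * t * t) * t) * x * t := by rw [ht2]; group
    _ = x * t * x * t * x * t := by rw [show t * t * t = 1 by rw [← ht, pow_three, mul_assoc], one_mul]
    _ = _ := by simp [pow_succ, mul_assoc]

include ht hfix in
theorem commute_conj_fpf_three {x : G} (hx : x ∈ N) : Commute x (t * x * t⁻¹) := by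
  have hfix' : ∀ v ∈ N, t⁻¹ * v = v * t⁻¹ → v = 1 := fun v hv h => hfix v hv <| by
    calc t * v = t * (v * t⁻¹) * t := by group
      _ = t * (t⁻¹ * v) * t := by rw [h]
      _ = v * t := by group
  have h1 := prod_fpf_three ht hfix hx
  have h2 := prod_fpf_three (t := t⁻¹) (by rw [inv_pow, ht, inv_one]) hfix' hx
  rw [inv_inv] at h2
  have e1 : (t * x * t⁻¹) * (t⁻¹ * x * t) = x⁻¹ :=
    eq_inv_of_mul_eq_one_right (by rw [← h1]; group)
  have e2 : (t⁻¹ * x * t) * (t * x * t⁻¹) = x⁻¹ :=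
    eq_inv_of_mul_eq_one_right (by rw [← h2]; group)
  have e3 : t⁻¹ * x * t = (t * x * t⁻¹)⁻¹ * x⁻¹ := by rw [← e1]; group
  rw [e3] at e2
  show x * (t * x * t⁻¹) = (t * x * t⁻¹) * x
  calc x * (t * x * t⁻¹) = (t * x * t⁻¹) * ((t * x * t⁻¹)⁻¹ * x⁻¹ * (t * x * t⁻¹))⁻¹ *
        ((t * x * t⁻¹)⁻¹ * (t * x * t⁻¹)) := by group
    _ = _ := by rw [e2]; group

include ht hfix in
/-- A group with a fixed-point-free automorphism of order three has all elements commuting with
their conjugates. -/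
theorem engel_fpf_three (x h : N) : Commute x (h * x * h⁻¹) := by
  -- every element of the coset of `t` is fixed-point-free of order three
  have key : ∀ g ∈ N, ∀ y ∈ N, Commute y (g * (t * y * t⁻¹) * g⁻¹) := by
    intro g hg y hy
    obtain ⟨a, haN, ha⟩ := exists_conj_fpf hfix hg
    have := commute_conj_fpf_three (t := g * t) (by rw [← ha, conj_pow, ht]; group) (fun v hv hc => by
      have h1 : a⁻¹ * v * a = 1 := hfix _ (N.mul_mem (N.mul_mem (N.inv_mem haN) hv) haN) (by
        calc t * (a⁻¹ * v * a) = a⁻¹ * ((a * t * a⁻¹) * v) * a := by group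
          _ = a⁻¹ * (v * (a * t * a⁻¹)) * a := by rw [ha, hc]
          _ = a⁻¹ * v * a * t := by group)
      calc v = a * (a⁻¹ * v * a) * a⁻¹ := by group
        _ = 1 := by rw [h1]; group) hy
    have e : g * t * y * (g * t)⁻¹ = g * (t * y * t⁻¹) * g⁻¹ := by group
    rwa [e] at this
  have hfix' : ∀ v ∈ N, t⁻¹ * v = v * t⁻¹ → v = 1 := fun v hv h => hfix v hv <| by
    calc t * v = t * (v * t⁻¹) * t := by group
      _ = t * (t⁻¹ * v) * t := by rw [h]
      _ = v * t := by group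
  have hcm : ∀ u : G, ∀ g y : G, Commute y (g * u * g⁻¹) → Commute (g⁻¹ * y * g) u := by
    intro u g y hc
    have := hc.map (MulAut.conj g⁻¹).toMonoidHom
    simpa [mul_assoc] using this
  have h1 := hcm _ _ _ (key (h : G)⁻¹ (N.inv_mem h.2) (x : G) x.2)
  have hy : (t * (x : G) * t⁻¹) ∈ N := (inferInstance : N.Normal).conj_mem _ x.2 t
  have h2 := hcm _ _ _ (key (h : G)⁻¹ (N.inv_mem h.2) _ hy)
  -- `h2` is the same statement for the image of `x`
  have h3 : Commute ((h : G)⁻¹⁻¹ * (x : G) * (h : G)⁻¹) (t⁻¹ * (x : G) * t) := by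
    let s := t⁻¹
    obtain ⟨a, haN, ha⟩ := exists_conj_fpf (t := t⁻¹) hfix' (N.inv_mem h.2)
    have h4 := commute_conj_fpf_three (t := (h : G)⁻¹ * t⁻¹)
      (by rw [← ha, conj_pow, inv_pow, ht]; group) (fun v hv hc => by
      have h5 : a⁻¹ * v * a = 1 := hfix' _ (N.mul_mem (N.mul_mem (N.inv_mem haN) hv) haN) (by
        calc t⁻¹ * (a⁻¹ * v * a) = a⁻¹ * ((a * t⁻¹ * a⁻¹) * v) * a := by group
          _ = a⁻¹ * (v * (a * t⁻¹ * a⁻¹)) * a := by rw [ha, hc]
          _ = a⁻¹ * v * a * t⁻¹ := by group)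
      calc v = a * (a⁻¹ * v * a) * a⁻¹ := by group
        _ = 1 := by rw [h5]; group) x.2
    refine hcm _ _ _ ?_
    have e : (h : G)⁻¹ * t⁻¹ * (x : G) * ((h : G)⁻¹ * t⁻¹)⁻¹ = (h : G)⁻¹ * (t⁻¹ * (x : G) * t) * (h : G)⁻¹⁻¹ := by
      group
    rwa [e] at h4
  have h6 := (h1.mul_right h3).inv_right
  have e : ((t * (x : G) * t⁻¹) * (t⁻¹ * (x : G) * t))⁻¹ = (x : G) := by
    rw [eq_inv_of_mul_eq_one_right (show (x : G) * ((t * x * t⁻¹) * (t⁻¹ * x * t)) = 1 by
      rw [← prod_fpf_three ht hfix x.2]; group), inv_inv]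
  rw [e, inv_inv] at h6
  exact Subtype.ext h6.eq.symm

end FPF

end CfsgLib.SchurExt
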