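import Mathlib
import Cfsg.Agent.Lib.ElementOrders.Frobenius

/-!
Frobenius' theorem on the number of solutions of `x ^ m = 1`, and a variant for elements of order a
multiple of a given number.
-/

set_option autoImplicit false

namespace CfsgLib.SchurExt

open CfsgLib.ElementOrders

variable {G : Type*} [Group G] [Finite G]

/-- The number of elements of a given order is divisible by its totient. -/
theorem totient_dvd_card_orderOf (n : ℕ) : n.totient ∣ Nat.card {g : G // orderOf g = n} := by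
  classical
  let _ : Fintype G := Fintype.ofFinite G
  rw [Nat.card_eq_fintype_card, Fintype.card_subtype]
  rw [Finset.card_eq_sum_card_image (fun g : G => Subgroup.zpowers g)]
  refine Finset.dvd_sum fun C hC => ?_
  obtain ⟨g, hg, rfl⟩ := Finset.mem_image.1 hC
  have hgn : orderOf g = n := (Finset.mem_filter.1 hg).2
  refine dvd_of_eq ?_
  rw [← IsCyclic.card_orderOf_eq_totient (α := Subgroup.zpowers g) (d := n)
    (by rw [← Nat.card_eq_fintype_card, Nat.card_zpowers, hgn])]
  refine Finset.card_bij (fun x _ => (x : G)) ?_ (fun a _ b _ h => Subtype.ext h) ?_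
  · intro x hx
    have hx' : orderOf (x : G) = n := by
      rw [Subgroup.orderOf_coe]; exact (Finset.mem_filter.1 hx).2
    refine Finset.mem_filter.2 ⟨Finset.mem_filter.2 ⟨Finset.mem_univ _, hx'⟩, ?_⟩
    exact Subgroup.eq_of_le_of_card_ge (Subgroup.zpowers_le.2 x.2)
      (by rw [Nat.card_zpowers, Nat.card_zpowers, hx', hgn])
  · intro x hx
    obtain ⟨hx1, hx2⟩ := Finset.mem_filter.1 hx
    refine ⟨⟨x, hx2 ▸ Subgroup.mem_zpowers x⟩, Finset.mem_filter.2 ⟨Finset.mem_univ _, ?_⟩, rfl⟩
    rw [Subgroup.orderOf_mk]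
    exact (Finset.mem_filter.1 hx1).2

/-- Frobenius' theorem for prime powers. -/
theorem prime_pow_dvd_card_pow_eq_one {q : ℕ} (hq : q.Prime) {k : ℕ} (hk : q ^ k ∣ Nat.card G) :
    q ^ k ∣ Nat.card {g : G // g ^ (q ^ k) = 1} := by
  have hle := (hq.pow_dvd_iff_le_factorization Nat.card_pos.ne').1 hk
  induction hd : (Nat.card G).factorization q - k generalizing k with
  | zero =>
    have : k = (Nat.card G).factorization q := by omega
    subst this
    exact ordProj_dvd_card_pow_ordProj_eq_one q hq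
  | succ d IH =>
    have hk1 : q ^ (k + 1) ∣ Nat.card G :=
      (hq.pow_dvd_iff_le_factorization Nat.card_pos.ne').2 (by omega)
    have h1 := (pow_dvd_pow q k.le_succ).trans (IH hk1 (by omega) (by omega))
    have h2 : q ^ k ∣ Nat.card {g : G // orderOf g = q ^ (k + 1)} := by
      refine dvd_trans ?_ (totient_dvd_card_orderOf _)
      rw [Nat.totient_prime_pow_succ hq]
      exact dvd_mul_right _ _
    have hsum : Nat.card {g : G // g ^ (q ^ (k + 1)) = 1} =
        Nat.card {g : G // g ^ (q ^ k) = 1} + Nat.card {g : G // orderOf g = q ^ (k + 1)} := by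
      classical
      rw [← Nat.card_sum]
      refine Nat.card_congr ((Equiv.subtypeEquivRight fun g => ?_).trans (subtypeOrEquiv _ _ ?_))
      · simp only [← orderOf_dvd_iff_pow_eq_one]
        refine ⟨fun h => ?_, ?_⟩
        · obtain ⟨i, hi, hig⟩ := (Nat.dvd_prime_pow hq).1 h
          rcases hi.lt_or_eq with hlt | rfl
          · exact Or.inl (hig ▸ pow_dvd_pow q (Nat.lt_succ_iff.1 hlt))
          · exact Or.inr hig
        · rintro (h | h)
          · exact h.trans (pow_dvd_pow q k.le_succ)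
          · exact h.dvd
      · rw [disjoint_iff_inf_le]
        rintro g ⟨h1, h2⟩
        have hd := orderOf_dvd_iff_pow_eq_one.2 h1
        rw [h2] at hd
        exact absurd ((Nat.pow_dvd_pow_iff_le_right hq.one_lt).1 hd) (by omega)
    exact (Nat.dvd_add_left h2).1 (hsum ▸ h1)

/-- Splitting the solutions of `x ^ (a * b) = 1` along the `b`-part. -/
theorem card_pow_eq_one_split {a b : ℕ} (hab : a.Coprime b) (R : G → Prop) :
    Nat.card {g : G // g ^ (a * b) = 1 ∧ R (g ^ splitExp hab.symm)} =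
      Nat.card (Σ y : {y : G // y ^ b = 1 ∧ R y},
        {x : Subgroup.centralizer ({(y : G)} : Set G) // x ^ a = 1}) := by
  refine Nat.card_congr
    { toFun := fun g => ⟨⟨g.1 ^ splitExp hab.symm,
          pow_splitExp_pow hab.symm ((congrArg (g.1 ^ ·) (mul_comm b a)).trans g.2.1), g.2.2⟩,
        ⟨⟨g.1 ^ splitExp hab, Subgroup.mem_centralizer_singleton_iff.2 (Commute.pow_pow_self g.1 _ _).eq⟩,
          Subtype.ext (pow_splitExp_pow hab g.2.1)⟩⟩
      invFun := fun p => ⟨((p.2 : Subgroup.centralizer ({(p.1 : G)} : Set G)) : G) * (p.1 : G), ?_⟩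
      left_inv := fun g => Subtype.ext (pow_splitExp_mul hab g.2.1)
      right_inv := ?_ }
  · obtain ⟨⟨y, hy, hR⟩, ⟨⟨x, hxc⟩, hx⟩⟩ := p
    have hx' : x ^ a = 1 := congrArg Subtype.val hx
    have hc : Commute x y := Subgroup.mem_centralizer_singleton_iff.1 hxc
    refine ⟨?_, ?_⟩
    · show (x * y) ^ (a * b) = 1
      rw [hc.mul_pow, pow_mul, hx', mul_comm a b, pow_mul, hy, one_pow, one_pow, one_mul]
    · show R ((x * y) ^ splitExp hab.symm)
      rw [hc.mul_pow, pow_splitExp_of_right hab.symm hx', pow_splitExp_of_left hab.symm hy, one_mul]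
      exact hR
  · rintro ⟨⟨y, hy, hR⟩, ⟨⟨x, hxc⟩, hx⟩⟩
    have hx' : x ^ a = 1 := congrArg Subtype.val hx
    have hc : Commute x y := Subgroup.mem_centralizer_singleton_iff.1 hxc
    refine sigma_centralizer_ext (P := fun y => y ^ b = 1 ∧ R y) (Q := fun _ x => x ^ a = 1) _ _ ?_ ?_
    · show (x * y) ^ splitExp hab.symm = y
      rw [hc.mul_pow, pow_splitExp_of_right hab.symm hx', pow_splitExp_of_left hab.symm hy, one_mul]
    · show (x * y) ^ splitExp hab = x
      rw [hc.mul_pow, pow_splitExp_of_right hab hy, pow_splitExp_of_left hab hx', mul_one]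

/-- A class function divisible classwise has divisible sum over an invariant set. -/
theorem dvd_sum_of_class [Fintype G] {N : ℕ} (Y : Finset G) (hY : ∀ y ∈ Y, ∀ g : G, g * y * g⁻¹ ∈ Y)
    (F : G → ℕ) (hF : ∀ y g : G, F (g * y * g⁻¹) = F y)
    (hdvd : ∀ y ∈ Y, N ∣ (Subgroup.centralizer ({y} : Set G)).index * F y) : N ∣ ∑ y ∈ Y, F y := by
  classical
  rw [← Finset.sum_fiberwise_of_maps_to (t := Y.image ConjClasses.mk)
    (fun y hy => Finset.mem_image_of_mem _ hy) F]
  refine Finset.dvd_sum fun C hC => ?_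
  obtain ⟨y, hy, rfl⟩ := Finset.mem_image.1 hC
  have hfib : (↑(Y.filter fun z => ConjClasses.mk z = ConjClasses.mk y) : Set G) =
      (ConjClasses.mk y).carrier := by
    ext z
    simp only [Finset.coe_filter, Set.mem_setOf_eq, ConjClasses.mem_carrier_iff_mk_eq,
      and_iff_right_iff_imp]
    intro hz
    obtain ⟨g, rfl⟩ := isConj_iff.1 (ConjClasses.mk_eq_mk_iff_isConj.1 hz.symm)
    exact hY y hy g
  rw [Finset.sum_congr rfl (g := fun _ => F y) ?_, Finset.sum_const, ← Set.ncard_coe_finset, hfib,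
    smul_eq_mul]
  · have h := ncard_conj_class_mul_card_centralizer y
    rw [← Subgroup.index_mul_card (Subgroup.centralizer ({y} : Set G))] at h
    rw [Nat.eq_of_mul_eq_mul_right Nat.card_pos h]
    exact hdvd y hy
  · intro z hz
    obtain ⟨g, rfl⟩ := isConj_iff.1
      (ConjClasses.mk_eq_mk_iff_isConj.1 (Finset.mem_filter.1 hz).2.symm)
    exact hF y g

/-- The prime-power part of a count of solutions, with a conjugation-invariant condition. -/
theorem prime_pow_dvd_card_split {q j b : ℕ} (hq : q.Prime) (hab : (q ^ j).Coprime b)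
    (hj : q ^ j ∣ Nat.card G) (R : G → Prop) (hR : ∀ y g : G, R y → R (g * y * g⁻¹)) :
    q ^ j ∣ Nat.card {g : G // g ^ (q ^ j * b) = 1 ∧ R (g ^ splitExp hab.symm)} := by
  classical
  let _ : Fintype G := Fintype.ofFinite G
  rw [card_pow_eq_one_split hab R, Nat.card_sigma]
  let F : G → ℕ := fun y => Nat.card {x : Subgroup.centralizer ({y} : Set G) // x ^ (q ^ j) = 1}
  let Y : Finset G := Finset.univ.filter fun y => y ^ b = 1 ∧ R y
  rw [← Finset.sum_subtype Y (p := fun y => y ^ b = 1 ∧ R y) (fun y => by simp [Y]) F]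
  refine dvd_sum_of_class Y (fun y hy g => ?_) F
    (fun y g => card_centralizer_pow_eq_one_conj _ g y) fun y _ => ?_
  · obtain ⟨-, h1, h2⟩ := Finset.mem_filter.1 hy
    exact Finset.mem_filter.2 ⟨Finset.mem_univ _, by simp [conj_pow, h1], hR y g h2⟩
  · obtain ⟨i, -, hi⟩ := (Nat.dvd_prime_pow hq).1
      (Nat.gcd_dvd_left (q ^ j) (Nat.card (Subgroup.centralizer ({y} : Set G))))
    have h1 : q ^ i ∣ F y := by
      show q ^ i ∣ Nat.card {x : Subgroup.centralizer ({y} : Set G) // x ^ (q ^ j) = 1}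
      rw [Nat.card_congr (Equiv.subtypeEquivRight fun x => pow_eq_one_iff_gcd x (q ^ j)), hi]
      exact prime_pow_dvd_card_pow_eq_one hq (hi ▸ Nat.gcd_dvd_right _ _)
    refine dvd_trans ?_ (Nat.mul_dvd_mul_left _ h1)
    rw [← hi, ← Nat.gcd_mul_left]
    exact Nat.dvd_gcd (dvd_mul_left _ _) (by rw [Subgroup.index_mul_card]; exact hj)

/-- **Frobenius' theorem**: if `m` divides `|G|` then `m` divides the number of solutions of `x ^ m = 1`. -/
theorem dvd_card_pow_eq_one_of_dvd {m : ℕ} (hm : m ∣ Nat.card G) :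
    m ∣ Nat.card {g : G // g ^ m = 1} := by
  have hm0 : m ≠ 0 := fun h => Nat.card_pos.ne' (Nat.eq_zero_of_zero_dvd (h ▸ hm))
  refine (Nat.dvd_iff_prime_pow_dvd_dvd _ _).2 fun q k hq hk => ?_
  refine (pow_dvd_pow q ((hq.pow_dvd_iff_le_factorization hm0).1 hk)).trans ?_
  have hab : (ordProj[q] m).Coprime (ordCompl[q] m) := (Nat.coprime_ordCompl hq hm0).pow_left _
  have h := prime_pow_dvd_card_split hq hab ((Nat.ordProj_dvd m q).trans hm) (fun _ : G => True)
    (fun _ _ _ => trivial)
  simp only [Nat.ordProj_mul_ordCompl_eq_self, and_true] at h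
  exact h

/-- A prime power prime to `n` dividing `|G|` divides the number of elements of order a multiple of `n`. -/
theorem ordProj_dvd_card_dvd_orderOf {n q : ℕ} (hq : q.Prime) (hqn : ¬ q ∣ n) :
    ordProj[q] (Nat.card G) ∣ Nat.card {g : G // n ∣ orderOf g} := by
  have hn0 : Nat.card G ≠ 0 := Nat.card_pos.ne'
  have hab : (ordProj[q] (Nat.card G)).Coprime (ordCompl[q] (Nat.card G)) :=
    (Nat.coprime_ordCompl hq hn0).pow_left _
  have h := prime_pow_dvd_card_split hq hab (Nat.ordProj_dvd _ q) (fun y : G => n ∣ orderOf y)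
    (fun y g hy => hy.trans (orderOf_injective (MulAut.conj g).toMonoidHom (MulAut.conj g).injective y).symm.dvd)
  refine h.trans (dvd_of_eq (Nat.card_congr (Equiv.subtypeEquivRight fun g => ?_)))
  have hg : g ^ (ordProj[q] (Nat.card G) * ordCompl[q] (Nat.card G)) = 1 := by
    rw [Nat.ordProj_mul_ordCompl_eq_self]; exact pow_card_eq_one'
  refine ⟨fun h => h.2.trans (orderOf_pow_dvd _), fun h => ⟨hg, ?_⟩⟩
  have hmul := pow_splitExp_mul hab hg
  have hdvd : orderOf g ∣ orderOf (g ^ splitExp hab) * orderOf (g ^ splitExp hab.symm) := by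
    conv_lhs => rw [← hmul]
    exact (Commute.pow_pow_self g _ _).orderOf_mul_dvd_mul_orderOf
  refine Nat.Coprime.dvd_of_dvd_mul_left ?_ (h.trans hdvd)
  obtain ⟨i, -, hi⟩ := (Nat.dvd_prime_pow hq).1 (orderOf_dvd_of_pow_eq_one (pow_splitExp_pow hab hg))
  rw [hi]
  exact ((hq.coprime_iff_not_dvd.2 hqn).symm).pow_right i

end CfsgLib.SchurExt
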