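import Mathlib
import Cfsg.Agent.Lib.Transfer.Abelian
import Cfsg.Agent.Lib.NormalPComplement.Frobenius
import Cfsg.Agent.Lib.BGAppendix.Basic

/-!
The exceptional configuration for groups all of whose proper subgroups of even order have order
`2 ^ i * p ^ j`, with elementary abelian Sylow `2`-subgroups of order `p + 1` and abelian Sylow
`p`-subgroups: it does not occur.
-/

set_option autoImplicit false
set_option linter.style.haveILetI false

open scoped Pointwise commutatorElement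

namespace CfsgLib.SchurExt.MixedPrimes

open Cfsg Subgroup

universe u

variable {G : Type u} [Group G] [Finite G]

/-- `x` has `p`-power order. -/
def Pel (p : ℕ) (x : G) : Prop := ∃ k : ℕ, x ^ p ^ k = 1

/-- `x` is an involution. -/
def Inv2 (x : G) : Prop := x * x = 1 ∧ x ≠ 1

omit [Finite G] in
theorem Inv2.conj {x : G} (h : Inv2 x) (g : G) : Inv2 (g * x * g⁻¹) := by
  refine ⟨?_, fun e => h.2 (conj_eq_one_iff.1 e)⟩
  calc g * x * g⁻¹ * (g * x * g⁻¹) = g * (x * x) * g⁻¹ := by group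
    _ = 1 := by rw [h.1]; group

omit [Finite G] in
theorem Inv2.inv_eq {x : G} (h : Inv2 x) : x⁻¹ = x := inv_eq_of_mul_eq_one_left h.1

omit [Finite G] in
theorem Inv2.orderOf_eq {x : G} (h : Inv2 x) : orderOf x = 2 :=
  orderOf_eq_prime (by rw [sq, h.1]) h.2

omit [Finite G] in
theorem Pel.conj {p : ℕ} {x : G} (h : Pel p x) (g : G) : Pel p (g * x * g⁻¹) := by
  obtain ⟨k, hk⟩ := h
  exact ⟨k, by rw [conj_pow, hk, mul_one, mul_inv_cancel]⟩

omit [Finite G] in
theorem Pel.isPGroup {p : ℕ} [Fact p.Prime] {x : G} (h : Pel p x) : IsPGroup p (zpowers x) := by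
  obtain ⟨k, hk⟩ := h
  obtain ⟨j, -, hj⟩ := (Nat.dvd_prime_pow Fact.out).1 (orderOf_dvd_of_pow_eq_one hk)
  exact IsPGroup.of_card (n := j) (by rw [Nat.card_zpowers, hj])

omit [Finite G] in
theorem pel_of_mem {p : ℕ} {H : Subgroup G} (hH : IsPGroup p H) {x : G} (hx : x ∈ H) : Pel p x := by
  obtain ⟨k, hk⟩ := hH ⟨x, hx⟩
  exact ⟨k, by simpa using congrArg Subtype.val hk⟩

omit [Finite G] in
/-- An element is recovered from two coprime powers. -/
theorem mem_of_two_pows {S : Subgroup G} {n : G} {a c : ℕ} (h : a.Coprime c) (ha : n ^ a ∈ S)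
    (hc : n ^ c ∈ S) : n ∈ S := by
  have h1 : n ^ (Nat.gcd a c : ℤ) ∈ S := by
    rw [Nat.gcd_eq_gcd_ab, zpow_add, zpow_mul, zpow_mul, zpow_natCast, zpow_natCast]
    exact S.mul_mem (S.zpow_mem ha _) (S.zpow_mem hc _)
  rwa [h.gcd_eq_one, Nat.cast_one, zpow_one] at h1

theorem isPGroup_of_primes {p : ℕ} [Fact p.Prime] {H : Subgroup G}
    (h : ∀ r : ℕ, r.Prime → r ∣ Nat.card H → r = p) : IsPGroup p H :=
  IsPGroup.of_card (n := (Nat.card H).primeFactorsList.length)
    (Nat.eq_prime_pow_of_unique_prime_dvd Nat.card_pos.ne' fun {r} hr hd => h r hr hd)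

omit [Finite G] in
theorem mem_normalizer_zpowers {x s : G} (h : s * x * s⁻¹ = x⁻¹ ∨ s * x * s⁻¹ = x) (hs : s * s = 1) :
    s ∈ normalizer ((zpowers x : Subgroup G) : Set G) := by
  have h1 : ∀ y ∈ zpowers x, s * y * s⁻¹ ∈ zpowers x := by
    rintro - ⟨i, rfl⟩
    show s * x ^ i * s⁻¹ ∈ zpowers x
    rw [← conj_zpow]
    rcases h with h | h <;> rw [h]
    · exact zpow_mem (inv_mem (mem_zpowers x)) i
    · exact zpow_mem (mem_zpowers x) i
  rw [mem_normalizer_iff]
  refine fun y => ⟨h1 y, fun hy => ?_⟩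
  have hinv : s⁻¹ = s := inv_eq_of_mul_eq_one_left hs
  have := h1 _ hy
  rwa [hinv, ← mul_assoc, ← mul_assoc, hs, one_mul, mul_assoc, hs, mul_one] at this

/-- The friendship theorem, for a regular symmetric relation. -/
theorem friendship_absurd {I : Type*} [Fintype I] [DecidableEq I] (R : I → I → Prop) [DecidableRel R]
    (hsymm : ∀ s t, R s t → R t s) (hirr : ∀ s, ¬ R s s) (k : ℕ) (hk : 3 ≤ k)
    (hreg : ∀ s, (Finset.univ.filter (R s)).card = k)
    (huniq : ∀ s t, s ≠ t → (Finset.univ.filter fun v => R s v ∧ R v t).card = 1) (hI : Nonempty I) :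
    False := by
  obtain ⟨l, hl, hld⟩ := Nat.exists_prime_and_dvd (show k - 1 ≠ 1 by omega)
  haveI : Fact l.Prime := ⟨hl⟩
  have hk1 : ((k : ℕ) : ZMod l) = 1 := by
    have h1 := (ZMod.natCast_eq_zero_iff _ _).2 hld
    rwa [Nat.cast_sub (by omega : 1 ≤ k), Nat.cast_one, sub_eq_zero] at h1
  let A : Matrix I I (ZMod l) := Matrix.of fun s t => if R s t then 1 else 0
  let J : Matrix I I (ZMod l) := Matrix.of fun _ _ => 1
  have hAA : A * A = J := by
    ext s t
    rw [Matrix.mul_apply]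
    show ∑ v, (if R s v then (1 : ZMod l) else 0) * (if R v t then 1 else 0) = 1
    simp only [ite_mul, one_mul, zero_mul, ← ite_and, Finset.sum_boole]
    by_cases hst : s = t
    · subst hst
      rw [show (Finset.univ.filter fun v => R s v ∧ R v s) = Finset.univ.filter (R s) from
        Finset.filter_congr fun v _ => ⟨fun h => h.1, fun h => ⟨h, hsymm _ _ h⟩⟩, hreg, hk1]
    · rw [huniq s t hst, Nat.cast_one]
  have hAJ : A * J = J := by
    ext s t
    rw [Matrix.mul_apply]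
    show ∑ v, (if R s v then (1 : ZMod l) else 0) * 1 = 1
    simp only [mul_one, Finset.sum_boole, hreg, hk1]
  have hpow : ∀ m : ℕ, A ^ (m + 2) = J := by
    intro m
    induction m with
    | zero => rw [zero_add, pow_two, hAA]
    | succ m ih => rw [pow_succ', ih, hAJ]
  have hJJ : J * J = J := by
    calc J * J = A * (A * J) := by rw [← hAA, Matrix.mul_assoc, hAA]
      _ = J := by rw [hAJ, hAJ]
  obtain ⟨s⟩ := hI
  have hn : ((Fintype.card I : ℕ) : ZMod l) = 1 := by
    have h1 := congrFun (congrFun hJJ s) s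
    rw [Matrix.mul_apply] at h1
    simpa [J, Finset.card_univ] using h1
  have htr : Matrix.trace (A ^ l) = Matrix.trace A ^ l := ZMod.trace_pow_card A
  have hA0 : Matrix.trace A = 0 := Finset.sum_eq_zero fun v _ => if_neg (hirr v)
  obtain ⟨m, hm⟩ : ∃ m, l = m + 2 := ⟨l - 2, by have := hl.two_le; omega⟩
  rw [hA0, zero_pow hl.ne_zero, show A ^ l = J from (congrArg (A ^ ·) hm).trans (hpow m)] at htr
  have h2 : Matrix.trace J = ((Fintype.card I : ℕ) : ZMod l) := by simp [Matrix.trace, J]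
  rw [h2, hn] at htr
  exact one_ne_zero htr

/-- The configuration. -/
structure Hyp (G : Type u) [Group G] (p b : ℕ) : Prop where
  hp : p.Prime
  hp2 : p ≠ 2
  hpb : p + 1 = 2 ^ b
  hpG : p ∣ Nat.card G
  qcard : ∀ Q : Sylow 2 G, Nat.card Q = 2 ^ b
  qexp : ∀ Q : Sylow 2 G, ∀ a ∈ Q, a * a = 1
  hab : ∀ P : Sylow p G, IsMulCommutative P
  simple : ∀ M : Subgroup G, M.Normal → M = ⊥ ∨ M = ⊤
  trans : ∀ Q : Sylow 2 G, ∀ a ∈ Q, ∀ c ∈ Q, a ≠ 1 → c ≠ 1 →
    ∃ g ∈ normalizer (Q : Set G), Pel p g ∧ g * a * g⁻¹ = c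
  prim : ∀ H : Subgroup G, H ≠ ⊤ → 2 ∣ Nat.card H → ∀ r : ℕ, r.Prime → r ∣ Nat.card H → r = p ∨ r = 2
  noinv : ∀ x : G, (orderOf x).Prime → orderOf x ≠ p → orderOf x ≠ 2 →
    ∀ z : G, Inv2 z → z * x * z⁻¹ ≠ x⁻¹

namespace Hyp

variable {p b : ℕ} [Fact p.Prime] (h : Hyp G p b)
include h

omit [Fact p.Prime] [Finite G] in
theorem two_le : 2 ≤ b := by
  by_contra hb
  have h1 := h.hpb
  have h2 := h.hp.two_le
  interval_cases b <;> omega

omit [Finite G] in
theorem pel_eq_one {x : G} (hx : Pel p x) (h2 : x * x = 1) : x = 1 := by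
  obtain ⟨k, hk⟩ := hx
  have hcop : Nat.Coprime 2 (p ^ k) := ((Nat.coprime_primes Nat.prime_two h.hp).2 h.hp2.symm).pow_right k
  exact mem_bot.1 (mem_of_two_pows (S := ⊥) hcop (mem_bot.2 (by rw [sq, h2])) (mem_bot.2 hk))

theorem sylow_ne_bot (Q : Sylow 2 G) : (Q : Subgroup G) ≠ ⊥ := by
  intro e
  have h1 := h.qcard Q
  rw [e, Subgroup.card_bot] at h1
  have := h.hpb
  have := h.hp.two_le
  omega

theorem two_dvd : 2 ∣ Nat.card G := by
  obtain ⟨Q⟩ := (inferInstance : Nonempty (Sylow 2 G))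
  refine Dvd.dvd.trans ?_ (Subgroup.card_subgroup_dvd_card (Q : Subgroup G))
  rw [h.qcard Q]
  exact dvd_pow_self 2 (by have := h.two_le; omega)

theorem two_dvd_of_sylow_le {Q : Sylow 2 G} {H : Subgroup G} (hQ : (Q : Subgroup G) ≤ H) :
    2 ∣ Nat.card H := by
  refine Dvd.dvd.trans ?_ (Subgroup.card_dvd_of_le hQ)
  rw [h.qcard Q]
  exact dvd_pow_self 2 (by have := h.two_le; omega)

theorem two_dvd_of_inv {H : Subgroup G} {z : G} (hz : Inv2 z) (hzH : z ∈ H) : 2 ∣ Nat.card H := by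
  rw [← hz.orderOf_eq, ← Subgroup.orderOf_mk z hzH]
  exact orderOf_dvd_natCard _

omit [Fact p.Prime] in
theorem exists_sylow_two {z : G} (hz : Inv2 z) : ∃ Q : Sylow 2 G, z ∈ Q := by
  haveI : Fact (Nat.Prime 2) := ⟨Nat.prime_two⟩
  have hp : IsPGroup 2 (zpowers z) := Pel.isPGroup ⟨1, by rw [pow_one, sq, hz.1]⟩
  obtain ⟨Q, hQ⟩ := hp.exists_le_sylow
  exact ⟨Q, hQ (mem_zpowers z)⟩

omit [Fact p.Prime] [Finite G] in
theorem qcomm (Q : Sylow 2 G) {a c : G} (ha : a ∈ Q) (hc : c ∈ Q) : a * c = c * a := by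
  have e1 := h.qexp Q _ ha
  have e2 := h.qexp Q _ hc
  have e3 := h.qexp Q _ ((Q : Subgroup G).mul_mem ha hc)
  calc a * c = (a * c)⁻¹ := (inv_eq_of_mul_eq_one_left e3).symm
    _ = c⁻¹ * a⁻¹ := mul_inv_rev a c
    _ = c * a := by rw [inv_eq_of_mul_eq_one_left e1, inv_eq_of_mul_eq_one_left e2]

omit [Fact p.Prime] [Finite G] in
theorem inv2_of_mem (Q : Sylow 2 G) {a : G} (ha : a ∈ Q) (ha1 : a ≠ 1) : Inv2 a := ⟨h.qexp Q a ha, ha1⟩

theorem pel_of_mem_sylow (P : Sylow p G) {x : G} (hx : x ∈ P) : Pel p x := pel_of_mem P.isPGroup' hx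

theorem ptrivial {Q : Sylow 2 G} {x : G} (hx : Pel p x) (hxQ : x ∈ Q) : x = 1 :=
  h.pel_eq_one hx (h.qexp Q x hxQ)

theorem exists_sylow_p {x : G} (hx : Pel p x) : ∃ P : Sylow p G, x ∈ P := by
  obtain ⟨P, hP⟩ := hx.isPGroup.exists_le_sylow
  exact ⟨P, hP (mem_zpowers x)⟩

theorem psylow_ne_bot (P : Sylow p G) : (P : Subgroup G) ≠ ⊥ := P.ne_bot_of_dvd_card h.hpG

theorem top_not_pgroup {H : Subgroup G} (hH : IsPGroup p H) : H ≠ ⊤ := by
  rintro rfl
  obtain ⟨k, hk⟩ := IsPGroup.iff_card.1 hH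
  rw [Subgroup.card_top] at hk
  have h2 := h.two_dvd
  rw [hk] at h2
  exact h.hp2 ((Nat.prime_dvd_prime_iff_eq Nat.prime_two h.hp).1 (Nat.prime_two.dvd_of_dvd_pow h2)).symm

theorem normalizer_ne_top {U : Subgroup G} (hU : IsPGroup p U) (hne : U ≠ ⊥) :
    normalizer (U : Set G) ≠ ⊤ := by
  intro e
  rcases h.simple U (normalizer_eq_top_iff.1 e) with e' | e'
  · exact hne e'
  · exact h.top_not_pgroup hU e'

theorem centralizer_inv_ne_top {z : G} (hz : Inv2 z) : centralizer ({z} : Set G) ≠ ⊤ := by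
  intro e
  have hc : ∀ g : G, g * z = z * g := fun g => mem_centralizer_singleton_iff.1 (e ▸ mem_top g)
  have hn : (zpowers z).Normal := ⟨fun y hy g => by
    obtain ⟨i, rfl⟩ := hy
    show g * z ^ i * g⁻¹ ∈ zpowers z
    rw [← conj_zpow, hc g, mul_inv_cancel_right]
    exact zpow_mem (mem_zpowers z) i⟩
  rcases h.simple _ hn with e' | e'
  · exact hz.2 (zpowers_eq_bot.1 e')
  · have h1 : Nat.card G = 2 := by rw [← Subgroup.card_top (G := G), ← e', Nat.card_zpowers, hz.orderOf_eq]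
    have h2 := h.hpG
    rw [h1] at h2
    exact h.hp2 ((Nat.prime_dvd_prime_iff_eq h.hp Nat.prime_two).1 h2)

theorem pel_mem_of_normalizes (P : Sylow p G) {x : G} (hx : Pel p x) (hn : x ∈ normalizer (P : Set G)) :
    x ∈ P := by
  have h1 : x ∈ zpowers x ⊓ (P : Subgroup G) :=
    (IsPGroup.inf_normalizer_sylow hx.isPGroup P).le ⟨mem_zpowers x, hn⟩
  exact h1.2

/-- A proper subgroup of even order is generated by any two Sylow subgroups of `G` inside it. -/
theorem le_of_sylows {H K : Subgroup G} (hH : H ≠ ⊤) (P : Sylow p G) (Q : Sylow 2 G)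
    (hP : (P : Subgroup G) ≤ K) (hQ : (Q : Subgroup G) ≤ K) (hKH : K ≤ H) : H ≤ K := by
  haveI : Fact (Nat.Prime 2) := ⟨Nat.prime_two⟩
  rw [← relIndex_eq_one]
  by_contra hne
  obtain ⟨r, hr, hrd⟩ := Nat.exists_prime_and_dvd hne
  have hd : K.relIndex H ∣ Nat.card H := Subgroup.relIndex_dvd_card K H
  have h2 : ∀ S : Subgroup G, S ≤ K → K.relIndex H ∣ S.index := fun S hS =>
    ((Dvd.intro_left _ (relIndex_mul_relIndex S K H hS hKH)).trans
      (relIndex_dvd_index_of_le (hS.trans hKH)))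
  rcases h.prim H hH (h.two_dvd_of_sylow_le (hQ.trans hKH)) r hr (hrd.trans hd) with rfl | rfl
  · exact P.not_dvd_index (hrd.trans (h2 _ hP))
  · exact Q.not_dvd_index (hrd.trans (h2 _ hQ))

/-- A `p`-element acting on a Sylow `2`-subgroup either centralises it or permutes its involutions
transitively. -/
theorem orbit {Q : Sylow 2 G} {g : G} (hg : Pel p g) (hgQ : g ∈ normalizer (Q : Set G)) {a : G}
    (ha : a ∈ Q) (ha1 : a ≠ 1) :
    (g * a = a * g → ∀ c ∈ Q, g * c = c * g) ∧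
      (g * a ≠ a * g → ∀ c ∈ Q, c ≠ 1 → ∃ k : ℤ, g ^ k * a * (g ^ k)⁻¹ = c) := by
  haveI : Finite (ConjAct G) := Finite.of_equiv G ConjAct.toConjAct.toEquiv
  set K : Subgroup (ConjAct G) := zpowers (ConjAct.toConjAct g) with hK
  have hKp : IsPGroup p K := by
    obtain ⟨k, hk⟩ := hg
    exact Pel.isPGroup ⟨k, by rw [← map_pow, hk, map_one]⟩
  have hmem : ∀ c ∈ Q, ∀ d ∈ MulAction.orbit K c, ∃ k : ℤ, g ^ k * c * (g ^ k)⁻¹ = d := by
    rintro c - d ⟨⟨σ, i, rfl⟩, rfl⟩
    refine ⟨i, ?_⟩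
    show _ = (ConjAct.toConjAct g) ^ i • c
    rw [← map_zpow, ConjAct.toConjAct_smul]
  have hsub : ∀ c ∈ Q, c ≠ 1 → MulAction.orbit K c ⊆ {d : G | d ∈ Q ∧ d ≠ 1} := by
    intro c hc hc1 d hd
    obtain ⟨k, rfl⟩ := hmem c hc d hd
    exact ⟨(mem_normalizer_iff.1 (zpow_mem hgQ k) c).1 hc, fun e => hc1 (conj_eq_one_iff.1 e)⟩
  have hcardQ : {d : G | d ∈ Q ∧ d ≠ 1}.ncard = p := by
    have h1 : {d : G | d ∈ Q ∧ d ≠ 1} = ((Q : Subgroup G) : Set G) \ {1} := by ext d; simp
    have h2 : ((Q : Subgroup G) : Set G).ncard = p + 1 := by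
      rw [← Nat.card_coe_set_eq, h.hpb]; exact h.qcard Q
    rw [h1, Set.ncard_diff_singleton_of_mem (one_mem (Q : Subgroup G)), h2, Nat.add_sub_cancel]
  have hsize : ∀ c : G, ∃ i, (MulAction.orbit K c).ncard = p ^ i := fun c => by
    obtain ⟨i, hi⟩ := hKp.index (MulAction.stabilizer K c)
    exact ⟨i, by rw [← MulAction.index_stabilizer, hi]⟩
  have hfix : ∀ c : G, (∀ d ∈ MulAction.orbit K c, d = c) → g * c = c * g := fun c hc => by
    have h1 : g * c * g⁻¹ = c := hc _ ⟨⟨_, mem_zpowers _⟩, by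
      show ConjAct.toConjAct g • c = _
      rw [ConjAct.toConjAct_smul]⟩
    calc g * c = (g * c * g⁻¹) * g := by group
      _ = c * g := by rw [h1]
  refine ⟨fun hcomm c hc => ?_, fun hne c hc hc1 => ?_⟩
  · by_cases hc1 : c = 1
    · rw [hc1, mul_one, one_mul]
    by_cases hca : c = a
    · rw [hca, hcomm]
    refine hfix c fun d hd => ?_
    obtain ⟨i, hi⟩ := hsize c
    have hnot : a ∉ MulAction.orbit K c := fun ha' => by
      obtain ⟨k, hk⟩ := hmem c hc a ha'
      refine hca ?_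
      have h1 : g ^ k * a = a * g ^ k := (Commute.zpow_left hcomm k).eq
      have h2 : g ^ k * a * (g ^ k)⁻¹ = a := by rw [h1, mul_inv_cancel_right]
      exact mul_left_cancel (mul_right_cancel (hk.trans h2.symm))
    have hlt : (MulAction.orbit K c).ncard < p := by
      rw [← hcardQ]
      refine Set.ncard_lt_ncard ⟨hsub c hc hc1, fun hs => hnot (hs ⟨ha, ha1⟩)⟩ (Set.toFinite _)
    rw [hi] at hlt
    rcases Nat.eq_zero_or_pos i with rfl | hi0
    · obtain ⟨e, he⟩ := Set.ncard_eq_one.1 (by rwa [pow_zero] at hi)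
      have h1 : c ∈ MulAction.orbit K c := MulAction.mem_orbit_self c
      rw [he, Set.mem_singleton_iff] at hd h1
      rw [hd, h1]
    · exact absurd hlt (not_lt.2 (Nat.le_self_pow hi0.ne' p))
  · obtain ⟨i, hi⟩ := hsize a
    have hi0 : i ≠ 0 := by
      rintro rfl
      obtain ⟨e, he⟩ := Set.ncard_eq_one.1 (by rwa [pow_zero] at hi)
      refine hne (hfix a fun d hd => ?_)
      have h1 : a ∈ MulAction.orbit K a := MulAction.mem_orbit_self a
      rw [he, Set.mem_singleton_iff] at hd h1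
      rw [hd, h1]
    have heq : MulAction.orbit K a = {d : G | d ∈ Q ∧ d ≠ 1} := by
      refine Set.eq_of_subset_of_ncard_le (hsub a ha ha1) ?_ (Set.toFinite _)
      rw [hcardQ, hi]
      exact Nat.le_self_pow hi0 p
    exact hmem a ha c (heq ▸ ⟨hc, hc1⟩)

/-- Burnside: a normal `p`-subgroup containing all `p`-elements. -/
theorem exists_pcore {H : Subgroup G} (hH : H ≠ ⊤) (Q : Sylow 2 G) (hQ : (Q : Subgroup G) ≤ H)
    (hfus : ∀ g ∈ H, Pel p g → g ∈ normalizer (Q : Set G) → ∀ a ∈ Q, g * a = a * g) :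
    ∃ U : Subgroup G, IsPGroup p U ∧ U ≤ H ∧ H ≤ normalizer (U : Set G) ∧
      ∀ x ∈ H, Pel p x → x ∈ U := by
  haveI : Fact (Nat.Prime 2) := ⟨Nat.prime_two⟩
  have hprim := h.prim H hH (h.two_dvd_of_sylow_le hQ)
  set Q' : Sylow 2 H := Q.subtype hQ with hQ'
  have hmemQ' : ∀ x : H, x ∈ Q' ↔ (x : G) ∈ Q := fun x => Iff.rfl
  have hN : normalizer (Q' : Set H) ≤ centralizer (Q' : Set H) := by
    intro n hn
    rw [mem_centralizer_iff]
    intro a ha
    have hnQ : (n : G) ∈ normalizer ((Q : Subgroup G) : Set G) := by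
      rw [mem_normalizer_iff]
      intro y
      constructor
      · intro hy
        exact (mem_normalizer_iff.1 hn ⟨y, hQ hy⟩).1 hy
      · intro hy
        have h1 := (mem_normalizer_iff.1 hn ⟨(n : G)⁻¹ * ((n : G) * y * (n : G)⁻¹) * n,
          H.mul_mem (H.mul_mem (H.inv_mem n.2) (hQ hy)) n.2⟩).2 (by
            show (n : G) * ((n : G)⁻¹ * ((n : G) * y * (n : G)⁻¹) * n) * (n : G)⁻¹ ∈ Q
            rw [show (n : G) * ((n : G)⁻¹ * ((n : G) * y * (n : G)⁻¹) * n) * (n : G)⁻¹ = (n : G) * y * (n : G)⁻¹ by group]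
            exact hy)
        have h2 : (n : G)⁻¹ * ((n : G) * y * (n : G)⁻¹) * n = y := by group
        rw [← h2]
        exact h1
    obtain ⟨j, m', hm', hm⟩ := Nat.exists_eq_pow_mul_and_not_dvd (orderOf_pos (n : G)).ne' p h.hp.ne_one
    set C : Subgroup G := centralizer ({(a : G)} : Set G) with hC
    have hcop : (p ^ j).Coprime m' := Nat.Coprime.pow_left j (h.hp.coprime_iff_not_dvd.2 hm')
    have hnC : (n : G) ∈ C := by
      refine mem_of_two_pows hcop ?_ ?_
      · have h2el : IsPGroup 2 (zpowers ((n : G) ^ p ^ j)) := by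
          refine isPGroup_of_primes fun r hr hd => ?_
          rw [Nat.card_zpowers] at hd
          have ho : orderOf ((n : G) ^ p ^ j) = m' := by
            rw [orderOf_pow' _ (pow_ne_zero _ h.hp.ne_zero), hm, Nat.gcd_mul_right_left,
              Nat.mul_div_cancel_left _ (pow_pos h.hp.pos j)]
          rw [ho] at hd
          refine (hprim r hr ?_).resolve_left fun e => hm' (e ▸ hd)
          exact (hd.trans (Dvd.intro_left _ hm.symm)).trans ((Subgroup.orderOf_coe n).symm ▸ orderOf_dvd_natCard n)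
        have hmem : (n : G) ^ p ^ j ∈ Q :=
          ((IsPGroup.inf_normalizer_sylow h2el Q).le ⟨mem_zpowers _, pow_mem hnQ _⟩).2
        exact mem_centralizer_singleton_iff.2 (h.qcomm Q hmem ha)
      · refine mem_centralizer_singleton_iff.2 (hfus _ (pow_mem n.2 _) ⟨j, ?_⟩ (pow_mem hnQ _) _ ha)
        rw [← pow_mul, mul_comm, ← hm, pow_orderOf_eq_one]
    exact Subtype.ext (mem_centralizer_singleton_iff.1 hnC).symm
  obtain ⟨S, N, hNn, hNc⟩ := CfsgLib.Transfer.hasNormalPComplement_of_le_centralizer Q' hN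
  have hNidx : N.index = Nat.card (S : Subgroup H) := hNc.symm.index_eq_card
  have hNp : IsPGroup p N := by
    refine isPGroup_of_primes fun r hr hd => (hprim r hr (hd.trans N.card_subgroup_dvd_card)).resolve_right ?_
    rintro rfl
    have h1 : Nat.card N = (S : Subgroup H).index := (hNc.index_eq_card).symm
    exact S.not_dvd_index (h1 ▸ hd)
  refine ⟨N.map H.subtype, hNp.map _, map_subtype_le N, ?_, ?_⟩
  · intro x hx
    rw [mem_normalizer_iff]
    intro y
    constructor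
    · rintro ⟨z, hz, rfl⟩
      exact ⟨⟨x, hx⟩ * z * ⟨x, hx⟩⁻¹, hNn.conj_mem z hz _, rfl⟩
    · rintro ⟨z, hz, e⟩
      refine ⟨⟨x, hx⟩⁻¹ * z * ⟨x, hx⟩⁻¹⁻¹, hNn.conj_mem z hz _, ?_⟩
      show x⁻¹ * (z : G) * x⁻¹⁻¹ = y
      rw [show (z : G) = x * y * x⁻¹ from e]
      group
  · intro x hx hxp
    refine ⟨⟨x, hx⟩, ?_, rfl⟩
    show (⟨x, hx⟩ : H) ∈ N
    rw [← QuotientGroup.eq_one_iff]
    obtain ⟨k, hk⟩ := hxp
    obtain ⟨i, hi⟩ := IsPGroup.iff_card.1 S.isPGroup'
    have h1 : ((⟨x, hx⟩ : H) : H ⧸ N) ^ p ^ k = 1 := by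
      rw [← QuotientGroup.mk_pow, show (⟨x, hx⟩ : H) ^ p ^ k = 1 from Subtype.ext (by simpa using hk)]
      rfl
    have h2 : ((⟨x, hx⟩ : H) : H ⧸ N) ^ 2 ^ i = 1 := by
      rw [← hi, ← hNidx]
      exact pow_card_eq_one'
    exact mem_bot.1 (mem_of_two_pows (S := ⊥)
      (Nat.Coprime.pow k i ((Nat.coprime_primes h.hp Nat.prime_two).2 h.hp2)) (mem_bot.2 h1) (mem_bot.2 h2))

/-- All `p`-elements of the centralizer of an involution form a subgroup. -/
theorem exists_ucore (Q : Sylow 2 G) {w : G} (hw : w ∈ Q) (hw1 : w ≠ 1) :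
    ∃ U : Subgroup G, IsPGroup p U ∧ U ≤ centralizer ({w} : Set G) ∧
      (Q : Subgroup G) ≤ normalizer (U : Set G) ∧ ∀ x, x * w = w * x → Pel p x → x ∈ U := by
  have hQ : (Q : Subgroup G) ≤ centralizer ({w} : Set G) := fun a ha =>
    mem_centralizer_singleton_iff.2 (h.qcomm Q ha hw)
  obtain ⟨U, hU, hUH, hHN, hall⟩ := h.exists_pcore (h.centralizer_inv_ne_top (h.inv2_of_mem Q hw hw1)) Q hQ
    fun g hg hgp hgQ => (h.orbit hgp hgQ hw hw1).1 (mem_centralizer_singleton_iff.1 hg)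
  exact ⟨U, hU, hUH, hQ.trans hHN, fun x hx => hall x (mem_centralizer_singleton_iff.2 hx)⟩

theorem sylow_le_centralizer {U : Subgroup G} (P : Sylow p G) (hU : U ≤ P) :
    (P : Subgroup G) ≤ centralizer (U : Set G) := fun x hx => by
  rw [mem_centralizer_iff]
  intro y hy
  exact congrArg Subtype.val ((h.hab P).is_comm.comm (⟨y, hU hy⟩ : (P : Subgroup G)) ⟨x, hx⟩)

/-- A `p`-subgroup normalised but not centralised by a Sylow `2`-subgroup lies in exactly one Sylow
`p`-subgroup, and that one is normalised too. -/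
theorem unique_sylow {U : Subgroup G} (hU : IsPGroup p U) (Q : Sylow 2 G)
    (hQU : (Q : Subgroup G) ≤ normalizer (U : Set G))
    (hnc : ¬ (Q : Subgroup G) ≤ centralizer (U : Set G)) :
    ∃ P : Sylow p G, U ≤ P ∧ (Q : Subgroup G) ≤ normalizer (P : Set G) ∧
      ∀ P' : Sylow p G, U ≤ P' → P' = P := by
  haveI : Fact (Nat.Prime 2) := ⟨Nat.prime_two⟩
  have hne : U ≠ ⊥ := by
    rintro rfl
    exact hnc fun a _ => mem_centralizer_iff.2 fun y hy => by rw [mem_bot.1 hy, one_mul, mul_one]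
  set H := normalizer (U : Set G) with hH
  have hHt : H ≠ ⊤ := h.normalizer_ne_top hU hne
  have hCH : centralizer (U : Set G) ≤ H := centralizer_le_normalizer _
  obtain ⟨P, hP⟩ := hU.exists_le_sylow
  by_cases hfus : ∀ g ∈ H, Pel p g → g ∈ normalizer (Q : Set G) → ∀ a ∈ Q, g * a = a * g
  · obtain ⟨V, hV, -, hHN, hall⟩ := h.exists_pcore hHt Q hQU hfus
    have heq : ∀ P' : Sylow p G, U ≤ P' → (P' : Subgroup G) = V := fun P' hP' =>
      (P'.3 hV fun x hx => hall x (hCH (h.sylow_le_centralizer P' hP' hx)) (h.pel_of_mem_sylow P' hx)).symm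
    refine ⟨P, hP, ?_, fun P' hP' => Sylow.ext ((heq P' hP').trans (heq P hP).symm)⟩
    have := heq P hP
    show (Q : Subgroup G) ≤ normalizer ((P : Subgroup G) : Set G)
    rw [this]
    exact hQU.trans hHN
  push Not at hfus
  obtain ⟨g, hgH, hgp, hgQ, a₀, ha₀, hga₀⟩ := hfus
  have hCn : ∀ z ∈ centralizer (U : Set G), ∀ k ∈ H, k * z * k⁻¹ ∈ centralizer (U : Set G) := by
    intro z hz k hk
    rw [mem_centralizer_iff]
    intro u hu
    have h1 : k⁻¹ * u * k ∈ (U : Set G) := by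
      have := (mem_normalizer_iff.1 (inv_mem hk) u).1 hu
      rwa [inv_inv] at this
    have h2 := mem_centralizer_iff.1 hz _ h1
    calc u * (k * z * k⁻¹) = k * ((k⁻¹ * u * k) * z) * k⁻¹ := by group
      _ = k * (z * (k⁻¹ * u * k)) * k⁻¹ := by rw [h2]
      _ = k * z * k⁻¹ * u := by group
  have hQC : ∀ a ∈ Q, a ∈ centralizer (U : Set G) → a = 1 := by
    intro a ha haC
    by_contra ha1
    have hne' : g * a ≠ a * g := fun e => hga₀ ((h.orbit hgp hgQ ha ha1).1 e a₀ ha₀)
    refine hnc fun c hc => ?_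
    by_cases hc1 : c = 1
    · exact hc1 ▸ one_mem _
    obtain ⟨k, rfl⟩ := (h.orbit hgp hgQ ha ha1).2 hne' c hc hc1
    exact hCn a haC _ (zpow_mem hgH k)
  have hodd : ¬ 2 ∣ Nat.card (centralizer (U : Set G)) := by
    intro hd
    obtain ⟨⟨z, hzC⟩, hzo⟩ := exists_prime_orderOf_dvd_card' 2 hd
    rw [Subgroup.orderOf_mk] at hzo
    have hzH := hCH hzC
    have hz2 : IsPGroup 2 (zpowers (⟨z, hzH⟩ : H)) :=
      IsPGroup.of_card (n := 1) (by rw [Nat.card_zpowers, Subgroup.orderOf_mk, hzo, pow_one])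
    obtain ⟨R, hR⟩ := hz2.exists_le_sylow
    obtain ⟨k, hk⟩ := MulAction.exists_smul_eq H R (Q.subtype hQU)
    have h1 : k * ⟨z, hzH⟩ * k⁻¹ ∈ ((Q.subtype hQU : Sylow 2 H) : Subgroup H) := by
      rw [← hk, Sylow.coe_subgroup_smul]
      exact ⟨_, hR (mem_zpowers _), rfl⟩
    have h2 : (k : G) * z * (k : G)⁻¹ ∈ Q := h1
    have h3 := hQC _ h2 (hCn z hzC _ k.2)
    rw [conj_eq_one_iff] at h3
    rw [h3, orderOf_one] at hzo
    omega
  have hCp : IsPGroup p (centralizer (U : Set G)) :=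
    isPGroup_of_primes fun r hr hd =>
      (h.prim H hHt (h.two_dvd_of_sylow_le hQU) r hr (hd.trans (Subgroup.card_dvd_of_le hCH))).resolve_right
        fun e => hodd (e ▸ hd)
  have heq : ∀ P' : Sylow p G, U ≤ P' → (P' : Subgroup G) = centralizer (U : Set G) := fun P' hP' =>
    (P'.3 hCp (h.sylow_le_centralizer P' hP')).symm
  refine ⟨P, hP, ?_, fun P' hP' => Sylow.ext ((heq P' hP').trans (heq P hP).symm)⟩
  intro c hc
  show c ∈ normalizer ((P : Subgroup G) : Set G)
  rw [heq P hP, mem_normalizer_iff]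
  refine fun y => ⟨fun hy => hCn y hy c (hQU hc), fun hy => ?_⟩
  have := hCn _ hy c⁻¹ (inv_mem (hQU hc))
  rwa [show c⁻¹ * (c * y * c⁻¹) * c⁻¹⁻¹ = y by group] at this

/-- An element of an abelian Sylow subgroup centralised by a Sylow `2`-subgroup normalising it is
trivial. -/
theorem eq_one_of_centralized (P : Sylow p G) (Q : Sylow 2 G)
    (hQP : (Q : Subgroup G) ≤ normalizer (P : Set G)) {e : G} (he : e ∈ P)
    (hc : ∀ a ∈ Q, e * a = a * e) : e = 1 := by
  have hres : pResidual p G = ⊤ := by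
    refine (h.simple _ CfsgLib.Transfer.pResidual_normal).resolve_left fun hbot => ?_
    refine h.sylow_ne_bot Q ((Subgroup.eq_bot_iff_forall _).2 fun a ha => ?_)
    by_contra ha1
    have h1 : a ∈ pResidual p G := Subgroup.subset_closure (by
      show Nat.Coprime (orderOf a) p
      rw [(h.inv2_of_mem Q ha ha1).orderOf_eq]
      exact (Nat.coprime_primes Nat.prime_two h.hp).2 h.hp2.symm)
    rw [hbot, mem_bot] at h1
    exact ha1 h1
  have h2 := (CfsgLib.Transfer.abelian_decomp P (h.hab P)).1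
  have h3 := CfsgLib.Transfer.abelian_inf_pResidual P (h.hab P)
  rw [hres, inf_top_eq] at h3
  have hN : normalizer (P : Set G) ≠ ⊤ :=
    h.normalizer_ne_top P.isPGroup' (h.psylow_ne_bot P)
  have hle : normalizer (P : Set G) ≤ normalizer (P : Set G) ⊓ centralizer ({e} : Set G) := by
    refine h.le_of_sylows hN P Q (le_inf le_normalizer ?_) (le_inf hQP ?_) inf_le_left
    · intro x hx
      exact mem_centralizer_singleton_iff.2
        (congrArg Subtype.val ((h.hab P).is_comm.comm (⟨x, hx⟩ : (P : Subgroup G)) ⟨e, he⟩))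
    · intro a ha
      exact mem_centralizer_singleton_iff.2 (hc a ha).symm
  have h4 : e ∈ ((P : Subgroup G) ⊓ centralizer (normalizer (P : Set G) : Set G)) ⊓
      ⁅(P : Subgroup G), normalizer (P : Set G)⁆ :=
    ⟨⟨he, mem_centralizer_iff.2 fun n hn => mem_centralizer_singleton_iff.1 (hle hn).2⟩, h3 ▸ he⟩
  rw [h2, mem_bot] at h4
  exact h4

/-- An involution normalising a Sylow `p`-subgroup and centralising none of its elements inverts it. -/
theorem inverts (P : Sylow p G) {s : G} (hs : Inv2 s) (hsP : s ∈ normalizer (P : Set G))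
    (hfix : ∀ f ∈ P, f * s = s * f → f = 1) {e : G} (he : e ∈ P) : s * e * s⁻¹ = e⁻¹ := by
  have h1 : s * e * s⁻¹ ∈ P := (mem_normalizer_iff.1 hsP e).1 he
  have hcomm : e * (s * e * s⁻¹) = s * e * s⁻¹ * e :=
    congrArg Subtype.val ((h.hab P).is_comm.comm (⟨e, he⟩ : (P : Subgroup G)) ⟨_, h1⟩)
  have h2 : e * (s * e * s⁻¹) = 1 := by
    refine hfix _ ((P : Subgroup G).mul_mem he h1) ?_
    have h3 : s * (e * (s * e * s⁻¹)) * s⁻¹ = e * (s * e * s⁻¹) := by
      calc s * (e * (s * e * s⁻¹)) * s⁻¹ = s * e * s * e * (s⁻¹ * s⁻¹) := by group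
        _ = s * e * s * e := by rw [hs.inv_eq, hs.1, mul_one]
        _ = s * e * s⁻¹ * e := by rw [hs.inv_eq]
        _ = _ := hcomm.symm
    calc e * (s * e * s⁻¹) * s = s * (e * (s * e * s⁻¹)) * s⁻¹ * s := by rw [h3]
      _ = s * (e * (s * e * s⁻¹)) := by rw [inv_mul_cancel_right]
  exact (inv_eq_of_mul_eq_one_right h2).symm

/-- Commuting involutions generate a normal abelian subgroup. -/
theorem not_all_commute (hall : ∀ s t : G, Inv2 s → Inv2 t → s * t = t * s) : False := by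
  haveI : Fact (Nat.Prime 2) := ⟨Nat.prime_two⟩
  set I : Set G := {z | Inv2 z} with hI
  have hn : (Subgroup.closure I).Normal := by
    refine ⟨fun x hx g => ?_⟩
    have hle : (Subgroup.closure I).map (MulAut.conj g).toMonoidHom ≤ Subgroup.closure I := by
      rw [MonoidHom.map_closure]
      exact Subgroup.closure_mono (by rintro - ⟨z, hz, rfl⟩; exact hz.conj g)
    exact hle ⟨x, hx, rfl⟩
  obtain ⟨Q⟩ := (inferInstance : Nonempty (Sylow 2 G))
  obtain ⟨a, ha, ha1⟩ := (Subgroup.bot_or_exists_ne_one _).resolve_left (h.sylow_ne_bot Q)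
  have htop : Subgroup.closure I = ⊤ := (h.simple _ hn).resolve_left fun e => ha1 (mem_bot.1 (e ▸
    Subgroup.subset_closure (h.inv2_of_mem Q ha ha1 : a ∈ I)))
  have hcom : ∀ x y : G, x * y = y * x := by
    intro x y
    have h1 : Subgroup.closure I ≤ centralizer (Subgroup.closure I : Set G) := by
      rw [Subgroup.closure_le]
      intro t ht
      rw [SetLike.mem_coe, Subgroup.centralizer_closure, mem_centralizer_iff]
      exact fun s hs => hall s t hs ht
    rw [htop] at h1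
    exact mem_centralizer_iff.1 (h1 (mem_top y)) x (mem_top x)
  rcases h.simple Q ⟨fun z hz g => by rw [hcom g z, mul_inv_cancel_right]; exact hz⟩ with e | e
  · exact h.sylow_ne_bot Q e
  · have h1 := h.qcard Q
    rw [e, Subgroup.card_top] at h1
    have h2 := h.hpG
    rw [h1] at h2
    exact h.hp2 ((Nat.prime_dvd_prime_iff_eq h.hp Nat.prime_two).1 (h.hp.dvd_of_dvd_pow h2))

omit [Fact p.Prime] [Finite G] in
theorem conj_mul_eq_inv {s t : G} (hs : Inv2 s) (ht : Inv2 t) : s * (s * t) * s⁻¹ = (s * t)⁻¹ := by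
  rw [mul_inv_rev, ht.inv_eq, hs.inv_eq, ← mul_assoc s s t, hs.1, one_mul]

/-- Two involutions which do not commute invert a common nontrivial `p`-element. -/
theorem exists_inverted {s t : G} (hs : Inv2 s) (ht : Inv2 t) (hne : s * t ≠ t * s) :
    ∃ x : G, x ≠ 1 ∧ Pel p x ∧ x ∈ zpowers (s * t) ∧ s * x * s⁻¹ = x⁻¹ := by
  haveI : Fact (Nat.Prime 2) := ⟨Nat.prime_two⟩
  have hinv : ∀ i : ℕ, s * (s * t) ^ i * s⁻¹ = ((s * t) ^ i)⁻¹ := fun i => by
    rw [← conj_pow, conj_mul_eq_inv h hs ht, inv_pow]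
  obtain ⟨r, hr, hr2, hrd⟩ : ∃ r : ℕ, r.Prime ∧ r ≠ 2 ∧ r ∣ orderOf (s * t) := by
    by_contra hno
    push Not at hno
    apply hne
    have hp2 : IsPGroup 2 (zpowers (s * t)) := isPGroup_of_primes fun r hr hd => by
      rw [Nat.card_zpowers] at hd
      by_contra hr2
      exact hno r hr hr2 hd
    have hs2 : IsPGroup 2 (zpowers s) := Pel.isPGroup ⟨1, by rw [pow_one, sq, hs.1]⟩
    have hsn : zpowers s ≤ normalizer ((zpowers (s * t) : Subgroup G) : Set G) := by
      rw [zpowers_le]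
      exact mem_normalizer_zpowers (Or.inl (conj_mul_eq_inv h hs ht)) hs.1
    obtain ⟨Q, hQ⟩ := (IsPGroup.to_sup_of_normal_right' hs2 hp2 hsn).exists_le_sylow
    have hsQ : s ∈ Q := hQ (mem_sup_left (mem_zpowers s))
    have htQ : t ∈ Q := by
      have h1 := (Q : Subgroup G).mul_mem hsQ (hQ (mem_sup_right (mem_zpowers (s * t))))
      rwa [← mul_assoc, hs.1, one_mul] at h1
    exact h.qcomm Q hsQ htQ
  set x := (s * t) ^ (orderOf (s * t) / r) with hx
  have ho : orderOf x = r := orderOf_pow_orderOf_div (orderOf_pos _).ne' hrd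
  have hx1 : x ≠ 1 := fun e => hr.ne_one (by rw [← ho, e, orderOf_one])
  by_cases hrp : r = p
  · exact ⟨x, hx1, ⟨1, by rw [pow_one, ← hrp, ← ho, pow_orderOf_eq_one]⟩, pow_mem (mem_zpowers _) _, hinv _⟩
  · exact absurd (hinv _) (h.noinv x (ho ▸ hr) (ho ▸ hrp) (ho ▸ hr2) s hs)

/-- Case: some nontrivial `p`-element centralises a Sylow `2`-subgroup. -/
theorem false_of_centralized {Q₀ : Sylow 2 G} {d : G} (hd : Pel p d) (hd1 : d ≠ 1)
    (hdQ : ∀ a ∈ Q₀, d * a = a * d) : False := by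
  haveI : Fact (Nat.Prime 2) := ⟨Nat.prime_two⟩
  have hB1 : ∀ (Q : Sylow 2 G) (w : G), w ∈ Q → w ≠ 1 → ∀ e : G, Pel p e → e * w = w * e →
      ∀ a ∈ Q, e * a = a * e := by
    intro Q w hw hw1 e he hew
    obtain ⟨g, rfl⟩ := MulAction.exists_smul_eq G Q₀ Q
    have hd' : ∀ a ∈ (g • Q₀ : Sylow 2 G), g * d * g⁻¹ * a = a * (g * d * g⁻¹) := by
      intro a ha
      have ha' : a ∈ ((g • Q₀ : Sylow 2 G) : Subgroup G) := ha
      rw [Sylow.coe_subgroup_smul] at ha'
      obtain ⟨c, hc, rfl⟩ := ha'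
      show g * d * g⁻¹ * (g * c * g⁻¹) = g * c * g⁻¹ * (g * d * g⁻¹)
      calc g * d * g⁻¹ * (g * c * g⁻¹) = g * (d * c) * g⁻¹ := by group
        _ = g * (c * d) * g⁻¹ := by rw [hdQ c hc]
        _ = _ := by group
    obtain ⟨U, hU, -, hQU, hall⟩ := h.exists_ucore (g • Q₀) hw hw1
    by_cases hc : ((g • Q₀ : Sylow 2 G) : Subgroup G) ≤ centralizer (U : Set G)
    · exact fun a ha => mem_centralizer_iff.1 (hc ha) e (hall e hew he)
    · obtain ⟨P, hUP, hQP, -⟩ := h.unique_sylow hU _ hQU hc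
      exact absurd (conj_eq_one_iff.1
        (h.eq_one_of_centralized P _ hQP (hUP (hall _ (hd' w hw) (hd.conj g))) hd')) hd1
  -- no `p`-element is inverted
  have hB2 : ∀ x : G, Pel p x → x ≠ 1 → ∀ s : G, Inv2 s → s * x * s⁻¹ ≠ x⁻¹ := by
    have hodd : ∀ x : G, Pel p x → x ≠ 1 → ∀ s : G, Inv2 s → s * x * s⁻¹ = x⁻¹ →
        ∀ w : G, Inv2 w → x * w ≠ w * x := by
      intro x hx hx1 s hs hsx w hw hxw
      obtain ⟨Q, hwQ⟩ := h.exists_sylow_two hw
      have hxQ := hB1 Q w hwQ hw.2 x hx hxw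
      set M := normalizer ((zpowers x : Subgroup G) : Set G) with hM
      have hQC : (Q : Subgroup G) ≤ centralizer ({x} : Set G) :=
        fun a ha => mem_centralizer_singleton_iff.2 (hxQ a ha).symm
      have hCM : centralizer ({x} : Set G) ≤ M := fun y hy => by
        rw [hM, mem_normalizer_iff]
        intro z
        have hy' := mem_centralizer_singleton_iff.1 hy
        refine ⟨?_, fun hz => ?_⟩
        · rintro ⟨i, rfl⟩
          show y * x ^ i * y⁻¹ ∈ zpowers x
          rw [← conj_zpow, hy', mul_inv_cancel_right]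
          exact zpow_mem (mem_zpowers x) i
        · obtain ⟨i, hi⟩ := hz
          refine ⟨i, ?_⟩
          have h1 : y * x ^ i * y⁻¹ = x ^ i := by rw [← conj_zpow, hy', mul_inv_cancel_right]
          exact mul_left_cancel (mul_right_cancel (h1.trans hi))
      have hsM : s ∈ M := mem_normalizer_zpowers (Or.inl hsx) hs.1
      have hs2 : IsPGroup 2 (zpowers (⟨s, hsM⟩ : M)) :=
        IsPGroup.of_card (n := 1) (by rw [Nat.card_zpowers, Subgroup.orderOf_mk, hs.orderOf_eq, pow_one])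
      obtain ⟨R, hR⟩ := hs2.exists_le_sylow
      obtain ⟨k, hk⟩ := MulAction.exists_smul_eq M R (Q.subtype (hQC.trans hCM))
      have h1 : k * ⟨s, hsM⟩ * k⁻¹ ∈ ((Q.subtype (hQC.trans hCM) : Sylow 2 M) : Subgroup M) := by
        rw [← hk, Sylow.coe_subgroup_smul]
        exact ⟨_, hR (mem_zpowers _), rfl⟩
      have h2 : (k : G) * s * (k : G)⁻¹ ∈ centralizer ({x} : Set G) := hQC h1
      have h3 := mem_centralizer_singleton_iff.1 h2
      obtain ⟨i, hi⟩ := (mem_normalizer_iff.1 (inv_mem k.2) x).1 (mem_zpowers x)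
      simp only [inv_inv] at hi
      have h4 : s * x ^ i = x ^ i * s := by
        rw [hi]
        calc s * ((k : G)⁻¹ * x * k) = (k : G)⁻¹ * (((k : G) * s * (k : G)⁻¹) * x) * k := by group
          _ = (k : G)⁻¹ * (x * ((k : G) * s * (k : G)⁻¹)) * k := by rw [h3]
          _ = (k : G)⁻¹ * x * k * s := by group
      have h5 : s * x ^ i * s⁻¹ = (x ^ i)⁻¹ := by rw [← conj_zpow, hsx, inv_zpow]
      rw [h4, mul_inv_cancel_right] at h5
      have h6 : x ^ i = 1 := h.pel_eq_one (pel_of_mem hx.isPGroup (zpow_mem (mem_zpowers x) i))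
        (eq_inv_iff_mul_eq_one.1 h5)
      rw [h6] at hi
      apply hx1
      calc x = (k : G) * ((k : G)⁻¹ * x * k) * (k : G)⁻¹ := by group
        _ = 1 := by rw [← hi]; group
    intro x hx hx1 s hs hsx
    have hno := hodd x hx hx1 s hs hsx
    obtain ⟨P, hxP⟩ := h.exists_sylow_p hx
    set M := normalizer ((zpowers x : Subgroup G) : Set G) with hM
    have hsM : s ∈ M := mem_normalizer_zpowers (Or.inl hsx) hs.1
    have hMt : M ≠ ⊤ := h.normalizer_ne_top hx.isPGroup (fun e => hx1 (zpowers_eq_bot.1 e))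
    have hxc : centralizer ((zpowers x : Subgroup G) : Set G) ≤ M := centralizer_le_normalizer _
    have hCp : IsPGroup p (centralizer ((zpowers x : Subgroup G) : Set G)) := by
      refine isPGroup_of_primes fun r hr hd => (h.prim M hMt (h.two_dvd_of_inv hs hsM) r hr
        (hd.trans (Subgroup.card_dvd_of_le hxc))).resolve_right ?_
      rintro rfl
      obtain ⟨⟨w, hwC⟩, hwo⟩ := exists_prime_orderOf_dvd_card' 2 hd
      rw [Subgroup.orderOf_mk, orderOf_eq_iff two_pos] at hwo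
      refine hno w ⟨by rw [← sq, hwo.1], fun e => hwo.2 1 one_lt_two one_pos (by rw [e, pow_one])⟩ ?_
      exact mem_centralizer_iff.1 hwC x (mem_zpowers x)
    have hPC : (P : Subgroup G) = centralizer ((zpowers x : Subgroup G) : Set G) :=
      (P.3 hCp (h.sylow_le_centralizer P (zpowers_le.2 hxP))).symm
    have hsP : s ∈ normalizer (P : Set G) := by
      show s ∈ normalizer ((P : Subgroup G) : Set G)
      rw [hPC, mem_normalizer_iff]
      have key : ∀ y ∈ centralizer ((zpowers x : Subgroup G) : Set G),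
          s * y * s⁻¹ ∈ centralizer ((zpowers x : Subgroup G) : Set G) := by
        intro y hy
        rw [mem_centralizer_iff]
        intro z hz
        have hz' : s⁻¹ * z * s ∈ zpowers x := by
          have := (mem_normalizer_iff.1 (inv_mem hsM) z).1 hz
          rwa [inv_inv] at this
        have h2 := mem_centralizer_iff.1 hy _ hz'
        calc z * (s * y * s⁻¹) = s * ((s⁻¹ * z * s) * y) * s⁻¹ := by group
          _ = s * (y * (s⁻¹ * z * s)) * s⁻¹ := by rw [h2]
          _ = _ := by group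
      refine fun y => ⟨key y, fun hy => ?_⟩
      have := key _ hy
      rwa [hs.inv_eq, ← mul_assoc, ← mul_assoc, hs.1, one_mul, mul_assoc, hs.1, mul_one] at this
    -- a Sylow `2`-subgroup of the normalizer
    set N := normalizer (P : Set G) with hN
    have hNt : N ≠ ⊤ := h.normalizer_ne_top P.isPGroup' (h.psylow_ne_bot P)
    have hs2 : IsPGroup 2 (zpowers (⟨s, hsP⟩ : N)) :=
      IsPGroup.of_card (n := 1) (by rw [Nat.card_zpowers, Subgroup.orderOf_mk, hs.orderOf_eq, pow_one])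
    obtain ⟨S, hS⟩ := hs2.exists_le_sylow
    obtain ⟨S', hS'⟩ := (S.isPGroup'.map N.subtype).exists_le_sylow
    have hsS' : s ∈ S' := hS' ⟨⟨s, hsP⟩, hS (mem_zpowers _), rfl⟩
    have hfix : ∀ f ∈ P, f * s = s * f → f = 1 := by
      intro f hf hfs
      have hfS := hB1 S' s hsS' hs.2 f (h.pel_of_mem_sylow P hf) hfs
      have h2 := (CfsgLib.Transfer.abelian_decomp P (h.hab P)).1
      have h3 := CfsgLib.Transfer.abelian_inf_pResidual P (h.hab P)
      have hres : pResidual p G = ⊤ := by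
        refine (h.simple _ CfsgLib.Transfer.pResidual_normal).resolve_left fun hbot => hs.2 ?_
        have h1 : s ∈ pResidual p G := Subgroup.subset_closure (by
          show Nat.Coprime (orderOf s) p
          rw [hs.orderOf_eq]
          exact (Nat.coprime_primes Nat.prime_two h.hp).2 h.hp2.symm)
        rwa [hbot, mem_bot] at h1
      rw [hres, inf_top_eq] at h3
      set K := N ⊓ centralizer ({f} : Set G) with hK
      have hKidx : N ≤ K := by
        have hKN : K ≤ N := inf_le_left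
        rw [← relIndex_eq_one]
        by_contra hne
        obtain ⟨r, hr, hrd⟩ := Nat.exists_prime_and_dvd hne
        rcases h.prim N hNt (h.two_dvd_of_inv hs hsP) r hr (hrd.trans (Subgroup.relIndex_dvd_card K N)) with rfl | rfl
        · have hPK : (P : Subgroup G) ≤ K := le_inf le_normalizer fun y hy =>
            mem_centralizer_singleton_iff.2
              (congrArg Subtype.val ((h.hab P).is_comm.comm (⟨y, hy⟩ : (P : Subgroup G)) ⟨f, hf⟩))
          exact P.not_dvd_index (hrd.trans ((Dvd.intro_left _ (relIndex_mul_relIndex _ K N hPK hKN)).trans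
            (relIndex_dvd_index_of_le (hPK.trans hKN))))
        · have hSK : (S : Subgroup N).map N.subtype ≤ K := le_inf (map_subtype_le _) fun y hy =>
            mem_centralizer_singleton_iff.2 (hfS y (hS' hy)).symm
          have h1 : ((S : Subgroup N).map N.subtype).relIndex N = (S : Subgroup N).index := by
            rw [relIndex, ← Subgroup.comap_subtype, comap_map_eq_self_of_injective N.subtype_injective]
          exact S.not_dvd_index (h1 ▸ hrd.trans (Dvd.intro_left _ (relIndex_mul_relIndex _ K N hSK hKN)))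
      have h4 : f ∈ ((P : Subgroup G) ⊓ centralizer (normalizer (P : Set G) : Set G)) ⊓
          ⁅(P : Subgroup G), normalizer (P : Set G)⁆ :=
        ⟨⟨hf, mem_centralizer_iff.2 fun n hn => mem_centralizer_singleton_iff.1 (hKidx hn).2⟩, h3 ▸ hf⟩
      rw [h2, mem_bot] at h4
      exact h4
    -- some element of `P` centralises a Sylow `2`-subgroup
    obtain ⟨P₁, hdP₁⟩ := h.exists_sylow_p hd
    obtain ⟨g, rfl⟩ := MulAction.exists_smul_eq G P₁ P
    have heP : g * d * g⁻¹ ∈ ((g • P₁ : Sylow p G) : Subgroup G) := by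
      rw [Sylow.coe_subgroup_smul]
      exact ⟨d, hdP₁, rfl⟩
    obtain ⟨a, ha, ha1⟩ := (Subgroup.bot_or_exists_ne_one _).resolve_left (h.sylow_ne_bot Q₀)
    refine hodd (g * d * g⁻¹) (hd.conj g) (fun e => hd1 (conj_eq_one_iff.1 e)) s hs
      (h.inverts _ hs hsP hfix heP) (g * a * g⁻¹) ((h.inv2_of_mem Q₀ ha ha1).conj g) ?_
    calc g * d * g⁻¹ * (g * a * g⁻¹) = g * (d * a) * g⁻¹ := by group
      _ = g * (a * d) * g⁻¹ := by rw [hdQ a ha]
      _ = _ := by group
  refine h.not_all_commute fun s t hs ht => ?_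
  by_contra hne
  obtain ⟨x, hx1, hx, -, hsx⟩ := h.exists_inverted hs ht hne
  exact hB2 x hx hx1 s hs hsx

/-- All involutions are conjugate. -/
theorem inv_conj {s t : G} (hs : Inv2 s) (ht : Inv2 t) : ∃ g : G, g * s * g⁻¹ = t := by
  haveI : Fact (Nat.Prime 2) := ⟨Nat.prime_two⟩
  obtain ⟨Q, hQ⟩ := h.exists_sylow_two hs
  obtain ⟨Q', hQ'⟩ := h.exists_sylow_two ht
  obtain ⟨g, rfl⟩ := MulAction.exists_smul_eq G Q Q'
  have ht' : t ∈ ((g • Q : Sylow 2 G) : Subgroup G) := hQ'
  rw [Sylow.coe_subgroup_smul] at ht'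
  obtain ⟨a, ha, rfl⟩ := ht'
  have ha1 : a ≠ 1 := fun e => ht.2 (by simp [e])
  obtain ⟨c, -, -, hc⟩ := h.trans Q s hQ a ha hs.2 ha1
  refine ⟨g * c, ?_⟩
  show g * c * s * (g * c)⁻¹ = g * a * g⁻¹
  rw [← hc]
  group

/-- Case: centralizers of involutions are `2`-groups. -/
theorem false_of_two_groups (hA : ∀ z : G, Inv2 z → ∀ e : G, Pel p e → e * z = z * e → e = 1) :
    False := by
  classical
  haveI : Fact (Nat.Prime 2) := ⟨Nat.prime_two⟩
  have hC : ∀ (Q : Sylow 2 G) (z : G), z ∈ Q → z ≠ 1 →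
      centralizer ({z} : Set G) = (Q : Subgroup G) := by
    intro Q z hz hz1
    have hzi := h.inv2_of_mem Q hz hz1
    have hQ : (Q : Subgroup G) ≤ centralizer ({z} : Set G) := fun a ha =>
      mem_centralizer_singleton_iff.2 (h.qcomm Q ha hz)
    refine Q.3 (isPGroup_of_primes fun r hr hd => ?_) hQ
    refine (h.prim _ (h.centralizer_inv_ne_top hzi) (h.two_dvd_of_sylow_le hQ) r hr hd).resolve_left ?_
    rintro rfl
    obtain ⟨⟨e, heC⟩, heo⟩ := exists_prime_orderOf_dvd_card' r hd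
    rw [Subgroup.orderOf_mk] at heo
    have he1 : e = 1 := hA z hzi e ⟨1, by rw [pow_one, ← heo, pow_orderOf_eq_one]⟩
      (mem_centralizer_singleton_iff.1 heC)
    rw [he1, orderOf_one] at heo
    exact hr.ne_one heo.symm
  obtain ⟨s₀, t, hs₀, ht, hne⟩ : ∃ s t : G, Inv2 s ∧ Inv2 t ∧ s * t ≠ t * s := by
    by_contra hno
    push Not at hno
    exact h.not_all_commute fun s t hs ht => hno s t hs ht
  obtain ⟨Q, htQ⟩ := h.exists_sylow_two ht
  have hCt := hC Q t htQ ht.2
  -- products with `t`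
  set X : Set G := {x | Pel p x ∧ x ≠ 1 ∧ t * x * t⁻¹ = x⁻¹} with hX
  have hnc : ∀ s : G, Inv2 s → s * t ≠ t * s → t * s ∈ X := by
    intro s hs hst
    refine ⟨?_, fun e => hst ?_, conj_mul_eq_inv h ht hs⟩
    · refine pel_of_mem (isPGroup_of_primes fun r hr hd => ?_) (mem_zpowers (t * s))
      rw [Nat.card_zpowers] at hd
      set y := (t * s) ^ (orderOf (t * s) / r) with hy
      have ho : orderOf y = r := orderOf_pow_orderOf_div (orderOf_pos _).ne' hd
      have hyt : t * y * t⁻¹ = y⁻¹ := by rw [hy, ← conj_pow, conj_mul_eq_inv h ht hs, inv_pow]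
      by_contra hrp
      by_cases hr2 : r = 2
      · have hy2 : y * y = 1 := by rw [← sq, ← hr2, ← ho, pow_orderOf_eq_one]
        have hy1 : y ≠ 1 := fun e => hr.ne_one (by rw [← ho, e, orderOf_one])
        obtain ⟨R, hyR⟩ := h.exists_sylow_two ⟨hy2, hy1⟩
        have hty : t * y = y * t := by
          have hyi : Inv2 y := ⟨hy2, hy1⟩
          rw [hyi.inv_eq] at hyt
          calc t * y = t * y * t⁻¹ * t := by group
            _ = y * t := by rw [hyt]
        have hsy : s * y = y * s := by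
          have h1 : Commute (t * s) y := (Commute.refl (t * s)).pow_right _
          calc s * y = t⁻¹ * ((t * s) * y) := by group
            _ = t⁻¹ * (y * (t * s)) := by rw [h1.eq]
            _ = t⁻¹ * (t * y) * s := by rw [hty]; group
            _ = y * s := by group
        have h1 : t ∈ R := (hC R y hyR hy1).le (mem_centralizer_singleton_iff.2 hty)
        have h2 : s ∈ R := (hC R y hyR hy1).le (mem_centralizer_singleton_iff.2 hsy)
        exact hst (h.qcomm R h2 h1)
      · exact h.noinv y (ho ▸ hr) (ho ▸ hrp) (ho ▸ hr2) t ht hyt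
    · have : s = t := by
        rw [← inv_eq_of_mul_eq_one_right e, ht.inv_eq]
      rw [this]
  set PS : Set (Sylow p G) := {P | t ∈ normalizer (P : Set G)} with hPS
  have hinvP : ∀ (P : Sylow p G) (s : G), Inv2 s → s ∈ normalizer (P : Set G) →
      ∀ x ∈ P, s * x * s⁻¹ = x⁻¹ := fun P s hs hsP x hx =>
    h.inverts P hs hsP (fun f hf hfs => hA s hs f (h.pel_of_mem_sylow P hf) hfs) hx
  have huniq : ∀ x ∈ X, ∃ P ∈ PS, x ∈ P ∧ ∀ P' : Sylow p G, x ∈ P' → P' = P := by
    rintro x ⟨hx, hx1, htx⟩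
    set M := normalizer ((zpowers x : Subgroup G) : Set G) with hM
    have htM : t ∈ M := mem_normalizer_zpowers (Or.inl htx) ht.1
    have hMt : M ≠ ⊤ := h.normalizer_ne_top hx.isPGroup (fun e => hx1 (zpowers_eq_bot.1 e))
    have hxc : centralizer ((zpowers x : Subgroup G) : Set G) ≤ M := centralizer_le_normalizer _
    have hCp : IsPGroup p (centralizer ((zpowers x : Subgroup G) : Set G)) := by
      refine isPGroup_of_primes fun r hr hd => (h.prim M hMt (h.two_dvd_of_inv ht htM) r hr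
        (hd.trans (Subgroup.card_dvd_of_le hxc))).resolve_right ?_
      rintro rfl
      obtain ⟨⟨w, hwC⟩, hwo⟩ := exists_prime_orderOf_dvd_card' 2 hd
      rw [Subgroup.orderOf_mk, orderOf_eq_iff two_pos] at hwo
      exact hx1 (hA w ⟨by rw [← sq, hwo.1], fun e => hwo.2 1 one_lt_two one_pos (by rw [e, pow_one])⟩ x hx
        (mem_centralizer_iff.1 hwC x (mem_zpowers x)))
    have heq : ∀ P : Sylow p G, x ∈ P → (P : Subgroup G) = centralizer ((zpowers x : Subgroup G) : Set G) :=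
      fun P hP => (P.3 hCp (h.sylow_le_centralizer P (zpowers_le.2 hP))).symm
    obtain ⟨P, hP⟩ := h.exists_sylow_p hx
    refine ⟨P, ?_, hP, fun P' hP' => Sylow.ext ((heq P' hP').trans (heq P hP).symm)⟩
    show t ∈ normalizer ((P : Subgroup G) : Set G)
    rw [heq P hP, mem_normalizer_iff]
    have key : ∀ y ∈ centralizer ((zpowers x : Subgroup G) : Set G),
        t * y * t⁻¹ ∈ centralizer ((zpowers x : Subgroup G) : Set G) := by
      intro y hy
      rw [mem_centralizer_iff]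
      intro z hz
      have hz' : t⁻¹ * z * t ∈ zpowers x := by
        have := (mem_normalizer_iff.1 (inv_mem htM) z).1 hz
        rwa [inv_inv] at this
      have h2 := mem_centralizer_iff.1 hy _ hz'
      calc z * (t * y * t⁻¹) = t * ((t⁻¹ * z * t) * y) * t⁻¹ := by group
        _ = t * (y * (t⁻¹ * z * t)) * t⁻¹ := by rw [h2]
        _ = _ := by group
    refine fun y => ⟨key y, fun hy => ?_⟩
    have := key _ hy
    rwa [ht.inv_eq, ← mul_assoc, ← mul_assoc, ht.1, one_mul, mul_assoc, ht.1, mul_one] at this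
  obtain ⟨P₀, hP₀⟩ : ∃ P₀, P₀ ∈ PS := by
    obtain ⟨P, hP, -⟩ := huniq _ (hnc s₀ hs₀ hne)
    exact ⟨P, hP⟩
  -- the number of such Sylow subgroups
  have horb : MulAction.orbit (Q : Subgroup G) P₀ = PS := by
    refine Set.Subset.antisymm ?_ ?_
    · rintro - ⟨⟨a, ha⟩, rfl⟩
      show t ∈ normalizer ((a • P₀ : Sylow p G) : Set G)
      rw [← Sylow.smul_eq_iff_mem_normalizer, ← mul_smul, h.qcomm Q htQ ha, mul_smul,
        Sylow.smul_eq_iff_mem_normalizer.2 hP₀]
    · intro P hP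
      obtain ⟨g, rfl⟩ := MulAction.exists_smul_eq G P₀ P
      have ht' : g⁻¹ * t * g ∈ normalizer (P₀ : Set G) := by
        rw [← Sylow.smul_eq_iff_mem_normalizer, mul_smul, mul_smul,
          Sylow.smul_eq_iff_mem_normalizer.2 hP, inv_smul_smul]
      have hti : Inv2 (g⁻¹ * t * g) := by
        have := ht.conj g⁻¹
        rwa [inv_inv] at this
      set t' := g⁻¹ * t * g with ht'def
      obtain ⟨x, hx, hx1⟩ := (Subgroup.bot_or_exists_ne_one _).resolve_left (h.psylow_ne_bot P₀)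
      set u := t * t' with hu
      have hux : u * x = x * u := by
        have e1 := hinvP P₀ t' hti ht' x hx
        have e2 := hinvP P₀ t ht hP₀ x⁻¹ (inv_mem hx)
        rw [inv_inv] at e2
        calc u * x = t * (t' * x * t'⁻¹) * t⁻¹ * (t * t') := by rw [hu]; group
          _ = x * u := by rw [e1, e2]
      have huP : u ∈ P₀ := by
        obtain ⟨P', -, -, huni⟩ := huniq x ⟨h.pel_of_mem_sylow P₀ hx, hx1, hinvP P₀ t ht hP₀ x hx⟩
        have hCx : IsPGroup p (centralizer ({x} : Set G)) := by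
          refine isPGroup_of_primes fun r hr hd => ?_
          have hxc : centralizer ({x} : Set G) ≤ normalizer ((zpowers x : Subgroup G) : Set G) := by
            rw [← Subgroup.centralizer_closure, ← zpowers_eq_closure]
            exact centralizer_le_normalizer _
          refine (h.prim _ (h.normalizer_ne_top (h.pel_of_mem_sylow P₀ hx).isPGroup
              (fun e => hx1 (zpowers_eq_bot.1 e)))
            (h.two_dvd_of_inv ht (mem_normalizer_zpowers (Or.inl (hinvP P₀ t ht hP₀ x hx)) ht.1)) r hr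
            (hd.trans (Subgroup.card_dvd_of_le hxc))).resolve_right ?_
          rintro rfl
          obtain ⟨⟨w, hwC⟩, hwo⟩ := exists_prime_orderOf_dvd_card' 2 hd
          rw [Subgroup.orderOf_mk, orderOf_eq_iff two_pos] at hwo
          exact hx1 (hA w ⟨by rw [← sq, hwo.1], fun e => hwo.2 1 one_lt_two one_pos (by rw [e, pow_one])⟩ x
            (h.pel_of_mem_sylow P₀ hx) (mem_centralizer_singleton_iff.1 hwC).symm)
        have hle : (P₀ : Subgroup G) ≤ centralizer ({x} : Set G) := fun y hy =>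
          mem_centralizer_singleton_iff.2
            (congrArg Subtype.val ((h.hab P₀).is_comm.comm (⟨y, hy⟩ : (P₀ : Subgroup G)) ⟨x, hx⟩))
        exact (P₀.3 hCx hle).le (mem_centralizer_singleton_iff.2 hux)
      obtain ⟨k, hk⟩ := h.pel_of_mem_sylow P₀ huP
      have hodd : Odd (p ^ k) := (h.hp.odd_of_ne_two h.hp2).pow
      obtain ⟨m, hm⟩ := hodd
      set v := u⁻¹ ^ (m + 1) with hv
      have hv2 : v * v = u⁻¹ := by
        rw [hv, ← pow_add, show m + 1 + (m + 1) = p ^ k + 1 by omega, pow_succ, inv_pow, hk, inv_one, one_mul]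
      have hvP : v ∈ P₀ := pow_mem (inv_mem huP) _
      have hvt : v * t * v⁻¹ = t' := by
        have e := hinvP P₀ t ht hP₀ v⁻¹ (inv_mem hvP)
        rw [inv_inv] at e
        calc v * t * v⁻¹ = v * (t * v⁻¹ * t⁻¹) * t := by group
          _ = v * v * t := by rw [e]
          _ = t' := by rw [hv2, hu, mul_inv_rev, hti.inv_eq, ht.inv_eq, mul_assoc, ht.1, mul_one]
      have hgv : g * v ∈ (Q : Subgroup G) := by
        rw [← hCt, mem_centralizer_singleton_iff]
        calc g * v * t = g * (v * t * v⁻¹) * v := by group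
          _ = t * (g * v) := by rw [hvt, ht'def]; group
      refine ⟨⟨g * v, hgv⟩, ?_⟩
      show (g * v) • P₀ = g • P₀
      rw [mul_smul, Sylow.smul_eq_iff_mem_normalizer.2 (le_normalizer hvP)]
  have hstab : Nat.card (MulAction.stabilizer (Q : Subgroup G) P₀) = 2 := by
    have hiff : ∀ a : (Q : Subgroup G), a ∈ MulAction.stabilizer (Q : Subgroup G) P₀ ↔
        a = 1 ∨ a = ⟨t, htQ⟩ := by
      intro a
      have hmem : a ∈ MulAction.stabilizer (Q : Subgroup G) P₀ ↔ (a : G) ∈ normalizer (P₀ : Set G) := by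
        rw [MulAction.mem_stabilizer_iff, ← Sylow.smul_eq_iff_mem_normalizer]
        rfl
      rw [hmem]
      refine ⟨fun ha => ?_, ?_⟩
      · by_contra hne'
        push Not at hne'
        obtain ⟨x, hx, hx1⟩ := (Subgroup.bot_or_exists_ne_one _).resolve_left (h.psylow_ne_bot P₀)
        have hai := h.inv2_of_mem Q a.2 fun e => hne'.1 (Subtype.ext e)
        have e1 := hinvP P₀ a hai ha x hx
        have e2 := hinvP P₀ t ht hP₀ x hx
        have hai' := h.inv2_of_mem Q ((Q : Subgroup G).mul_mem a.2 htQ) (fun e => hne'.2 (Subtype.ext (by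
          show (a : G) = t
          rw [← hai.inv_eq, inv_eq_of_mul_eq_one_right e])))
        refine hx1 (hA _ hai' x (h.pel_of_mem_sylow P₀ hx) ?_)
        calc x * ((a : G) * t) = ((a : G) * x * (a : G)⁻¹)⁻¹ * ((a : G) * t) := by rw [e1, inv_inv]
          _ = (a : G) * x⁻¹ * t := by group
          _ = (a : G) * (t * x * t⁻¹) * t := by rw [e2]
          _ = (a : G) * t * x := by group
      · rintro (rfl | rfl)
        · exact one_mem _
        · exact hP₀
    rw [Nat.card_eq_two_iff]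
    refine ⟨1, ⟨⟨t, htQ⟩, (hiff _).2 (Or.inr rfl)⟩, fun e => ht.2 ?_, ?_⟩
    · exact (congrArg (fun z => ((z.1 : (Q : Subgroup G)) : G)) e).symm
    · refine Set.eq_univ_of_forall fun a => ?_
      rcases (hiff a.1).1 a.2 with e | e
      · exact Set.mem_insert_iff.2 (Or.inl (Subtype.ext e))
      · exact Set.mem_insert_iff.2 (Or.inr (Subtype.ext e))
  obtain ⟨c, rfl⟩ : ∃ c, b = c + 2 := ⟨b - 2, by have := h.two_le; omega⟩
  have hk : PS.ncard = 2 ^ (c + 1) := by
    have h1 := (MulAction.stabilizer (Q : Subgroup G) P₀).card_mul_index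
    rw [hstab, MulAction.index_stabilizer, horb, h.qcard Q, pow_succ' 2 (c + 1)] at h1
    exact Nat.eq_of_mul_eq_mul_left two_pos h1
  -- the count
  set I : Set G := {s | Inv2 s} with hI
  set Y : Set G := {s | Inv2 s ∧ s * t ≠ t * s} with hY
  have hIsplit : I = (((Q : Subgroup G) : Set G) \ {1}) ∪ Y := by
    ext s
    simp only [hI, hY, Set.mem_setOf_eq, Set.mem_union, Set.mem_diff, Set.mem_singleton_iff, SetLike.mem_coe]
    refine ⟨fun hs => ?_, ?_⟩
    · by_cases hst : s * t = t * s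
      · refine Or.inl ⟨?_, hs.2⟩
        rw [← hCt]
        exact mem_centralizer_singleton_iff.2 hst
      · exact Or.inr ⟨hs, hst⟩
    · rintro (⟨hs, hs1⟩ | ⟨hs, -⟩)
      · exact h.inv2_of_mem Q hs hs1
      · exact hs
  have hIcard : I.ncard = p + Y.ncard := by
    rw [hIsplit, Set.ncard_union_eq ?_ (Set.toFinite _) (Set.toFinite _)]
    · congr 1
      rw [Set.ncard_diff_singleton_of_mem (one_mem (Q : Subgroup G)), ← Nat.card_coe_set_eq]
      have := h.qcard Q
      have := h.hpb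
      show Nat.card (Q : Subgroup G) - 1 = p
      omega
    · rw [Set.disjoint_left]
      rintro s ⟨hs, -⟩ ⟨-, hst⟩
      exact hst (h.qcomm Q hs htQ)
  have hYX : Nat.card Y = Nat.card X := by
    refine Nat.card_congr
      { toFun := fun s => ⟨t * (s : G), hnc s s.2.1 s.2.2⟩
        invFun := fun x => ⟨t * (x : G), ?_, ?_⟩
        left_inv := fun s => Subtype.ext (by show t * (t * (s : G)) = s; rw [← mul_assoc, ht.1, one_mul])
        right_inv := fun x => Subtype.ext (by show t * (t * (x : G)) = x; rw [← mul_assoc, ht.1, one_mul]) }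
    · refine ⟨?_, fun e => ?_⟩
      · calc t * (x : G) * (t * (x : G)) = (t * (x : G) * t⁻¹) * x := by rw [ht.inv_eq]; group
          _ = 1 := by rw [x.2.2.2, inv_mul_cancel]
      · exact x.2.2.1 (h.pel_eq_one x.2.1 (by rw [← inv_eq_of_mul_eq_one_right e, ht.inv_eq, ht.1]))
    · intro e
      refine x.2.2.1 (hA t ht x x.2.1 ?_)
      have h1 : t * ((x : G) * t) = t * (t * (x : G)) := by rw [← mul_assoc]; exact e
      exact mul_left_cancel h1
  set N := Nat.card P₀ with hN
  have hXcard : Nat.card X = 2 ^ (c + 1) * (N - 1) := by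
    have hsig : (Σ P : PS, {x : G // x ∈ (P : Sylow p G) ∧ x ≠ 1}) ≃ X :=
      Equiv.ofBijective (fun y => ⟨y.2.1, h.pel_of_mem_sylow _ y.2.2.1, y.2.2.2,
          hinvP _ t ht y.1.2 _ y.2.2.1⟩) ⟨by
        rintro ⟨P, x, hx, hx1⟩ ⟨P', x', hx', hx1'⟩ e
        obtain rfl : x = x' := congrArg Subtype.val e
        obtain ⟨P₁, -, -, huni⟩ := huniq x ⟨h.pel_of_mem_sylow _ hx, hx1, hinvP _ t ht P.2 _ hx⟩
        obtain rfl : P = P' := Subtype.ext ((huni _ hx).trans (huni _ hx').symm)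
        rfl, fun x => by
        obtain ⟨P, hP, hxP, -⟩ := huniq x x.2
        exact ⟨⟨⟨P, hP⟩, x, hxP, x.2.2.1⟩, rfl⟩⟩
    haveI : Fintype PS := Fintype.ofFinite _
    rw [← Nat.card_congr hsig, Nat.card_sigma]
    have hone : ∀ P : PS, Nat.card {x : G // x ∈ (P : Sylow p G) ∧ x ≠ 1} = N - 1 := fun P => by
      rw [show {x : G // x ∈ (P : Sylow p G) ∧ x ≠ 1} =
        ↥((((P : Sylow p G) : Subgroup G) : Set G) \ {1}) from rfl, Nat.card_coe_set_eq,
        Set.ncard_diff_singleton_of_mem (one_mem ((P : Sylow p G) : Subgroup G)), ← Nat.card_coe_set_eq]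
      rw [hN, Sylow.card_eq_multiplicity P₀, ← Sylow.card_eq_multiplicity (P : Sylow p G)]
      rfl
    rw [Finset.sum_congr rfl fun P _ => hone P, Finset.sum_const, smul_eq_mul, Finset.card_univ,
      ← Nat.card_eq_fintype_card, Nat.card_coe_set_eq, hk]
  -- divisibility
  have hNI : N ∣ I.ncard := by
    have horbI : MulAction.orbit (ConjAct G) t = I := by
      ext s
      refine ⟨?_, fun hs => ?_⟩
      · rintro ⟨g, rfl⟩
        show Inv2 (g • t)
        rw [ConjAct.smul_def]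
        exact ht.conj _
      · obtain ⟨g, rfl⟩ := h.inv_conj ht hs
        exact ⟨ConjAct.toConjAct g, ConjAct.toConjAct_smul g t⟩
    have h2 : I.ncard = (centralizer ({t} : Set G)).index := by
      rw [← horbI, ← MulAction.index_stabilizer, ConjAct.stabilizer_eq_centralizer]
      rfl
    rw [h2, hCt]
    have h3 := Subgroup.card_subgroup_dvd_card (P₀ : Subgroup G)
    rw [← (Q : Subgroup G).card_mul_index, h.qcard Q] at h3
    obtain ⟨i, hi⟩ := IsPGroup.iff_card.1 P₀.isPGroup'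
    refine (Nat.Coprime.dvd_of_dvd_mul_left ?_ h3)
    rw [hN, hi]
    exact Nat.Coprime.pow _ _ ((Nat.coprime_primes h.hp Nat.prime_two).2 h.hp2)
  rw [hIcard, ← Nat.card_coe_set_eq, hYX, hXcard] at hNI
  have hpN : p ≤ N := Nat.le_of_dvd Nat.card_pos (P₀.dvd_card_of_dvd_card h.hpG)
  have hb := h.hpb
  rw [pow_succ' 2 (c + 1)] at hb
  have hc2 : 2 ≤ 2 ^ (c + 1) := Nat.le_self_pow (by omega) 2
  have h3 : N ∣ p - 2 ^ (c + 1) := by
    have h4 : p + 2 ^ (c + 1) * (N - 1) = (p - 2 ^ (c + 1)) + 2 ^ (c + 1) * N := by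
      rw [Nat.mul_sub_one]
      have : 2 ^ (c + 1) ≤ 2 ^ (c + 1) * N := Nat.le_mul_of_pos_right _ Nat.card_pos
      omega
    rw [h4] at hNI
    exact (Nat.dvd_add_left (Dvd.intro_left _ rfl)).1 hNI
  have := Nat.le_of_dvd (by omega) h3
  omega

/-- The configuration does not occur. -/
theorem absurd' : False := by
  classical
  haveI : Fact (Nat.Prime 2) := ⟨Nat.prime_two⟩
  by_cases hB : ∃ (Q : Sylow 2 G) (d : G), Pel p d ∧ d ≠ 1 ∧ ∀ a ∈ Q, d * a = a * d
  · obtain ⟨Q, d, hd, hd1, hdQ⟩ := hB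
    exact h.false_of_centralized hd hd1 hdQ
  push Not at hB
  have hCQ : ∀ (Q : Sylow 2 G) (d : G), Pel p d → (∀ a ∈ Q, d * a = a * d) → d = 1 := by
    intro Q d hd hc
    by_contra hd1
    obtain ⟨a, ha, hne⟩ := hB Q d hd hd1
    exact hne (hc a ha)
  by_cases hA : ∀ z : G, Inv2 z → ∀ e : G, Pel p e → e * z = z * e → e = 1
  · exact h.false_of_two_groups hA
  push Not at hA
  obtain ⟨z₀, hz₀, e₀, he₀, hez₀, he₁⟩ := hA
  have hsome : ∀ t : G, Inv2 t → ∃ e : G, Pel p e ∧ e * t = t * e ∧ e ≠ 1 := by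
    intro t ht
    obtain ⟨g, rfl⟩ := h.inv_conj hz₀ ht
    refine ⟨g * e₀ * g⁻¹, he₀.conj g, ?_, fun e => he₁ (conj_eq_one_iff.1 e)⟩
    calc g * e₀ * g⁻¹ * (g * z₀ * g⁻¹) = g * (e₀ * z₀) * g⁻¹ := by group
      _ = g * (z₀ * e₀) * g⁻¹ := by rw [hez₀]
      _ = _ := by group
  have hnc : ∀ (Q : Sylow 2 G) (U : Subgroup G), IsPGroup p U → U ≠ ⊥ →
      ¬ (Q : Subgroup G) ≤ centralizer (U : Set G) := by
    intro Q U hU hne hc
    obtain ⟨x, hx, hx1⟩ := (Subgroup.bot_or_exists_ne_one _).resolve_left hne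
    exact hx1 (hCQ Q x (pel_of_mem hU hx) fun a ha => mem_centralizer_iff.1 (hc ha) x hx)
  -- two Sylow subgroups normalised by `Q` meeting an involution centralizer coincide
  have hsame : ∀ (Q : Sylow 2 G) (w : G), w ∈ Q → w ≠ 1 → ∀ P P' : Sylow p G,
      (Q : Subgroup G) ≤ normalizer (P : Set G) → (Q : Subgroup G) ≤ normalizer (P' : Set G) →
      ∀ e ∈ P, ∀ e' ∈ P', e * w = w * e → e' * w = w * e' → e ≠ 1 → e' ≠ 1 → P = P' := by
    intro Q w hw hw1 P P' hP hP' e he e' he' hew hew' he1 he1'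
    obtain ⟨U, hU, -, hQU, hall⟩ := h.exists_ucore Q hw hw1
    have hU0 : U ≠ ⊥ := fun e0 => he1 (mem_bot.1 (e0 ▸ hall e hew (h.pel_of_mem_sylow P he)))
    obtain ⟨P₁, hUP₁, hQP₁, -⟩ := h.unique_sylow hU Q hQU (hnc Q U hU hU0)
    have key : ∀ (P : Sylow p G) (e : G), (Q : Subgroup G) ≤ normalizer (P : Set G) → e ∈ P →
        e * w = w * e → e ≠ 1 → P = P₁ := by
      intro P e hP he hew he1
      set E := (P : Subgroup G) ⊓ P₁ with hE
      have heE : e ∈ E := ⟨he, hUP₁ (hall e hew (h.pel_of_mem_sylow P he))⟩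
      have hQE : (Q : Subgroup G) ≤ normalizer (E : Set G) := by
        intro a ha
        rw [mem_normalizer_iff]
        intro y
        simp only [hE, Subgroup.mem_inf]
        exact and_congr (mem_normalizer_iff.1 (hP ha) y) (mem_normalizer_iff.1 (hQP₁ ha) y)
      have hEp : IsPGroup p E := P.isPGroup'.to_le inf_le_left
      obtain ⟨P₂, -, -, hu⟩ := h.unique_sylow hEp Q hQE
        (hnc Q E hEp fun e0 => he1 (mem_bot.1 (e0 ▸ heE)))
      exact (hu P inf_le_left).trans (hu P₁ inf_le_right).symm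
    exact (key P e hP he hew he1).trans (key P' e' hP' he' hew' he1').symm
  -- the structure at each involution
  have hstr : ∀ (Q : Sylow 2 G) (t : G), t ∈ Q → t ≠ 1 → ∃ P : Sylow p G,
      (Q : Subgroup G) ≤ normalizer (P : Set G) ∧ (∀ f ∈ P, t * f * t⁻¹ = f) ∧
      ∀ s ∈ Q, s ≠ 1 → s ≠ t → ∀ f ∈ P, s * f * s⁻¹ = f⁻¹ := by
    intro Q t ht ht1
    obtain ⟨U, hU, -, hQU, hall⟩ := h.exists_ucore Q ht ht1
    obtain ⟨e, he, het, he1⟩ := hsome t (h.inv2_of_mem Q ht ht1)
    have heU : e ∈ U := hall e het he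
    obtain ⟨P, hUP, hQP, -⟩ := h.unique_sylow hU Q hQU (hnc Q U hU fun e0 => he1 (mem_bot.1 (e0 ▸ heU)))
    have hfree : ∀ s ∈ Q, s ≠ 1 → s ≠ t → ∀ f ∈ P, f * s = s * f → f = 1 := by
      intro s hs hs1 hst f hf hfs
      by_contra hf1
      obtain ⟨g, hgQ, hgp, hgs⟩ := h.trans Q t ht s hs ht1 hs1
      have hQP' : (Q : Subgroup G) ≤ normalizer ((g • P : Sylow p G) : Set G) := by
        intro a ha
        have ha' : g⁻¹ * a * g ∈ normalizer (P : Set G) := hQP (by
          have := (mem_normalizer_iff.1 (inv_mem hgQ) a).1 ha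
          rwa [inv_inv] at this)
        rw [← Sylow.smul_eq_iff_mem_normalizer] at ha' ⊢
        rw [mul_smul, mul_smul, inv_smul_eq_iff] at ha'
        exact ha'
      have heP' : g * e * g⁻¹ ∈ ((g • P : Sylow p G) : Subgroup G) := by
        rw [Sylow.coe_subgroup_smul]
        exact ⟨e, hUP heU, rfl⟩
      have hes : g * e * g⁻¹ * s = s * (g * e * g⁻¹) := by
        rw [← hgs]
        calc g * e * g⁻¹ * (g * t * g⁻¹) = g * (e * t) * g⁻¹ := by group
          _ = g * (t * e) * g⁻¹ := by rw [het]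
          _ = _ := by group
      have hPP := hsame Q s hs hs1 P (g • P) hQP hQP' f hf _ heP' hfs hes hf1
        (fun e' => he1 (conj_eq_one_iff.1 e'))
      have hgP : g ∈ P := h.pel_mem_of_normalizes P hgp (Sylow.smul_eq_iff_mem_normalizer.1 hPP.symm)
      have h1 : g * t * g⁻¹ * t⁻¹ ∈ P := by
        have h2 := (P : Subgroup G).mul_mem hgP ((mem_normalizer_iff.1 (hQP ht) g⁻¹).1 (inv_mem hgP))
        rw [show g * t * g⁻¹ * t⁻¹ = g * (t * g⁻¹ * t⁻¹) by group]
        exact h2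
      have h3 : g * t * g⁻¹ * t⁻¹ ∈ Q := by
        rw [hgs]
        exact (Q : Subgroup G).mul_mem hs (inv_mem ht)
      have h4 := h.ptrivial (h.pel_of_mem_sylow P h1) h3
      rw [hgs, mul_inv_eq_one] at h4
      exact hst h4
    have hinv : ∀ s ∈ Q, s ≠ 1 → s ≠ t → ∀ f ∈ P, s * f * s⁻¹ = f⁻¹ := fun s hs hs1 hst f hf =>
      h.inverts P (h.inv2_of_mem Q hs hs1) (hQP hs) (hfree s hs hs1 hst) hf
    refine ⟨P, hQP, fun f hf => ?_, hinv⟩
    obtain ⟨s, hs, hs1, hst⟩ : ∃ s ∈ Q, s ≠ 1 ∧ s ≠ t := by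
      by_contra hno
      push Not at hno
      have h1 : ((Q : Subgroup G) : Set G) ⊆ {1, t} := fun s hs => by
        by_cases hs1 : s = 1
        · exact Or.inl hs1
        · exact Or.inr (hno s hs hs1)
      have h2 := (Set.ncard_le_ncard h1).trans (Set.ncard_insert_le _ _)
      rw [Set.ncard_singleton, ← Nat.card_coe_set_eq] at h2
      have h3 := h.qcard Q
      have h4 := h.hpb
      have h5 := h.hp.two_le
      change Nat.card (Q : Subgroup G) ≤ 2 at h2
      omega
    have e1 := hinv s hs hs1 hst f hf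
    have e2 := hinv (t * s) ((Q : Subgroup G).mul_mem ht hs) (fun e' => hst (by
      rw [← inv_eq_of_mul_eq_one_right e', (h.inv2_of_mem Q ht ht1).inv_eq]))
      (fun e' => hs1 (mul_left_cancel (e'.trans (mul_one t).symm))) f⁻¹ (inv_mem hf)
    rw [inv_inv] at e2
    calc t * f * t⁻¹ = t * s * (s⁻¹ * f * s⁻¹⁻¹) * (t * s)⁻¹ := by group
      _ = t * s * (s * f * s⁻¹) * (t * s)⁻¹ := by rw [inv_inv, (h.inv2_of_mem Q hs hs1).inv_eq]
      _ = t * s * f⁻¹ * (t * s)⁻¹ := by rw [e1]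
      _ = f := e2
  -- four-groups
  have hfour : ∀ (Q : Sylow 2 G) (s t v : G), s ∈ Q → t ∈ Q → v ∈ Q → s ≠ 1 → t ≠ 1 → v ≠ 1 →
      s ≠ t → v ≠ s → v ≠ t → v = s * t := by
    intro Q s t v hs ht hv hs1 ht1 hv1 hst hvs hvt
    by_contra hne
    obtain ⟨P, -, -, hinv⟩ := hstr Q t ht ht1
    obtain ⟨f, hf, hf1⟩ := (Subgroup.bot_or_exists_ne_one _).resolve_left (h.psylow_ne_bot P)
    have e1 := hinv s hs hs1 hst f hf
    have e2 := hinv v hv hv1 hvt
    have e3 := hinv (v * s) ((Q : Subgroup G).mul_mem hv hs)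
      (fun e' => hvs (by rw [← (h.inv2_of_mem Q hv hv1).inv_eq, inv_eq_of_mul_eq_one_right e']))
      (fun e' => hne (by
        calc v = v * s * s := by rw [mul_assoc, h.qexp Q s hs, mul_one]
          _ = t * s := by rw [e']
          _ = s * t := h.qcomm Q ht hs)) f hf
    have e4 : v * s * f * (v * s)⁻¹ = f := by
      calc v * s * f * (v * s)⁻¹ = v * (s * f * s⁻¹) * v⁻¹ := by group
        _ = v * f⁻¹ * v⁻¹ := by rw [e1]
        _ = f := by rw [e2 f⁻¹ (inv_mem hf), inv_inv]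
    rw [e4] at e3
    exact hf1 (h.pel_eq_one (h.pel_of_mem_sylow P hf) (eq_inv_iff_mul_eq_one.1 e3))
  -- a `p`-element commutes with exactly one involution
  have hI : ∀ x : G, Pel p x → x ≠ 1 → ∃ w, Inv2 w ∧ x * w = w * x ∧
      ∀ v, Inv2 v → x * v = v * x → v = w := by
    obtain ⟨Q₀, ht₀⟩ := h.exists_sylow_two hz₀
    obtain ⟨P₀, hQP₀, hP₀t, hP₀s⟩ := hstr Q₀ z₀ ht₀ hz₀.2
    have key : ∀ x ∈ P₀, x ≠ 1 → ∀ v, Inv2 v → x * v = v * x → v = z₀ := by
      intro x hx hx1 v hv hxv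
      have hxp := h.pel_of_mem_sylow P₀ hx
      have hQx : (Q₀ : Subgroup G) ≤ normalizer ((zpowers x : Subgroup G) : Set G) := by
        intro a ha
        by_cases ha1 : a = 1
        · exact ha1 ▸ one_mem _
        refine mem_normalizer_zpowers ?_ (h.qexp Q₀ a ha)
        by_cases haz : a = z₀
        · exact Or.inr (haz ▸ hP₀t x hx)
        · exact Or.inl (hP₀s a ha ha1 haz x hx)
      have hx0 : zpowers x ≠ ⊥ := fun e => hx1 (zpowers_eq_bot.1 e)
      obtain ⟨P₁, -, -, huni⟩ := h.unique_sylow hxp.isPGroup Q₀ hQx (hnc Q₀ _ hxp.isPGroup hx0)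
      have hxmem : zpowers x ≤ ((v • P₀ : Sylow p G) : Subgroup G) := by
        rw [zpowers_le, Sylow.coe_subgroup_smul]
        exact ⟨x, hx, show v * x * v⁻¹ = x by rw [← hxv, mul_inv_cancel_right]⟩
      have hvN : v ∈ normalizer (P₀ : Set G) := Sylow.smul_eq_iff_mem_normalizer.1
        ((huni _ hxmem).trans (huni P₀ (zpowers_le.2 hx)).symm)
      set N := normalizer (P₀ : Set G) with hN
      have hNC : N ≤ N ⊓ centralizer ({z₀} : Set G) := by
        refine h.le_of_sylows (h.normalizer_ne_top P₀.isPGroup' (h.psylow_ne_bot P₀)) P₀ Q₀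
          (le_inf le_normalizer fun y hy => ?_)
          (le_inf hQP₀ fun a ha => mem_centralizer_singleton_iff.2 (h.qcomm Q₀ ha ht₀)) inf_le_left
        refine mem_centralizer_singleton_iff.2 ?_
        calc y * z₀ = (z₀ * y * z₀⁻¹) * z₀ := by rw [hP₀t y hy]
          _ = z₀ * y := by rw [inv_mul_cancel_right]
      have hv2 : IsPGroup 2 (zpowers (⟨v, hvN⟩ : N)) :=
        IsPGroup.of_card (n := 1) (by rw [Nat.card_zpowers, Subgroup.orderOf_mk, hv.orderOf_eq, pow_one])
      obtain ⟨R, hR⟩ := hv2.exists_le_sylow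
      obtain ⟨k, hk⟩ := MulAction.exists_smul_eq N R (Q₀.subtype hQP₀)
      have h1 : k * ⟨v, hvN⟩ * k⁻¹ ∈ ((Q₀.subtype hQP₀ : Sylow 2 N) : Subgroup N) := by
        rw [← hk, Sylow.coe_subgroup_smul]
        exact ⟨_, hR (mem_zpowers _), rfl⟩
      set a := (k : G) * v * (k : G)⁻¹ with ha
      have haQ : a ∈ Q₀ := h1
      set x' := (k : G) * x * (k : G)⁻¹ with hx'
      have hx'P : x' ∈ P₀ := (mem_normalizer_iff.1 k.2 x).1 hx
      have hax : x' * a = a * x' := by
        calc x' * a = (k : G) * (x * v) * (k : G)⁻¹ := by rw [hx', ha]; group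
          _ = (k : G) * (v * x) * (k : G)⁻¹ := by rw [hxv]
          _ = a * x' := by rw [hx', ha]; group
      have haz : a = z₀ := by
        by_contra haz
        have e1 := hP₀s a haQ (hv.conj (k : G)).2 haz x' hx'P
        rw [← hax, mul_inv_cancel_right] at e1
        exact hx1 (conj_eq_one_iff.1 (h.pel_eq_one (hxp.conj _) (eq_inv_iff_mul_eq_one.1 e1)))
      have hkz := mem_centralizer_singleton_iff.1 (hNC k.2).2
      calc v = (k : G)⁻¹ * a * k := by rw [ha]; group
        _ = (k : G)⁻¹ * (z₀ * k) := by rw [haz]; group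
        _ = z₀ := by rw [← hkz, inv_mul_cancel_left]
    intro x hx hx1
    obtain ⟨P, hxP⟩ := h.exists_sylow_p hx
    obtain ⟨g, rfl⟩ := MulAction.exists_smul_eq G P₀ P
    have hxP' : x ∈ ((g • P₀ : Sylow p G) : Subgroup G) := hxP
    rw [Sylow.coe_subgroup_smul] at hxP'
    obtain ⟨y, hy, rfl⟩ := hxP'
    have hy1 : y ≠ 1 := fun e => hx1 (by simp [e])
    show ∃ w, Inv2 w ∧ g * y * g⁻¹ * w = w * (g * y * g⁻¹) ∧
      ∀ v, Inv2 v → g * y * g⁻¹ * v = v * (g * y * g⁻¹) → v = w
    have hyz : y * z₀ = z₀ * y := by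
      calc y * z₀ = (z₀ * y * z₀⁻¹) * z₀ := by rw [hP₀t y hy]
        _ = z₀ * y := by rw [inv_mul_cancel_right]
    refine ⟨g * z₀ * g⁻¹, hz₀.conj g, ?_, fun v hv hyv => ?_⟩
    · calc g * y * g⁻¹ * (g * z₀ * g⁻¹) = g * (y * z₀) * g⁻¹ := by group
        _ = g * (z₀ * y) * g⁻¹ := by rw [hyz]
        _ = _ := by group
    · have hv' : Inv2 (g⁻¹ * v * g) := by
        have := hv.conj g⁻¹
        rwa [inv_inv] at this
      have h1 := key y hy hy1 (g⁻¹ * v * g) hv' (by
        calc y * (g⁻¹ * v * g) = g⁻¹ * (g * y * g⁻¹ * v) * g := by group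
          _ = g⁻¹ * (v * (g * y * g⁻¹)) * g := by rw [hyv]
          _ = _ := by group)
      rw [← h1]
      group
  -- the commuting graph on involutions
  let R : {s : G // Inv2 s} → {s : G // Inv2 s} → Prop := fun s t => s ≠ t ∧ (s : G) * t = t * s
  haveI : Fintype {s : G // Inv2 s} := Fintype.ofFinite _
  set k := (Finset.univ.filter (R ⟨z₀, hz₀⟩)).card with hk
  refine friendship_absurd R (fun s t hst => ⟨fun e => hst.1 e.symm, hst.2.symm⟩) (fun s hs => hs.1 rfl) k
    ?_ ?_ ?_ ⟨⟨z₀, hz₀⟩⟩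
  · -- degree at least three
    obtain ⟨Q, htQ⟩ := h.exists_sylow_two hz₀
    obtain ⟨P, hQP, hPt, hPs⟩ := hstr Q z₀ htQ hz₀.2
    obtain ⟨f, hf, hf1⟩ := (Subgroup.bot_or_exists_ne_one _).resolve_left (h.psylow_ne_bot P)
    obtain ⟨s, hs, hs1, hst⟩ : ∃ s ∈ Q, s ≠ 1 ∧ s ≠ z₀ := by
      obtain ⟨g, hgQ, -, hg⟩ := h.trans Q z₀ htQ z₀ htQ hz₀.2 hz₀.2
      by_contra hno
      push Not at hno
      have h1 : ((Q : Subgroup G) : Set G) ⊆ {1, z₀} := fun s hs => by
        by_cases hs1 : s = 1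
        · exact Or.inl hs1
        · exact Or.inr (hno s hs hs1)
      have h2 := (Set.ncard_le_ncard h1).trans (Set.ncard_insert_le _ _)
      rw [Set.ncard_singleton, ← Nat.card_coe_set_eq] at h2
      have h3 := h.qcard Q
      have h4 := h.hpb
      have h5 := h.hp.two_le
      change Nat.card (Q : Subgroup G) ≤ 2 at h2
      omega
    have hsi := h.inv2_of_mem Q hs hs1
    have e1 := hPs s hs hs1 hst f hf
    have hc : f * z₀ = z₀ * f := by
      calc f * z₀ = (z₀ * f * z₀⁻¹) * z₀ := by rw [hPt f hf]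
        _ = z₀ * f := by rw [inv_mul_cancel_right]
    have hzs := h.qcomm Q htQ hs
    have hts : Inv2 (z₀ * s) := h.inv2_of_mem Q ((Q : Subgroup G).mul_mem htQ hs)
      (fun e => hst (by rw [← inv_eq_of_mul_eq_one_right e, hz₀.inv_eq]))
    have hne3 : f * s * f⁻¹ ≠ s ∧ f * s * f⁻¹ ≠ z₀ * s := by
      have e2 : f * s * f⁻¹ = f * f * s := by
        have e1' : s * f⁻¹ = f * s := by
          calc s * f⁻¹ = s * (s * f * s⁻¹) := by rw [e1]
            _ = (s * s) * f * s⁻¹ := by group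
            _ = f * s := by rw [hsi.1, hsi.inv_eq, one_mul]
        rw [mul_assoc, e1', mul_assoc]
      refine ⟨fun e => hf1 (h.pel_eq_one (h.pel_of_mem_sylow P hf) ?_), fun e => hz₀.2 ?_⟩
      · rw [e2] at e
        exact mul_eq_right.1 e
      · rw [e2] at e
        have h1 : z₀ = f * f := (mul_right_cancel e).symm
        exact h.ptrivial (h.pel_of_mem_sylow P (h1 ▸ (P : Subgroup G).mul_mem hf hf)) htQ
    have hzfs : z₀ * (f * s * f⁻¹) = f * s * f⁻¹ * z₀ := by
      have h1 : Commute z₀ f := hc.symm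
      exact ((h1.mul_right (show Commute z₀ s from hzs)).mul_right h1.inv_right).eq
    let v1 : {s : G // Inv2 s} := ⟨s, hsi⟩
    let v2 : {s : G // Inv2 s} := ⟨z₀ * s, hts⟩
    let v3 : {s : G // Inv2 s} := ⟨f * s * f⁻¹, hsi.conj f⟩
    have hsub : ({v1, v2, v3} : Finset {s : G // Inv2 s}) ⊆ Finset.univ.filter (R ⟨z₀, hz₀⟩) := by
      intro v hv
      simp only [Finset.mem_insert, Finset.mem_singleton] at hv
      simp only [Finset.mem_filter, Finset.mem_univ, true_and, R, ne_eq, Subtype.ext_iff]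
      rcases hv with rfl | rfl | rfl
      · exact ⟨fun e => hst e.symm, hzs⟩
      · refine ⟨fun e => hs1 (left_eq_mul.1 e), ?_⟩
        show z₀ * (z₀ * s) = z₀ * s * z₀
        rw [mul_assoc z₀ s z₀, ← hzs]
      · refine ⟨fun e => hst ?_, hzfs⟩
        calc s = f⁻¹ * (f * s * f⁻¹) * f := by group
          _ = f⁻¹ * (z₀ * f) := by rw [← show z₀ = f * s * f⁻¹ from e, mul_assoc]
          _ = z₀ := by rw [← hc, inv_mul_cancel_left]
    have h3 : ({v1, v2, v3} : Finset {s : G // Inv2 s}).card = 3 := by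
      rw [Finset.card_eq_three]
      refine ⟨v1, v2, v3, fun e => hz₀.2 ?_, fun e => hne3.1 ?_, fun e => hne3.2 ?_, rfl⟩
      · exact right_eq_mul.1 (congrArg Subtype.val e)
      · exact (congrArg Subtype.val e).symm
      · exact (congrArg Subtype.val e).symm
    rw [← h3]
    exact Finset.card_le_card hsub
  · -- regular
    intro t
    obtain ⟨g, hg⟩ := h.inv_conj hz₀ t.2
    rw [hk]
    let σ : {s : G // Inv2 s} ≃ {s : G // Inv2 s} :=
      (MulAut.conj g).toEquiv.subtypeEquiv fun s => ⟨fun hs => hs.conj g, fun hs => by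
        have := Inv2.conj hs g⁻¹
        simpa [mul_assoc] using this⟩
    have hσ : σ ⟨z₀, hz₀⟩ = t := Subtype.ext hg
    symm
    refine Finset.card_equiv σ fun s => ?_
    simp only [Finset.mem_filter, Finset.mem_univ, true_and, R, ne_eq]
    rw [← hσ]
    refine and_congr (σ.injective.eq_iff.not).symm ?_
    show z₀ * (s : G) = s * z₀ ↔ g * z₀ * g⁻¹ * (g * s * g⁻¹) = g * s * g⁻¹ * (g * z₀ * g⁻¹)
    rw [show g * z₀ * g⁻¹ * (g * s * g⁻¹) = g * (z₀ * s) * g⁻¹ by group,
      show g * s * g⁻¹ * (g * z₀ * g⁻¹) = g * (s * z₀) * g⁻¹ by group]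
    exact ⟨fun e => by rw [e], fun e => mul_left_cancel (mul_right_cancel e)⟩
  · -- unique common neighbour
    intro s t hst
    rw [Finset.card_eq_one]
    by_cases hcm : (s : G) * t = t * s
    · have hsp : IsPGroup 2 (zpowers (s : G)) := Pel.isPGroup ⟨1, by rw [pow_one, sq, s.2.1]⟩
      refine ⟨⟨(s : G) * t, ?_, ?_⟩, ?_⟩
      · calc (s : G) * t * (s * t) = s * (t * s) * t := by group
          _ = (s * s) * (t * t) := by rw [← hcm]; group
          _ = 1 := by rw [s.2.1, t.2.1, one_mul]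
      · exact fun e => hst (Subtype.ext (by rw [← s.2.inv_eq, inv_eq_of_mul_eq_one_right e]))
      ext v
      simp only [Finset.mem_filter, Finset.mem_univ, true_and, Finset.mem_singleton, R, ne_eq]
      refine ⟨fun ⟨⟨hsv, hsv'⟩, hvt, hvt'⟩ => Subtype.ext ?_, ?_⟩
      · have hle : ∀ {a c : G}, Commute a c → zpowers a ≤ normalizer ((zpowers c : Subgroup G) : Set G) :=
          fun {a c} hac => by
            rw [zpowers_le]
            refine centralizer_le_normalizer _ (mem_centralizer_iff.2 ?_)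
            rintro - ⟨i, rfl⟩
            exact (hac.zpow_right i).eq.symm
        have htp : IsPGroup 2 (zpowers (t : G)) := Pel.isPGroup ⟨1, by rw [pow_one, sq, t.2.1]⟩
        have hvp : IsPGroup 2 (zpowers (v : G)) := Pel.isPGroup ⟨1, by rw [pow_one, sq, v.2.1]⟩
        have hst2 : IsPGroup 2 ↥(zpowers (s : G) ⊔ zpowers (t : G)) :=
          IsPGroup.to_sup_of_normal_right' hsp htp (hle hcm)
        have hv2 : zpowers (v : G) ≤ normalizer ((zpowers (s : G) ⊔ zpowers (t : G) : Subgroup G) : Set G) := by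
          rw [zpowers_le]
          refine centralizer_le_normalizer _ ?_
          rw [SetLike.mem_coe.symm] at *
          have h1 : zpowers (s : G) ⊔ zpowers (t : G) ≤ centralizer ({(v : G)} : Set G) :=
            sup_le (zpowers_le.2 (mem_centralizer_singleton_iff.2 hsv'))
              (zpowers_le.2 (mem_centralizer_singleton_iff.2 hvt'.symm))
          exact mem_centralizer_iff.2 fun y hy => mem_centralizer_singleton_iff.1 (h1 hy)
        obtain ⟨Q, hQ⟩ := (IsPGroup.to_sup_of_normal_right' hvp hst2 hv2).exists_le_sylow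
        exact hfour Q s t v (hQ (mem_sup_right (mem_sup_left (mem_zpowers _))))
          (hQ (mem_sup_right (mem_sup_right (mem_zpowers _)))) (hQ (mem_sup_left (mem_zpowers _)))
          s.2.2 t.2.2 v.2.2 (fun e => hst (Subtype.ext e)) (fun e => hsv (Subtype.ext e.symm))
          (fun e => hvt (Subtype.ext e))
      · rintro rfl
        refine ⟨⟨fun e => t.2.2 (left_eq_mul.1 (congrArg Subtype.val e)), ?_⟩,
          fun e => s.2.2 (mul_eq_right.1 (congrArg Subtype.val e)), ?_⟩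
        · show (s : G) * (s * t) = s * t * s
          rw [mul_assoc (s : G) t s, ← hcm]
        · show (s : G) * t * t = t * (s * t)
          rw [← mul_assoc (t : G) s t, ← hcm]
    · obtain ⟨x, hx1, hx, hxst, hsx⟩ := h.exists_inverted s.2 t.2 hcm
      obtain ⟨w, hw, hxw, huw⟩ := hI x hx hx1
      have hsw : (s : G) * w * (s : G)⁻¹ = w := by
        refine huw _ (hw.conj _) ?_
        have h1 : x⁻¹ * w = w * x⁻¹ := (show Commute x w from hxw).inv_left.eq
        have hsx' : (s : G) * x⁻¹ * (s : G)⁻¹ = x := by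
          rw [← conj_inv, hsx, inv_inv]
        calc x * ((s : G) * w * (s : G)⁻¹) = ((s : G) * x⁻¹ * (s : G)⁻¹) * ((s : G) * w * (s : G)⁻¹) := by
              rw [hsx']
          _ = (s : G) * (x⁻¹ * w) * (s : G)⁻¹ := by group
          _ = (s : G) * (w * x⁻¹) * (s : G)⁻¹ := by rw [h1]
          _ = (s : G) * w * (s : G)⁻¹ * ((s : G) * x⁻¹ * (s : G)⁻¹) := by group
          _ = _ := by rw [hsx']
      have hsw' : (s : G) * w = w * s := mul_inv_eq_iff_eq_mul.1 hsw
      have hx' : Commute x (s * t) := by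
        obtain ⟨i, rfl⟩ := hxst
        exact (Commute.refl _).zpow_left i
      have htw : (t : G) * w = w * t := by
        have h1 : ((t : G) * w * (t : G)⁻¹) = w := by
          refine huw _ (hw.conj _) ?_
          have htx : (t : G) = (s : G) * (s * t) := by rw [← mul_assoc, s.2.1, one_mul]
          have h3 : (t : G) * x⁻¹ * (t : G)⁻¹ = x := by
            rw [htx]
            calc (s : G) * (s * t) * x⁻¹ * ((s : G) * (s * t))⁻¹
                = (s : G) * ((s * t) * x⁻¹ * (s * t : G)⁻¹) * (s : G)⁻¹ := by group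
              _ = x := by rw [hx'.inv_left.eq.symm, mul_inv_cancel_right, ← conj_inv, hsx, inv_inv]
          have h4 : x⁻¹ * w = w * x⁻¹ := (show Commute x w from hxw).inv_left.eq
          calc x * ((t : G) * w * (t : G)⁻¹) = ((t : G) * x⁻¹ * (t : G)⁻¹) * ((t : G) * w * (t : G)⁻¹) := by
                rw [h3]
            _ = (t : G) * (x⁻¹ * w) * (t : G)⁻¹ := by group
            _ = (t : G) * (w * x⁻¹) * (t : G)⁻¹ := by rw [h4]
            _ = (t : G) * w * (t : G)⁻¹ * ((t : G) * x⁻¹ * (t : G)⁻¹) := by group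
            _ = _ := by rw [h3]
        exact mul_inv_eq_iff_eq_mul.1 h1
      refine ⟨⟨w, hw⟩, ?_⟩
      ext v
      simp only [Finset.mem_filter, Finset.mem_univ, true_and, Finset.mem_singleton, R, ne_eq]
      refine ⟨fun ⟨⟨_, hsv⟩, _, hvt⟩ => Subtype.ext (huw v v.2 ?_), ?_⟩
      · obtain ⟨i, rfl⟩ := hxst
        exact (((show Commute (v : G) s from hsv.symm).mul_right (show Commute (v : G) t from hvt)).zpow_right i).symm.eq
      · rintro rfl
        refine ⟨⟨fun e => ?_, hsw'⟩, fun e => hcm ?_, htw.symm⟩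
        · have e' : (s : G) = w := congrArg Subtype.val e
          rw [e', ← hxw, mul_inv_cancel_right] at hsx
          exact hx1 (h.pel_eq_one hx (eq_inv_iff_mul_eq_one.1 hsx))
        · have e' : w = (t : G) := congrArg Subtype.val e
          rw [e'] at hsw'
          exact hsw'

end Hyp

end CfsgLib.SchurExt.MixedPrimes
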