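import Mathlib
import Cfsg.Agent.Lib.SchurExt.MixedPrimes
import Cfsg.Agent.S0183
import Cfsg.Agent.Lib.NormalPComplement.Replacement

/-!
Groups with a cyclic Sylow `p`-subgroup in which every `p'`-subgroup is abelian: the simple case does not
occur.
-/

set_option autoImplicit false
set_option linter.style.haveILetI false

open scoped Pointwise commutatorElement

namespace CfsgLib.SchurExt.CyclicAbelian

open Cfsg Subgroup
open CfsgLib.SchurExt.MixedPrimes

universe u

variable {G : Type u} [Group G] [Finite G]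

/-- What a proper subgroup looks like. -/
def Dich (p : ℕ) (H : Subgroup G) : Prop :=
  (∃ K : Subgroup G, K ≤ H ∧ H ≤ normalizer (K : Set G) ∧ ¬ p ∣ Nat.card K ∧
    ∀ x ∈ H, (orderOf x).Coprime p → x ∈ K) ∨
  (∃ U : Subgroup G, IsPGroup p U ∧ U ≤ H ∧ H ≤ normalizer (U : Set G) ∧ ∀ x ∈ H, Pel p x → x ∈ U)

/-- The simple configuration. -/
structure Hyp (G : Type u) [Group G] (p : ℕ) : Prop where
  hcyc : ∀ P : Sylow p G, IsCyclic P
  hab : ∀ H : Subgroup G, ¬ p ∣ Nat.card H → IsMulCommutative H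
  dich : ∀ H : Subgroup G, H ≠ ⊤ → Dich p H
  simple : ∀ M : Subgroup G, M.Normal → M = ⊥ ∨ M = ⊤
  hpG : p ∣ Nat.card G
  hy : ∀ P : Sylow p G, ∃ y ∈ normalizer (P : Set G), (orderOf y).Coprime p ∧ ∃ u ∈ P, y * u ≠ u * y

omit [Finite G] in
theorem pel_coprime_eq_one {p : ℕ} {x : G} (hx : Pel p x) (hc : (orderOf x).Coprime p) : x = 1 := by
  obtain ⟨k, hk⟩ := hx
  exact orderOf_eq_one_iff.1 (Nat.eq_one_of_dvd_coprimes (hc.pow_right k) dvd_rfl (orderOf_dvd_of_pow_eq_one hk))

theorem coprime_of_mem {p : ℕ} [hp : Fact p.Prime] {K : Subgroup G} (hK : ¬ p ∣ Nat.card K) {x : G} (hx : x ∈ K) :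
    (orderOf x).Coprime p := by
  rw [Nat.coprime_comm, hp.out.coprime_iff_not_dvd]
  exact fun hd => hK (hd.trans ((Subgroup.orderOf_mk x hx) ▸ orderOf_dvd_natCard _))

/-- Every element is recovered from a `p`-part and a part of order prime to `p`. -/
theorem exists_parts {p : ℕ} [hp : Fact p.Prime] (n : G) :
    ∃ a c : ℕ, a.Coprime c ∧ Pel p (n ^ a) ∧ (orderOf (n ^ c)).Coprime p := by
  obtain ⟨j, m, hm, hn⟩ := Nat.exists_eq_pow_mul_and_not_dvd (orderOf_pos n).ne' p hp.out.ne_one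
  refine ⟨m, p ^ j, ((hp.out.coprime_iff_not_dvd.2 hm).pow_left j).symm, ⟨j, ?_⟩, ?_⟩
  · rw [← pow_mul, mul_comm, ← hn, pow_orderOf_eq_one]
  · rw [Nat.coprime_comm, hp.out.coprime_iff_not_dvd]
    intro hd
    have h1 : (n ^ p ^ j) ^ m = 1 := by rw [← pow_mul, ← hn, pow_orderOf_eq_one]
    exact hm (hd.trans (orderOf_dvd_of_pow_eq_one h1))

omit [Finite G] in
theorem commute_of_sylow {p : ℕ} {P : Sylow p G} (h : IsCyclic P) {x y : G} (hx : x ∈ P) (hy : y ∈ P) :
    x * y = y * x := by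
  haveI := h
  letI := IsCyclic.commGroup (α := P)
  exact congrArg Subtype.val (mul_comm (⟨x, hx⟩ : P) ⟨y, hy⟩)

omit [Finite G] in
theorem centralizer_le_normalizer_zpowers (x : G) :
    centralizer ({x} : Set G) ≤ normalizer ((zpowers x : Subgroup G) : Set G) := by
  rw [← Subgroup.centralizer_closure, ← zpowers_eq_closure]
  exact centralizer_le_normalizer _

/-- In a finite cyclic group a subgroup is determined by its order. -/
theorem eq_of_card_eq {T : Type u} [Group T] [Finite T] [IsCyclic T] {A B : Subgroup T}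
    (h : Nat.card A = Nat.card B) : A = B := by
  classical
  haveI : Fintype T := Fintype.ofFinite T
  have key : ∀ C : Subgroup T, Nat.card C = Nat.card A →
      (C : Set T) = ↑(Finset.univ.filter fun x : T => x ^ Nat.card A = 1) := by
    intro C hC
    refine Set.eq_of_subset_of_ncard_le (fun x hx => ?_) ?_ (Set.toFinite _)
    · simp only [Finset.coe_filter, Finset.mem_univ, true_and, Set.mem_setOf_eq]
      rw [← hC]
      exact congrArg Subtype.val (pow_card_eq_one' (x := (⟨x, hx⟩ : C)))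
    · rw [Set.ncard_coe_finset, ← Nat.card_coe_set_eq]
      exact (IsCyclic.card_pow_eq_one_le Nat.card_pos).trans hC.ge
  exact SetLike.coe_injective ((key A rfl).trans (key B h.symm).symm)

/-- A coprime automorphism of a cyclic `p`-group fixing a nontrivial element is trivial. -/
theorem fix_all_of_cyclic {p : ℕ} [hp : Fact p.Prime] {P : Sylow p G} (hPc : IsCyclic P) {a : G} (ha : a ∈ normalizer (P : Set G)) (hac : (orderOf a).Coprime p)
    {u : G} (hu : u ∈ P) (hu1 : u ≠ 1) (hau : a * u = u * a) : ∀ v ∈ P, a * v = v * a := by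
  intro v hv
  by_contra hne
  have hmem : ∀ w ∈ P, a * w * a⁻¹ * w⁻¹ ∈ P := fun w hw =>
    (P : Subgroup G).mul_mem ((mem_normalizer_iff.1 ha w).1 hw) ((P : Subgroup G).inv_mem hw)
  let f : P →* P := MonoidHom.mk' (fun w => ⟨a * w * a⁻¹ * (w : G)⁻¹, hmem _ w.2⟩) fun w z => Subtype.ext (by
    show a * (w * z : G) * a⁻¹ * (w * z : G)⁻¹ = a * w * a⁻¹ * (w : G)⁻¹ * (a * z * a⁻¹ * (z : G)⁻¹)
    calc a * (w * z : G) * a⁻¹ * (w * z : G)⁻¹
        = a * w * a⁻¹ * ((a * z * a⁻¹ * (z : G)⁻¹) * (w : G)⁻¹) := by group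
      _ = _ := by rw [commute_of_sylow hPc (hmem _ z.2) (inv_mem w.2)]; group)
  haveI := hPc
  have hker : f.ker ≠ ⊥ := fun e => hu1 (by
    have h1 : (⟨u, hu⟩ : P) ∈ f.ker := Subtype.ext (show a * u * a⁻¹ * u⁻¹ = 1 by
      rw [hau, mul_inv_cancel_right, mul_inv_cancel])
    rw [e, mem_bot] at h1
    exact congrArg Subtype.val h1)
  have hran : f.range ≠ ⊥ := fun e => hne (by
    have h1 : f ⟨v, hv⟩ ∈ f.range := ⟨_, rfl⟩
    rw [e, mem_bot] at h1
    have h2 : a * v * a⁻¹ * v⁻¹ = 1 := congrArg Subtype.val h1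
    exact mul_inv_eq_iff_eq_mul.1 (mul_inv_eq_one.1 h2))
  have hdis : f.range ⊓ f.ker = ⊥ := by
    rw [Subgroup.eq_bot_iff_forall]
    rintro - ⟨⟨w, rfl⟩, hw⟩
    have hv0 : a * (f w : G) * a⁻¹ * (f w : G)⁻¹ = 1 := congrArg Subtype.val hw
    set d : G := (f w : G) with hd
    have hd' : Commute a d := mul_inv_eq_iff_eq_mul.1 (mul_inv_eq_one.1 hv0)
    have hkey : ∀ k : ℕ, a ^ k * (w : G) * (a ^ k)⁻¹ = d ^ k * w := by
      intro k
      induction k with
      | zero => simp
      | succ k ih =>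
        calc a ^ (k + 1) * (w : G) * (a ^ (k + 1))⁻¹ = a * (a ^ k * w * (a ^ k)⁻¹) * a⁻¹ := by
              rw [pow_succ']; group
          _ = a * d ^ k * a⁻¹ * (a * w * a⁻¹) := by rw [ih]; group
          _ = d ^ k * (a * w * a⁻¹) := by rw [(hd'.pow_right k).eq, mul_inv_cancel_right]
          _ = d ^ k * (d * w) := by
              congr 1
              show a * (w : G) * a⁻¹ = (a * w * a⁻¹ * (w : G)⁻¹) * w
              rw [inv_mul_cancel_right]
          _ = d ^ (k + 1) * w := by rw [pow_succ, mul_assoc]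
    have h1 := hkey (orderOf a)
    rw [pow_orderOf_eq_one, one_mul, inv_one, mul_one] at h1
    have h2 : d ^ orderOf a = 1 := right_eq_mul.1 h1
    refine Subtype.ext (pel_coprime_eq_one (p := p) (pel_of_mem P.isPGroup' (f w).2) ?_)
    exact hac.coprime_dvd_left (orderOf_dvd_of_pow_eq_one h2)
  have key : ∀ S : Subgroup P, S ≠ ⊥ → ∃ T : Subgroup P, T ≤ S ∧ Nat.card T = p := by
    intro S hS
    obtain ⟨k, hk⟩ := IsPGroup.iff_card.1 (P.isPGroup'.to_subgroup S)
    have hk0 : k ≠ 0 := fun e => hS (Subgroup.card_eq_one.1 (by rw [hk, e, pow_zero]))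
    obtain ⟨⟨z, hz⟩, hzo⟩ := exists_prime_orderOf_dvd_card' p (hk ▸ dvd_pow_self p hk0)
    rw [Subgroup.orderOf_mk] at hzo
    exact ⟨zpowers z, zpowers_le.2 hz, by rw [Nat.card_zpowers, hzo]⟩
  obtain ⟨T₁, hT₁, hc₁⟩ := key _ hran
  obtain ⟨T₂, hT₂, hc₂⟩ := key _ hker
  obtain rfl := eq_of_card_eq (hc₁.trans hc₂.symm)
  have hb : T₁ = ⊥ := le_bot_iff.1 (hdis ▸ le_inf hT₁ hT₂)
  rw [hb, Subgroup.card_bot] at hc₁
  exact hp.out.ne_one hc₁.symm

namespace Hyp

variable {p : ℕ} [hp : Fact p.Prime] (h : Hyp G p)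
include h

theorem comm (P : Sylow p G) {x y : G} (hx : x ∈ P) (hy : y ∈ P) : x * y = y * x :=
  commute_of_sylow (h.hcyc P) hx hy

theorem hab' (P : Sylow p G) : IsMulCommutative P :=
  ⟨⟨fun x y => Subtype.ext (h.comm P x.2 y.2)⟩⟩

theorem comm' {H : Subgroup G} (hH : ¬ p ∣ Nat.card H) {x y : G} (hx : x ∈ H) (hy : y ∈ H) :
    x * y = y * x :=
  congrArg Subtype.val ((h.hab H hH).is_comm.comm (⟨x, hx⟩ : H) ⟨y, hy⟩)

theorem pel_mem (P : Sylow p G) {x : G} (hx : Pel p x) (hn : x ∈ normalizer (P : Set G)) : x ∈ P :=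
  ((IsPGroup.inf_normalizer_sylow hx.isPGroup P).le ⟨mem_zpowers x, hn⟩).2

theorem top_not_pgroup {H : Subgroup G} (hH : IsPGroup p H) : H ≠ ⊤ := by
  rintro rfl
  obtain ⟨P⟩ := (inferInstance : Nonempty (Sylow p G))
  have hP : (P : Subgroup G) = ⊤ := (P.3 hH le_top).symm
  obtain ⟨y, -, -, u, hu, hne⟩ := h.hy P
  exact hne (h.comm P (show y ∈ (P : Subgroup G) from hP ▸ mem_top y) hu)

theorem normalizer_ne_top {U : Subgroup G} (hne : U ≠ ⊥) (hU : U ≠ ⊤) : normalizer (U : Set G) ≠ ⊤ := by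
  intro e
  rcases h.simple U (normalizer_eq_top_iff.1 e) with e' | e'
  exacts [hne e', hU e']

theorem psylow_ne_bot (P : Sylow p G) : (P : Subgroup G) ≠ ⊥ := P.ne_bot_of_dvd_card h.hpG

theorem centralizer_ne_top {x : G} (hx : x ≠ 1) : centralizer ({x} : Set G) ≠ ⊤ := by
  intro e
  obtain ⟨P⟩ := (inferInstance : Nonempty (Sylow p G))
  obtain ⟨y, -, -, u, -, hne⟩ := h.hy P
  have hc : ∀ g : G, g * x = x * g := fun g => mem_centralizer_singleton_iff.1 (e ▸ mem_top g)
  have hn : (center G).Normal := inferInstance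
  rcases h.simple _ hn with e' | e'
  · exact hx (mem_bot.1 (e' ▸ Subgroup.mem_center_iff.2 hc))
  · exact hne ((Subgroup.mem_center_iff.1 (e' ▸ mem_top y : y ∈ center G) u).symm)

theorem fix_all (P : Sylow p G) {a : G} (ha : a ∈ normalizer (P : Set G)) (hac : (orderOf a).Coprime p)
    {u : G} (hu : u ∈ P) (hu1 : u ≠ 1) (hau : a * u = u * a) : ∀ v ∈ P, a * v = v * a :=
  fix_all_of_cyclic (h.hcyc P) ha hac hu hu1 hau

theorem normalizer_le_zpowers (P : Sylow p G) {x : G} (hx : x ∈ P) :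
    normalizer (P : Set G) ≤ normalizer ((zpowers x : Subgroup G) : Set G) := by
  intro n hn
  haveI := h.hcyc P
  have key : ∀ k : G, k ∈ normalizer (P : Set G) → ∀ y ∈ zpowers x, k * y * k⁻¹ ∈ zpowers x := by
    intro k hk y hy
    have hmap : (zpowers x).map (MulAut.conj k).toMonoidHom = zpowers x := by
      have h1 : zpowers x ≤ (P : Subgroup G) := zpowers_le.2 hx
      have h2 : (zpowers x).map (MulAut.conj k).toMonoidHom ≤ (P : Subgroup G) := by
        rintro - ⟨y, hy, rfl⟩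
        exact (mem_normalizer_iff.1 hk y).1 (h1 hy)
      have hc : Nat.card ((zpowers x).map (MulAut.conj k).toMonoidHom) = Nat.card (zpowers x) :=
        Subgroup.card_map_of_injective (MulAut.conj k).injective
      have h3 : ((zpowers x).map (MulAut.conj k).toMonoidHom).subgroupOf P = (zpowers x).subgroupOf P :=
        eq_of_card_eq (by
          rw [Nat.card_congr (subgroupOfEquivOfLe h2).toEquiv, Nat.card_congr (subgroupOfEquivOfLe h1).toEquiv, hc])
      rw [Subgroup.subgroupOf_inj, inf_eq_left.2 h2, inf_eq_left.2 h1] at h3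
      exact h3
    rw [← hmap]
    exact ⟨y, hy, rfl⟩
  rw [mem_normalizer_iff]
  refine fun y => ⟨key n hn y, fun hy => ?_⟩
  have := key n⁻¹ (inv_mem hn) _ hy
  rwa [show n⁻¹ * (n * y * n⁻¹) * n⁻¹⁻¹ = y by group] at this

/-- The normalizer of a nontrivial subgroup of `P` normalises `P`. -/
theorem normalizer_zpowers (P : Sylow p G) {x : G} (hx : x ∈ P) (hx1 : x ≠ 1) :
    normalizer ((zpowers x : Subgroup G) : Set G) ≤ normalizer (P : Set G) := by
  have hxp : IsPGroup p (zpowers x) := (pel_of_mem P.isPGroup' hx).isPGroup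
  set M := normalizer ((zpowers x : Subgroup G) : Set G) with hM
  have hMt : M ≠ ⊤ := h.normalizer_ne_top (fun e => hx1 (zpowers_eq_bot.1 e)) (h.top_not_pgroup hxp)
  have hPM : (P : Subgroup G) ≤ M := le_normalizer.trans (h.normalizer_le_zpowers P hx)
  obtain ⟨y, hy, hyc, u, hu, hne⟩ := h.hy P
  rcases h.dich M hMt with ⟨K, hKM, hMK, hpK, hall⟩ | ⟨U, hU, -, hMU, hall⟩
  · exfalso
    have hyM : y ∈ M := h.normalizer_le_zpowers P hx hy
    have hyK : y ∈ K := hall y hyM hyc
    have h1 : y * x * y⁻¹ * x⁻¹ ∈ K := by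
      rw [show y * x * y⁻¹ * x⁻¹ = y * (x * y⁻¹ * x⁻¹) by group]
      exact K.mul_mem hyK ((mem_normalizer_iff.1 (hMK (hPM hx)) _).1 (K.inv_mem hyK))
    have h2 : y * x * y⁻¹ * x⁻¹ ∈ P :=
      (P : Subgroup G).mul_mem ((mem_normalizer_iff.1 hy x).1 hx) (inv_mem hx)
    have h3 : y * x * y⁻¹ * x⁻¹ = 1 :=
      pel_coprime_eq_one (pel_of_mem P.isPGroup' h2) (coprime_of_mem hpK h1)
    exact hne (h.fix_all P hy hyc hx hx1 (mul_inv_eq_iff_eq_mul.1 (mul_inv_eq_one.1 h3)) u hu)
  · have hUP : U = (P : Subgroup G) := P.3 hU fun z hz => hall z (hPM hz) (pel_of_mem P.isPGroup' hz)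
    intro m hm
    show m ∈ normalizer ((P : Subgroup G) : Set G)
    rw [← hUP]
    exact hMU hm

theorem centralizes (P : Sylow p G) {x : G} (hx : x ∈ P) (hx1 : x ≠ 1) {g : G} (hg : g * x = x * g) :
    g ∈ normalizer (P : Set G) ∧ ∀ v ∈ P, g * v = v * g := by
  have hgN : g ∈ normalizer (P : Set G) :=
    h.normalizer_zpowers P hx hx1 (centralizer_le_normalizer_zpowers x (mem_centralizer_singleton_iff.2 hg))
  refine ⟨hgN, fun v hv => ?_⟩
  obtain ⟨a, c, hac, hpa, hcc⟩ := exists_parts (p := p) g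
  have hmem : g ∈ centralizer ({v} : Set G) := mem_of_two_pows hac
    (mem_centralizer_singleton_iff.2 (h.comm P (h.pel_mem P hpa (pow_mem hgN _)) hv))
    (mem_centralizer_singleton_iff.2
      (h.fix_all P (pow_mem hgN _) hcc hx hx1 ((Commute.pow_left hg c).eq) v hv))
  exact mem_centralizer_singleton_iff.1 hmem

theorem sylow_eq {P P' : Sylow p G} {x : G} (hx : x ∈ P) (hx' : x ∈ P') (hx1 : x ≠ 1) : P' = P := by
  have hle : (P' : Subgroup G) ≤ (P : Subgroup G) := fun v hv =>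
    h.pel_mem P (pel_of_mem P'.isPGroup' hv) (h.centralizes P hx hx1 (h.comm P' hv hx')).1
  exact Sylow.ext (P'.3 P.isPGroup' hle).symm

/-- Elements of order prime to `p` centralising `P` have small centralizers. -/
theorem centralizer_le (P : Sylow p G) {d : G} (hdc : (orderOf d).Coprime p) (hd1 : d ≠ 1)
    (hdP : ∀ v ∈ P, d * v = v * d) {g : G} (hg : g * d = d * g) : g ∈ normalizer (P : Set G) := by
  set H := centralizer ({d} : Set G) with hH
  have hPH : (P : Subgroup G) ≤ H := fun v hv => mem_centralizer_singleton_iff.2 (hdP v hv).symm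
  rcases h.dich H (h.centralizer_ne_top hd1) with ⟨K, hKH, hHK, hpK, hall⟩ | ⟨U, hU, -, hHU, hall⟩
  · exfalso
    obtain ⟨y, hy, hyc, u, hu, hne⟩ := h.hy P
    obtain ⟨A, hAN, hAc, hsplit⟩ := CfsgLib.Transfer.exists_complement_in_normalizer P
    have hpA : ¬ p ∣ Nat.card A := fun hd =>
      hp.out.ne_one (Nat.eq_one_of_dvd_coprimes hAc hd (P.dvd_card_of_dvd_card h.hpG))
    have hdN : d ∈ normalizer (P : Set G) := centralizer_le_normalizer _
      (mem_centralizer_iff.2 fun v hv => (hdP v hv).symm)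
    obtain ⟨x₁, hx₁, a₁, ha₁, hy'⟩ := hsplit y hy
    obtain ⟨x₂, hx₂, a₂, ha₂, hd'⟩ := hsplit d hdN
    have haa : a₁ * a₂ * a₁⁻¹ = a₂ := by rw [h.comm' hpA ha₁ ha₂, mul_inv_cancel_right]
    have hx₂' : a₁ * x₂ * a₁⁻¹ ∈ P := (mem_normalizer_iff.1 (hAN ha₁) x₂).1 hx₂
    have ha₂' : a₂ = x₂⁻¹ * d := by rw [← hd', inv_mul_cancel_left]
    set w := a₁ * x₂ * a₁⁻¹ * x₂⁻¹ with hw
    have hwP : w ∈ P := (P : Subgroup G).mul_mem hx₂' (inv_mem hx₂)
    have e1 : y * d * y⁻¹ = w * d := by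
      calc y * d * y⁻¹ = x₁ * ((a₁ * x₂ * a₁⁻¹) * (a₁ * a₂ * a₁⁻¹)) * x₁⁻¹ := by rw [← hy', ← hd']; group
        _ = x₁ * (w * d) * x₁⁻¹ := by rw [haa, ha₂', hw]; group
        _ = x₁ * w * (d * x₁⁻¹) := by group
        _ = x₁ * w * (x₁⁻¹ * d) := by rw [hdP _ (inv_mem hx₁)]
        _ = w * d := by rw [h.comm P hx₁ hwP]; group
    have hwd : Commute w d := (hdP w hwP).symm
    have hw1 : w = 1 := by
      have h1 : (w * d) ^ orderOf d = 1 := by
        rw [← e1, conj_pow, pow_orderOf_eq_one, mul_one, mul_inv_cancel]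
      rw [hwd.mul_pow, pow_orderOf_eq_one, mul_one] at h1
      exact pel_coprime_eq_one (pel_of_mem P.isPGroup' hwP)
        (hdc.coprime_dvd_left (orderOf_dvd_of_pow_eq_one h1))
    rw [hw1, one_mul] at e1
    have hyH : y ∈ H := mem_centralizer_singleton_iff.2 (mul_inv_eq_iff_eq_mul.1 e1)
    have hyK : y ∈ K := hall y hyH hyc
    have h1 : y * u * y⁻¹ * u⁻¹ ∈ K := by
      rw [show y * u * y⁻¹ * u⁻¹ = y * (u * y⁻¹ * u⁻¹) by group]
      exact K.mul_mem hyK ((mem_normalizer_iff.1 (hHK (hPH hu)) _).1 (K.inv_mem hyK))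
    have h2 : y * u * y⁻¹ * u⁻¹ ∈ P :=
      (P : Subgroup G).mul_mem ((mem_normalizer_iff.1 hy u).1 hu) (inv_mem hu)
    have h3 : y * u * y⁻¹ * u⁻¹ = 1 :=
      pel_coprime_eq_one (pel_of_mem P.isPGroup' h2) (coprime_of_mem hpK h1)
    exact hne (mul_inv_eq_iff_eq_mul.1 (mul_inv_eq_one.1 h3))
  · have hUP : U = (P : Subgroup G) := P.3 hU fun z hz => hall z (hPH hz) (pel_of_mem P.isPGroup' hz)
    show g ∈ normalizer ((P : Subgroup G) : Set G)
    rw [← hUP]
    exact hHU (mem_centralizer_singleton_iff.2 hg)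

theorem sylow_not_dvd {r : ℕ} [hr : Fact r.Prime] (hrp : r ≠ p) (R : Sylow r G) : ¬ p ∣ Nat.card R := by
  intro hd
  obtain ⟨i, hi⟩ := IsPGroup.iff_card.1 R.isPGroup'
  rw [hi] at hd
  exact hrp ((Nat.prime_dvd_prime_iff_eq hp.out hr.out).1 (hp.out.dvd_of_dvd_pow hd)).symm

/-- Some `p`-element acts on each other Sylow subgroup. -/
theorem exists_acting {r : ℕ} [hr : Fact r.Prime] (hrp : r ≠ p) (hrG : r ∣ Nat.card G) (R : Sylow r G) :
    ∃ z ∈ normalizer (R : Set G), Pel p z ∧ ∃ a ∈ R, z * a ≠ a * z := by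
  by_contra hno
  push Not at hno
  have hle : normalizer (R : Set G) ≤ centralizer (R : Set G) := by
    intro n hn
    rw [mem_centralizer_iff]
    intro a ha
    obtain ⟨i, c, hic, hpi, hcc⟩ := exists_parts (p := p) n
    have h1 : n ^ i * a = a * n ^ i := hno _ (pow_mem hn _) hpi a ha
    have h2 : n ^ c * a = a * n ^ c := by
      set S := zpowers (n ^ c) ⊔ (R : Subgroup G) with hS
      have hpS : ¬ p ∣ Nat.card S := by
        intro hd
        have h1 := hd.trans (Dvd.intro _ (CfsgLib.NormalPComplement.card_sup_mul_card_inf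
          (A := zpowers (n ^ c)) (B := (R : Subgroup G)) (zpowers_le.2 (pow_mem hn _))))
        rcases (Nat.Prime.dvd_mul hp.out).1 h1 with h' | h'
        · rw [Nat.card_zpowers] at h'
          exact hp.out.ne_one (Nat.eq_one_of_dvd_coprimes hcc h' dvd_rfl)
        · exact h.sylow_not_dvd hrp R h'
      exact h.comm' hpS (mem_sup_left (mem_zpowers _)) (mem_sup_right ha)
    exact (mem_centralizer_singleton_iff.1 (mem_of_two_pows hic (mem_centralizer_singleton_iff.2 h1)
      (mem_centralizer_singleton_iff.2 h2))).symm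
  obtain ⟨S, N, hN, hc⟩ := CfsgLib.Transfer.hasNormalPComplement_of_le_centralizer R hle
  have hcard : Nat.card N * Nat.card (S : Subgroup G) = Nat.card G := hc.card_mul
  rcases h.simple N hN with e | e
  · rw [e, Subgroup.card_bot, one_mul] at hcard
    have h1 := h.hpG
    rw [← hcard] at h1
    exact h.sylow_not_dvd hrp S h1
  · rw [e, Subgroup.card_top] at hcard
    refine S.ne_bot_of_dvd_card hrG (Subgroup.card_eq_one.1 ?_)
    exact Nat.eq_of_mul_eq_mul_left Nat.card_pos (hcard.trans (mul_one _).symm)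

theorem two_ne : p ≠ 2 := by
  obtain ⟨P⟩ := (inferInstance : Nonempty (Sylow p G))
  obtain ⟨y, hy, hyc, u, hu, hne⟩ := h.hy P
  rintro rfl
  obtain ⟨i, hi⟩ := IsPGroup.iff_card.1 P.isPGroup'
  have hi0 : i ≠ 0 := fun e => h.psylow_ne_bot P (Subgroup.card_eq_one.1 (by rw [hi, e, pow_zero]))
  obtain ⟨⟨x, hx⟩, hxo⟩ := exists_prime_orderOf_dvd_card' 2 (hi ▸ dvd_pow_self 2 hi0)
  rw [Subgroup.orderOf_mk] at hxo
  have hx1 : x ≠ 1 := fun e => by rw [e, orderOf_one] at hxo; omega
  have hmem : y * x * y⁻¹ ∈ zpowers x :=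
    (mem_normalizer_iff.1 (h.normalizer_le_zpowers P hx hy) x).1 (mem_zpowers x)
  obtain ⟨k, hk⟩ := hmem
  have hx2 : x ^ (2 : ℤ) = 1 := by
    rw [show (2 : ℤ) = ((2 : ℕ) : ℤ) from rfl, zpow_natCast, ← hxo, pow_orderOf_eq_one]
  have hx' : y * x * y⁻¹ = x := by
    have hk' : x ^ k = y * x * y⁻¹ := hk
    rcases Int.even_or_odd k with ⟨m, rfl⟩ | ⟨m, rfl⟩
    · exfalso
      rw [← two_mul, zpow_mul, hx2, one_zpow] at hk'
      exact hx1 (conj_eq_one_iff.1 hk'.symm)
    · rw [zpow_add, zpow_mul, hx2, one_zpow, one_mul, zpow_one] at hk'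
      exact hk'.symm
  exact hne (h.fix_all P hy hyc hx hx1 (mul_inv_eq_iff_eq_mul.1 hx') u hu)

theorem comm_of_two {S : Subgroup G} (hS : IsPGroup 2 S) {x y : G} (hx : x ∈ S) (hy : y ∈ S) :
    x * y = y * x := by
  refine h.comm' (H := S) (fun hd => h.two_ne ?_) hx hy
  obtain ⟨i, hi⟩ := IsPGroup.iff_card.1 hS
  rw [hi] at hd
  exact (Nat.prime_dvd_prime_iff_eq hp.out Nat.prime_two).1 (hp.out.dvd_of_dvd_pow hd)

/-- An involution inverts no element of prime order other than `2` and `p`. -/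
theorem not_inverted {x : G} (hx : (orderOf x).Prime) (hxp : orderOf x ≠ p) (hx2 : orderOf x ≠ 2) {z : G}
    (hz : Inv2 z) : z * x * z⁻¹ ≠ x⁻¹ := by
  intro hzx
  set S := zpowers z ⊔ zpowers x with hS
  have hpS : ¬ p ∣ Nat.card S := by
    intro hd
    have h1 := hd.trans (Dvd.intro _ (CfsgLib.NormalPComplement.card_sup_mul_card_inf
      (A := zpowers z) (B := zpowers x) (zpowers_le.2 (mem_normalizer_zpowers (Or.inl hzx) hz.1))))
    rw [Nat.card_zpowers, Nat.card_zpowers, hz.orderOf_eq] at h1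
    rcases (Nat.Prime.dvd_mul hp.out).1 h1 with h' | h'
    · exact h.two_ne ((Nat.prime_dvd_prime_iff_eq hp.out Nat.prime_two).1 h')
    · exact hxp ((Nat.prime_dvd_prime_iff_eq hp.out hx).1 h').symm
  have hc : z * x = x * z := h.comm' hpS (mem_sup_left (mem_zpowers z)) (mem_sup_right (mem_zpowers x))
  rw [hc, mul_inv_cancel_right] at hzx
  refine hx2 (orderOf_eq_prime (by rw [sq]; exact eq_inv_iff_mul_eq_one.1 hzx) fun e => ?_)
  rw [e, orderOf_one] at hx
  exact Nat.not_prime_one hx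

/-- Case: some element of order prime to `p` centralises a Sylow `p`-subgroup. -/
theorem false_of_centralized (P : Sylow p G) {d : G} (hdc : (orderOf d).Coprime p) (hd1 : d ≠ 1)
    (hdP : ∀ v ∈ P, d * v = v * d) : False := by
  classical
  -- every prime of such an element gives `p = 3` and the prime `2`
  have main : ∀ (r : ℕ) [Fact r.Prime] (a₀ : G), orderOf a₀ = r → (∀ v ∈ P, a₀ * v = v * a₀) → r ≠ p →
      r = 2 ∧ p = 3 ∧ ∃ R : Sylow r G, Nat.card R = 4 ∧ (∀ a ∈ R, a * a = 1) ∧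
        ∃ z ∈ normalizer (R : Set G), Pel p z ∧ ∃ a ∈ R, z * a ≠ a * z := by
    intro r hr a₀ ha₀o ha₀P hrp
    have hcop : ∀ a : G, (∃ i, a ^ r ^ i = 1) → (orderOf a).Coprime p := by
      rintro a ⟨i, hi⟩
      exact ((Nat.coprime_primes hr.out hp.out).2 hrp).pow_left i |>.coprime_dvd_left
        (orderOf_dvd_of_pow_eq_one hi)
    have ha₀1 : a₀ ≠ 1 := fun e => hr.out.ne_one (by rw [← ha₀o, e, orderOf_one])
    obtain ⟨R, hR⟩ := (IsPGroup.of_card (n := 1)
      (by rw [Nat.card_zpowers, ha₀o, pow_one]) : IsPGroup r (zpowers a₀)).exists_le_sylow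
    have ha₀R : a₀ ∈ R := hR (mem_zpowers _)
    have hRcomm : ∀ a ∈ R, ∀ b ∈ R, a * b = b * a := fun a ha b hb => h.comm' (h.sylow_not_dvd hrp R) ha hb
    have hRel : ∀ a ∈ R, (orderOf a).Coprime p := fun a ha => coprime_of_mem (h.sylow_not_dvd hrp R) ha
    have hRN : (R : Subgroup G) ≤ normalizer (P : Set G) := fun a ha =>
      h.centralizer_le P (hcop a₀ ⟨1, by rw [pow_one, ← ha₀o, pow_orderOf_eq_one]⟩) ha₀1 ha₀P
        (hRcomm a ha a₀ ha₀R)
    have hrG : r ∣ Nat.card G := ha₀o ▸ orderOf_dvd_natCard a₀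
    obtain ⟨z, hzN, hzp, a₁, ha₁, hza₁⟩ := h.exists_acting hrp hrG R
    -- the part centralising `P` meets none of its translates
    have hmove : ∀ w ∈ normalizer (R : Set G), Pel p w → ∀ a ∈ R, a ≠ 1 → (∀ v ∈ P, a * v = v * a) →
        (∀ v ∈ P, w * a * w⁻¹ * v = v * (w * a * w⁻¹)) → ∀ b ∈ R, w * b = b * w := by
      intro w hwR hwp a ha ha1 haP hwaP
      set b := w * a * w⁻¹ with hb
      have hbR : b ∈ R := (mem_normalizer_iff.1 hwR a).1 ha
      have hb1 : b ≠ 1 := fun e => ha1 (conj_eq_one_iff.1 e)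
      obtain ⟨u, hu, hu1⟩ := (Subgroup.bot_or_exists_ne_one _).resolve_left (h.psylow_ne_bot P)
      have hwP : w ∈ P := by
        have hu' : w * u * w⁻¹ ∈ normalizer (P : Set G) := h.centralizer_le P (hRel b hbR) hb1 hwaP (by
          calc w * u * w⁻¹ * b = w * (u * a) * w⁻¹ := by rw [hb]; group
            _ = w * (a * u) * w⁻¹ := by rw [haP u hu]
            _ = b * (w * u * w⁻¹) := by rw [hb]; group)
        have hmem : w * u * w⁻¹ ∈ P := h.pel_mem P ((pel_of_mem P.isPGroup' hu).conj w) hu'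
        have hxm : u ∈ ((w⁻¹ • P : Sylow p G) : Subgroup G) := by
          rw [Sylow.coe_subgroup_smul]
          refine ⟨w * u * w⁻¹, hmem, ?_⟩
          show w⁻¹ * (w * u * w⁻¹) * w⁻¹⁻¹ = u
          group
        exact h.pel_mem P hwp ((inv_mem_iff).1 (Sylow.smul_eq_iff_mem_normalizer.1 (h.sylow_eq hu hxm hu1)))
      intro c hc
      have h1 : w * c * w⁻¹ * c⁻¹ ∈ P := by
        rw [show w * c * w⁻¹ * c⁻¹ = w * (c * w⁻¹ * c⁻¹) by group]
        exact (P : Subgroup G).mul_mem hwP ((mem_normalizer_iff.1 (hRN hc) _).1 (inv_mem hwP))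
      have h2 : w * c * w⁻¹ * c⁻¹ ∈ R :=
        (R : Subgroup G).mul_mem ((mem_normalizer_iff.1 hwR c).1 hc) (inv_mem hc)
      exact mul_inv_eq_iff_eq_mul.1
        (mul_inv_eq_one.1 (pel_coprime_eq_one (pel_of_mem P.isPGroup' h1) (hRel _ h2)))
    -- powers of `z`
    have hzpow : ∀ m : ℕ, ¬ p ∣ m → ¬ ∀ b ∈ R, z ^ m * b = b * z ^ m := by
      intro m hm hall
      obtain ⟨k, hk⟩ := hzp
      refine hza₁ (mem_centralizer_singleton_iff.1 (mem_of_two_pows (S := centralizer ({a₁} : Set G))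
        (Nat.Coprime.pow_right k ((hp.out.coprime_iff_not_dvd.2 hm).symm))
        (mem_centralizer_singleton_iff.2 (hall a₁ ha₁)) (hk ▸ one_mem _)))
    -- action on the subgroup of order `p` of `P`
    obtain ⟨i, hi⟩ := IsPGroup.iff_card.1 P.isPGroup'
    have hi0 : i ≠ 0 := fun e => h.psylow_ne_bot P (Subgroup.card_eq_one.1 (by rw [hi, e, pow_zero]))
    obtain ⟨⟨x, hx⟩, hxo⟩ := exists_prime_orderOf_dvd_card' p (hi ▸ dvd_pow_self p hi0)
    rw [Subgroup.orderOf_mk] at hxo
    have hx1 : x ≠ 1 := fun e => hp.out.ne_one (by rw [← hxo, e, orderOf_one])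
    set X := zpowers x with hX
    haveI : IsCyclic X := Subgroup.isCyclic_zpowers x
    have hRX : (R : Subgroup G) ≤ normalizer (X : Set G) := hRN.trans (h.normalizer_le_zpowers P hx)
    let ψ : (R : Subgroup G) →* MulAut X :=
      (X.normalizerMonoidHom).comp (Subgroup.inclusion hRX)
    have hψ : ∀ a : (R : Subgroup G), ψ a = 1 ↔ ∀ v ∈ P, (a : G) * v = v * a := by
      intro a
      refine ⟨fun e => ?_, fun e => ?_⟩
      · have h1 : (a : G) * x * (a : G)⁻¹ = x := by
          have h2 := congrArg Subtype.val (DFunLike.congr_fun e (⟨x, mem_zpowers x⟩ : X))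
          exact h2
        exact (h.centralizes P hx hx1 (mul_inv_eq_iff_eq_mul.1 h1)).2
      · refine MulEquiv.ext fun v => Subtype.ext ?_
        show (a : G) * v * (a : G)⁻¹ = v
        rw [e _ (zpowers_le.2 hx v.2), mul_inv_cancel_right]
    haveI : IsCyclic (MulAut X) := by
      have e := IsCyclic.mulAutMulEquiv X
      have hXp : Nat.card X = p := by rw [Nat.card_zpowers, hxo]
      haveI : IsCyclic (ZMod (Nat.card X))ˣ := by rw [hXp]; infer_instance
      exact e.symm.isCyclic.1 inferInstance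
    have hautcard : Nat.card (MulAut X) = p - 1 := by
      rw [IsCyclic.card_mulAut, Nat.card_zpowers, hxo, Nat.totient_prime hp.out]
    let zc : (R : Subgroup G) →* (R : Subgroup G) :=
      MonoidHom.mk' (fun a => ⟨z * a * z⁻¹, (mem_normalizer_iff.1 hzN a).1 a.2⟩) fun a b => Subtype.ext (by
        show z * (a * b : G) * z⁻¹ = z * a * z⁻¹ * (z * b * z⁻¹)
        group)
    set D := ψ.ker with hD
    have hDinj : Function.Injective ((ψ.comp zc).comp D.subtype) := by
      rw [injective_iff_map_eq_one]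
      rintro ⟨a, ha⟩ hae
      by_contra ha1
      have h1 := (hψ _).1 hae
      have ha1' : (a : G) ≠ 1 := fun e => ha1 (Subtype.ext (Subtype.ext e))
      exact hzpow 1 hp.out.not_dvd_one fun b hb => by
        rw [pow_one]
        exact hmove z hzN hzp a a.2 ha1' ((hψ a).1 (MonoidHom.mem_ker.1 ha)) h1 b hb
    have ha₀D : (⟨a₀, ha₀R⟩ : (R : Subgroup G)) ∈ D := MonoidHom.mem_ker.2 ((hψ _).2 ha₀P)
    have hrp1 : r ∣ p - 1 := by
      rw [← hautcard, ← ha₀o]
      have h1 : orderOf (((ψ.comp zc).comp D.subtype) ⟨_, ha₀D⟩) = orderOf a₀ := by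
        rw [orderOf_injective _ hDinj, Subgroup.orderOf_mk, Subgroup.orderOf_mk]
      rw [← h1]
      exact orderOf_dvd_natCard _
    -- the elements of order dividing `r`
    letI : CommGroup (R : Subgroup G) :=
      { (inferInstance : Group (R : Subgroup G)) with mul_comm := fun a b => Subtype.ext (hRcomm a a.2 b b.2) }
    set E : Subgroup (R : Subgroup G) := (powMonoidHom r).ker with hE
    have hroots : ∀ {T : Type u} [Group T] [Finite T] (f : T →* MulAut X), (∀ t, f t ^ r = 1) →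
        Nat.card f.range ≤ r := by
      intro T _ _ f hf
      haveI : Fintype (MulAut X) := Fintype.ofFinite _
      have hsub : (f.range : Set (MulAut X)).toFinset ⊆ Finset.univ.filter fun x => x ^ r = 1 := by
        intro x hx
        simp only [Set.mem_toFinset, SetLike.mem_coe] at hx
        obtain ⟨t, rfl⟩ := hx
        simp [hf t]
      rw [← SetLike.coe_sort_coe, Nat.card_eq_card_toFinset]
      exact (Finset.card_le_card hsub).trans (IsCyclic.card_pow_eq_one_le hr.out.pos)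
    set E₀ : Subgroup (R : Subgroup G) := E ⊓ D with hE₀
    have hE0le : Nat.card E₀ ≤ r := by
      have hf : Function.Injective (((ψ.comp zc).comp D.subtype).comp (Subgroup.inclusion (inf_le_right : E₀ ≤ D))) :=
        hDinj.comp (Subgroup.inclusion_injective _)
      rw [Nat.card_congr (MonoidHom.ofInjective hf).toEquiv]
      refine hroots _ fun t => ?_
      rw [← map_pow, show t ^ r = 1 from Subtype.ext t.2.1, map_one]
    have hEle : Nat.card E ≤ r * Nat.card E₀ := by
      have h1 := (ψ.comp E.subtype).ker.card_mul_index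
      rw [Subgroup.index_ker] at h1
      rw [← h1, mul_comm r]
      refine Nat.mul_le_mul (le_of_eq ?_) (hroots _ fun t => by
        rw [← map_pow, show t ^ r = 1 from Subtype.ext t.2, map_one])
      refine Nat.card_congr
        { toFun := fun t => ⟨t.1.1, t.1.2, t.2⟩
          invFun := fun t => ⟨⟨t.1, t.2.1⟩, t.2.2⟩
          left_inv := fun t => rfl
          right_inv := fun t => rfl }
    have hE0ge : r ≤ Nat.card E₀ := by
      have hc : Nat.card (zpowers (⟨a₀, ha₀R⟩ : (R : Subgroup G))) = r := by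
        rw [Nat.card_zpowers, Subgroup.orderOf_mk, ha₀o]
      refine hc.symm.le.trans (Subgroup.card_le_of_le (zpowers_le.2 ⟨?_, ha₀D⟩))
      show (⟨a₀, ha₀R⟩ : (R : Subgroup G)) ^ r = 1
      exact Subtype.ext (show a₀ ^ r = 1 from ha₀o ▸ pow_orderOf_eq_one a₀)
    have hcount : p * (r - 1) + 1 ≤ Nat.card E := by
      haveI : Fintype E := Fintype.ofFinite _
      haveI : Fintype E₀ := Fintype.ofFinite _
      have hconj : ∀ (m : ℕ) (a : (R : Subgroup G)), z ^ m * (a : G) * (z ^ m)⁻¹ ∈ R := fun m a =>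
        (mem_normalizer_iff.1 (pow_mem hzN m) a).1 a.2
      let f : Fin p × {a : E₀ // a ≠ 1} → {a : E // a ≠ 1} := fun w =>
        ⟨⟨⟨_, hconj (w.1 : ℕ) w.2.1.1⟩, by
            show (⟨_, hconj (w.1 : ℕ) w.2.1.1⟩ : (R : Subgroup G)) ^ r = 1
            refine Subtype.ext ?_
            rw [SubgroupClass.coe_pow, conj_pow, ← SubgroupClass.coe_pow, show w.2.1.1 ^ r = 1 from w.2.1.2.1]
            simp⟩, fun e => w.2.2 (Subtype.ext (Subtype.ext
              (conj_eq_one_iff.1 (congrArg (fun t : E => ((t : (R : Subgroup G)) : G)) e))))⟩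
      have hf : Function.Injective f := by
        rintro ⟨⟨m, hm⟩, a, ha⟩ ⟨⟨m', hm'⟩, a', ha'⟩ e
        have e' : z ^ m * ((a.1 : G)) * (z ^ m)⁻¹ = z ^ m' * ((a'.1 : G)) * (z ^ m')⁻¹ :=
          congrArg (fun t : {a : E // a ≠ 1} => (((t : E) : (R : Subgroup G)) : G)) e
        have haD : ∀ b : E₀, b ≠ 1 → (∀ v ∈ P, (b.1 : G) * v = v * b.1) ∧ (b.1 : G) ≠ 1 := fun b hb =>
          ⟨(hψ b.1).1 (MonoidHom.mem_ker.1 b.2.2), fun e0 => hb (Subtype.ext (Subtype.ext e0))⟩
        have key : ∀ (m m' : ℕ) (a a' : E₀), m ≤ m' → m' < p → a' ≠ 1 → a ≠ 1 →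
            z ^ m * (a.1 : G) * (z ^ m)⁻¹ = z ^ m' * (a'.1 : G) * (z ^ m')⁻¹ → m = m' ∧ a = a' := by
          intro m m' a a' hle hlt ha' ha e
          obtain ⟨j, rfl⟩ := Nat.exists_eq_add_of_le hle
          have e1 : (a.1 : G) = z ^ j * (a'.1 : G) * (z ^ j)⁻¹ := by
            calc (a.1 : G) = (z ^ m)⁻¹ * (z ^ m * (a.1 : G) * (z ^ m)⁻¹) * z ^ m := by group
              _ = _ := by rw [e, pow_add]; group
          rcases Nat.eq_zero_or_pos j with rfl | hj
          · refine ⟨rfl, Subtype.ext (Subtype.ext ?_)⟩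
            rw [e1, pow_zero, one_mul, inv_one, mul_one]
          · exfalso
            refine hzpow j (fun hd => ?_) fun b hb => hmove (z ^ j) (pow_mem hzN j)
              (pel_of_mem hzp.isPGroup (pow_mem (mem_zpowers z) j)) a'.1 a'.1.2 (haD a' ha').2 (haD a' ha').1
              (by rw [← e1]; exact (haD a ha).1) b hb
            have := Nat.le_of_dvd hj hd
            omega
        rcases le_total m m' with hle | hle
        · obtain ⟨rfl, rfl⟩ := key m m' a a' hle hm' ha' ha e'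
          rfl
        · obtain ⟨rfl, rfl⟩ := key m' m a' a hle hm ha ha' e'.symm
          rfl
      have h1 := Nat.card_le_card_of_injective f hf
      rw [Nat.card_prod, Nat.card_fin] at h1
      have h2 : ∀ (T : Subgroup (R : Subgroup G)), Nat.card {a : T // a ≠ 1} = Nat.card T - 1 := fun T => by
        show Nat.card ↥({(1 : T)}ᶜ : Set T) = _
        rw [Nat.card_coe_set_eq, Set.ncard_compl, Set.ncard_singleton]
      rw [h2, h2] at h1
      have h3 : p * (r - 1) ≤ p * (Nat.card E₀ - 1) := Nat.mul_le_mul_left _ (by omega)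
      have := Nat.card_pos (α := E)
      omega
    have hpr : r = 2 ∧ p = 3 := by
      have h1 : Nat.card E₀ = r := le_antisymm hE0le hE0ge
      rw [h1] at hEle
      have hr2 := hr.out.two_le
      have hp2 := h.two_ne
      have hp3 := hp.out.two_le
      have hrle : r ≤ p - 1 := Nat.le_of_dvd (by omega) hrp1
      have h2 : (r + 1) * (r - 1) ≤ p * (r - 1) := Nat.mul_le_mul_right _ (by omega)
      have h3 : (r + 1) * (r - 1) + 1 = r * r := by
        obtain ⟨k, rfl⟩ : ∃ k, r = k + 1 := ⟨r - 1, by omega⟩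
        simp only [Nat.add_sub_cancel]
        ring
      have h4 : p * (r - 1) ≤ (r + 1) * (r - 1) := by omega
      have h5 : p = r + 1 := by
        have := Nat.le_of_mul_le_mul_right h4 (by omega)
        omega
      rcases hr.out.eq_two_or_odd with e | e
      · exact ⟨e, by omega⟩
      · rcases hp.out.eq_two_or_odd with e' | e' <;> omega
    refine ⟨hpr.1, hpr.2, R, ?_⟩
    obtain ⟨rfl, rfl⟩ := hpr
    have hD2 : Nat.card D ≤ 2 := by
      have h1 := Nat.card_le_card_of_injective _ hDinj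
      rw [hautcard] at h1
      omega
    have hR4 : Nat.card R ≤ 4 := by
      have h1 := ψ.ker.card_mul_index
      rw [Subgroup.index_ker] at h1
      have h2 : Nat.card ψ.range ≤ 2 := (Subgroup.card_le_card_group _).trans (le_of_eq (by rw [hautcard]))
      show Nat.card (R : Subgroup G) ≤ 4
      rw [← h1]
      exact (Nat.mul_le_mul hD2 h2).trans (le_of_eq rfl)
    have hR4' : 4 ≤ Nat.card E := by omega
    have hEtop : E = ⊤ := Subgroup.eq_top_of_le_card _ (hR4.trans hR4')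
    refine ⟨le_antisymm hR4 (hR4'.trans (Subgroup.card_le_card_group E)), fun a ha => ?_,
      z, hzN, hzp, a₁, ha₁, hza₁⟩
    have h1 : (⟨a, ha⟩ : (R : Subgroup G)) ^ 2 = 1 := (hEtop ▸ mem_top _ : (⟨a, ha⟩ : (R : Subgroup G)) ∈ E)
    rw [← sq]
    exact congrArg Subtype.val h1
  have hodd : ∀ (r : ℕ), r.Prime → r ≠ p → ∀ a : G, orderOf a = r → (∀ v ∈ P, a * v = v * a) →
      r = 2 ∧ p = 3 ∧ ∃ R : Sylow r G, Nat.card R = 4 ∧ (∀ a ∈ R, a * a = 1) ∧
        ∃ z ∈ normalizer (R : Set G), Pel p z ∧ ∃ a ∈ R, z * a ≠ a * z := fun r hr hrp a ha haP => by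
    haveI := Fact.mk hr
    exact main r a ha haP hrp
  obtain ⟨r, hr, hrd⟩ := Nat.exists_prime_and_dvd (fun e => hd1 (orderOf_eq_one_iff.1 e))
  have hrp : r ≠ p := fun e => hp.out.ne_one (Nat.eq_one_of_dvd_coprimes hdc (e ▸ hrd) dvd_rfl)
  set a₀ := d ^ (orderOf d / r) with ha₀
  have ha₀o : orderOf a₀ = r := orderOf_pow_orderOf_div (orderOf_pos _).ne' hrd
  have ha₀P : ∀ v ∈ P, a₀ * v = v * a₀ := fun v hv => (Commute.pow_left (hdP v hv) _).eq
  obtain ⟨hr2, hp3, R, hR4, hRexp, z, hzN, hzp, a₁, ha₁, hza₁⟩ := hodd r hr hrp a₀ ha₀o ha₀P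
  subst hr2
  haveI : Fact (Nat.Prime 2) := ⟨Nat.prime_two⟩
  -- transitivity
  have hcardset : ({v : G | v ∈ R ∧ v ≠ 1}).ncard = 3 := by
    have h1 : {v : G | v ∈ R ∧ v ≠ 1} = ((R : Subgroup G) : Set G) \ {1} := by ext v; simp
    rw [h1, Set.ncard_diff_singleton_of_mem (one_mem (R : Subgroup G)), ← Nat.card_coe_set_eq]
    show Nat.card (R : Subgroup G) - 1 = 3
    rw [show Nat.card (R : Subgroup G) = 4 from hR4]
  have hzall : ∀ a ∈ R, a ≠ 1 → z * a ≠ a * z := by
    intro a ha ha1 hza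
    have hstep : ∀ c ∈ R, c ≠ 1 → z * c * z⁻¹ ∈ R ∧ z * c * z⁻¹ ≠ 1 := fun c hc hc1 =>
      ⟨(mem_normalizer_iff.1 hzN c).1 hc, fun e => hc1 (conj_eq_one_iff.1 e)⟩
    have ha₁1 : a₁ ≠ 1 := fun e => hza₁ (by rw [e, mul_one, one_mul])
    set c := z * a₁ * z⁻¹ with hc
    have hcR := hstep a₁ ha₁ ha₁1
    have hca : c ≠ a₁ := fun e => hza₁ (mul_inv_eq_iff_eq_mul.1 e)
    have haa₁ : a₁ ≠ a := fun e => hza₁ (e ▸ hza)
    have hca' : c ≠ a := by
      intro e
      refine haa₁ ?_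
      calc a₁ = z⁻¹ * c * z := by rw [hc]; group
        _ = z⁻¹ * (a * z) := by rw [e, mul_assoc]
        _ = a := by rw [← hza, inv_mul_cancel_left]
    have hset : {v : G | v ∈ R ∧ v ≠ 1} = {a, a₁, c} := by
      refine (Set.eq_of_subset_of_ncard_le ?_ ?_ (Set.toFinite _)).symm
      · rintro v (rfl | rfl | rfl)
        exacts [⟨ha, ha1⟩, ⟨ha₁, ha₁1⟩, hcR]
      · rw [hcardset, Set.ncard_eq_three.2 ⟨a, a₁, c, haa₁.symm, hca'.symm, hca.symm, rfl⟩]
    have hzc : z * c * z⁻¹ = a₁ := by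
      have h2 : z * c * z⁻¹ ∈ {v : G | v ∈ R ∧ v ≠ 1} := hstep c hcR.1 hcR.2
      rw [hset] at h2
      rcases h2 with h2 | h2 | h2
      · exfalso
        refine hca' ?_
        calc c = z⁻¹ * (z * c * z⁻¹) * z := by group
          _ = z⁻¹ * (a * z) := by rw [h2, mul_assoc]
          _ = a := by rw [← hza, inv_mul_cancel_left]
      · exact h2
      · exfalso
        rw [Set.mem_singleton_iff] at h2
        refine hca ?_
        calc c = z⁻¹ * (z * c * z⁻¹) * z := by group
          _ = z⁻¹ * c * z := by rw [h2]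
          _ = a₁ := by rw [hc]; group
    obtain ⟨k, hk⟩ := hzp
    refine hza₁ (mem_centralizer_singleton_iff.1 (mem_of_two_pows (S := centralizer ({a₁} : Set G))
      (a := 2) (((Nat.coprime_primes Nat.prime_two hp.out).2 (by omega)).pow_right k) ?_ (hk ▸ one_mem _)))
    refine mem_centralizer_singleton_iff.2 ?_
    calc z ^ 2 * a₁ = z * (z * a₁ * z⁻¹) * z⁻¹ * z ^ 2 := by rw [pow_two]; group
      _ = a₁ * z ^ 2 := by rw [← hc, hzc]
  have htr : ∀ a ∈ R, ∀ c ∈ R, a ≠ 1 → c ≠ 1 →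
      ∃ g ∈ normalizer (R : Set G), Pel p g ∧ g * a * g⁻¹ = c := by
    intro a ha c hc ha1 hc1
    have hne1 := hzall a ha ha1
    set b := z * a * z⁻¹ with hb
    have hbR : b ∈ R := (mem_normalizer_iff.1 hzN a).1 ha
    have hb1 : b ≠ 1 := fun e => ha1 (conj_eq_one_iff.1 e)
    set e₂ := z * b * z⁻¹ with he₂
    have hba : b ≠ a := fun e => hne1 (mul_inv_eq_iff_eq_mul.1 e)
    have heb : e₂ ≠ b := fun e => hzall b hbR hb1 (mul_inv_eq_iff_eq_mul.1 e)
    have hea : e₂ ≠ a := by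
      intro e
      obtain ⟨k, hk⟩ := hzp
      refine hne1 (mem_centralizer_singleton_iff.1 (mem_of_two_pows (S := centralizer ({a} : Set G))
        (a := 2) (((Nat.coprime_primes Nat.prime_two hp.out).2 (by omega)).pow_right k) ?_ (hk ▸ one_mem _)))
      refine mem_centralizer_singleton_iff.2 ?_
      calc z ^ 2 * a = z * (z * a * z⁻¹) * z⁻¹ * z ^ 2 := by rw [pow_two]; group
        _ = a * z ^ 2 := by rw [← hb, ← he₂, e]
    have hset : {v : G | v ∈ R ∧ v ≠ 1} = {a, b, e₂} := by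
      refine (Set.eq_of_subset_of_ncard_le ?_ ?_ (Set.toFinite _)).symm
      · rintro v (rfl | rfl | rfl)
        exacts [⟨ha, ha1⟩, ⟨hbR, hb1⟩, ⟨(mem_normalizer_iff.1 hzN b).1 hbR, fun e => hb1 (conj_eq_one_iff.1 e)⟩]
      · rw [hcardset, Set.ncard_eq_three.2 ⟨a, b, e₂, hba.symm, hea.symm, heb.symm, rfl⟩]
    have hcm : c ∈ {v : G | v ∈ R ∧ v ≠ 1} := ⟨hc, hc1⟩
    rw [hset] at hcm
    rcases hcm with rfl | rfl | rfl
    · exact ⟨1, one_mem _, ⟨0, one_pow _⟩, by rw [one_mul, inv_one, mul_one]⟩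
    · exact ⟨z, hzN, hzp, rfl⟩
    · refine ⟨z * z, mul_mem hzN hzN, pel_of_mem hzp.isPGroup (mul_mem (mem_zpowers z) (mem_zpowers z)), ?_⟩
      rw [he₂, hb]
      group
  have htrQ : ∀ Q : Sylow 2 G, ∀ a ∈ Q, ∀ c ∈ Q, a ≠ 1 → c ≠ 1 →
      ∃ g ∈ normalizer (Q : Set G), Pel p g ∧ g * a * g⁻¹ = c := by
    intro Q a ha c hc ha1 hc1
    obtain ⟨x, rfl⟩ := MulAction.exists_smul_eq G R Q
    have ha' : a ∈ ((x • R : Sylow 2 G) : Subgroup G) := ha
    have hc' : c ∈ ((x • R : Sylow 2 G) : Subgroup G) := hc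
    rw [Sylow.coe_subgroup_smul] at ha' hc'
    obtain ⟨a', ha₂, rfl⟩ := ha'
    obtain ⟨c', hc₂, rfl⟩ := hc'
    obtain ⟨g, hg, hgp, hga⟩ := htr a' ha₂ c' hc₂ (fun e => ha1 (by simp [e])) (fun e => hc1 (by simp [e]))
    refine ⟨x * g * x⁻¹, ?_, hgp.conj x, ?_⟩
    · rw [← Sylow.smul_eq_iff_mem_normalizer, ← mul_smul, inv_mul_cancel_right, mul_smul,
        Sylow.smul_eq_iff_mem_normalizer.2 hg]
    · show x * g * x⁻¹ * (x * a' * x⁻¹) * (x * g * x⁻¹)⁻¹ = x * c' * x⁻¹
      rw [← hga]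
      group
  have hinvconj : ∀ t : G, Inv2 t → ∃ g : G, g * a₀ * g⁻¹ = t := by
    intro t ht
    obtain ⟨Q, hQ⟩ := (Pel.isPGroup ⟨1, by rw [pow_one, sq, ht.1]⟩ : IsPGroup 2 (zpowers t)).exists_le_sylow
    obtain ⟨Q₀, hQ₀⟩ := (IsPGroup.of_card (n := 1)
      (by rw [Nat.card_zpowers, ha₀o, pow_one]) : IsPGroup 2 (zpowers a₀)).exists_le_sylow
    obtain ⟨x, rfl⟩ := MulAction.exists_smul_eq G Q₀ Q
    have htQ : t ∈ ((x • Q₀ : Sylow 2 G) : Subgroup G) := hQ (mem_zpowers t)
    rw [Sylow.coe_subgroup_smul] at htQ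
    obtain ⟨t', ht', rfl⟩ := htQ
    obtain ⟨g, -, -, hg⟩ := htrQ Q₀ a₀ (hQ₀ (mem_zpowers a₀)) t' ht'
      (fun e => by rw [e, orderOf_one] at ha₀o; omega) (fun e => ht.2 (by simp [e]))
    refine ⟨x * g, ?_⟩
    show x * g * a₀ * (x * g)⁻¹ = x * t' * x⁻¹
    rw [← hg]
    group
  have ha₀1 : a₀ ≠ 1 := fun e => by rw [e, orderOf_one] at ha₀o; omega
  have ha₀c : (orderOf a₀).Coprime p := by
    rw [ha₀o]; exact (Nat.coprime_primes Nat.prime_two hp.out).2 (by omega)
  -- primes of the normalizer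
  have hNP : ∀ r : ℕ, r.Prime → ∀ x ∈ normalizer (P : Set G), orderOf x = r → r = p ∨ r = 2 := by
    intro r hr x hxN hxo
    by_contra hcon
    push Not at hcon
    have hxc : (orderOf x).Coprime p := by rw [hxo]; exact (Nat.coprime_primes hr hp.out).2 hcon.1
    obtain ⟨i, hi⟩ := IsPGroup.iff_card.1 P.isPGroup'
    have hi0 : i ≠ 0 := fun e => h.psylow_ne_bot P (Subgroup.card_eq_one.1 (by rw [hi, e, pow_zero]))
    obtain ⟨⟨u, hu⟩, huo⟩ := exists_prime_orderOf_dvd_card' p (hi ▸ dvd_pow_self p hi0)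
    rw [Subgroup.orderOf_mk] at huo
    have hu1 : u ≠ 1 := fun e => hp.out.ne_one (by rw [← huo, e, orderOf_one])
    have hxX : x ∈ normalizer ((zpowers u : Subgroup G) : Set G) := h.normalizer_le_zpowers P hu hxN
    set φ := (zpowers u).normalizerMonoidHom ⟨x, hxX⟩ with hφ
    haveI : IsCyclic (zpowers u) := Subgroup.isCyclic_zpowers u
    have h1 : orderOf φ ∣ r := by
      rw [hφ, ← hxo, ← Subgroup.orderOf_mk x hxX]
      exact orderOf_map_dvd _ _
    have h2 : orderOf φ ∣ 2 := by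
      refine (orderOf_dvd_natCard φ).trans (dvd_of_eq ?_)
      rw [IsCyclic.card_mulAut, Nat.card_zpowers, huo, Nat.totient_prime hp.out]
      omega
    have h3 : φ = 1 := orderOf_eq_one_iff.1 (Nat.eq_one_of_dvd_coprimes
      ((Nat.coprime_primes hr Nat.prime_two).2 hcon.2) h1 h2)
    have h4 : x * u * x⁻¹ = u := by
      have h5 := congrArg Subtype.val (DFunLike.congr_fun h3 (⟨u, mem_zpowers u⟩ : zpowers u))
      exact h5
    exact hcon.2 (hodd r hr hcon.1 x hxo (h.centralizes P hu hu1 (mul_inv_eq_iff_eq_mul.1 h4)).2).1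
  have hNPc : ∀ (P' : Sylow p G) (r : ℕ), r.Prime → ∀ x ∈ normalizer (P' : Set G), orderOf x = r →
      r = p ∨ r = 2 := by
    intro P' r hr x hx hxo
    obtain ⟨g, rfl⟩ := MulAction.exists_smul_eq G P P'
    refine hNP r hr (g⁻¹ * x * g) ?_ ?_
    · rw [← Sylow.smul_eq_iff_mem_normalizer, mul_smul, mul_smul, Sylow.smul_eq_iff_mem_normalizer.2 hx,
        inv_smul_smul]
    · rw [← hxo]
      have := MulEquiv.orderOf_eq (MulAut.conj g⁻¹) x
      simpa using this
  have hprim : ∀ H : Subgroup G, H ≠ ⊤ → 2 ∣ Nat.card H → ∀ r : ℕ, r.Prime → r ∣ Nat.card H → r = p ∨ r = 2 := by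
    intro H hH h2H r hr hrH
    haveI := Fact.mk hr
    obtain ⟨⟨x, hxH⟩, hxo⟩ := exists_prime_orderOf_dvd_card' r hrH
    rw [Subgroup.orderOf_mk] at hxo
    by_cases hrp : r = p
    · exact Or.inl hrp
    have hxc : (orderOf x).Coprime p := by rw [hxo]; exact (Nat.coprime_primes hr hp.out).2 hrp
    rcases h.dich H hH with ⟨K, -, -, hpK, hall⟩ | ⟨U, hU, hUH, hHU, hall⟩
    · obtain ⟨⟨t, htH⟩, hto⟩ := exists_prime_orderOf_dvd_card' 2 h2H
      rw [Subgroup.orderOf_mk] at hto
      have ht : Inv2 t := ⟨by rw [← sq, ← hto, pow_orderOf_eq_one], fun e => by rw [e, orderOf_one] at hto; omega⟩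
      have htK : t ∈ K := hall t htH (by rw [hto]; exact (Nat.coprime_primes Nat.prime_two hp.out).2 (by omega))
      have hxt : x * t = t * x := h.comm' hpK (hall x hxH hxc) htK
      obtain ⟨g, rfl⟩ := hinvconj t ht
      refine hNPc (g • P) r hr x ?_ hxo
      rw [← Sylow.smul_eq_iff_mem_normalizer]
      have h1 : g⁻¹ * x * g ∈ normalizer (P : Set G) := h.centralizer_le P ha₀c ha₀1 ha₀P (by
        calc g⁻¹ * x * g * a₀ = g⁻¹ * (x * (g * a₀ * g⁻¹)) * g := by group
          _ = g⁻¹ * (g * a₀ * g⁻¹ * x) * g := by rw [hxt]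
          _ = a₀ * (g⁻¹ * x * g) := by group)
      rw [← Sylow.smul_eq_iff_mem_normalizer, mul_smul, mul_smul, inv_smul_eq_iff] at h1
      exact h1
    · by_cases hU1 : U = ⊥
      · have hpH : ¬ p ∣ Nat.card H := by
          intro hd
          obtain ⟨⟨w, hwH⟩, hwo⟩ := exists_prime_orderOf_dvd_card' p hd
          rw [Subgroup.orderOf_mk] at hwo
          have := hall w hwH ⟨1, by rw [pow_one, ← hwo, pow_orderOf_eq_one]⟩
          rw [hU1, mem_bot] at this
          rw [this, orderOf_one] at hwo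
          exact hp.out.ne_one hwo.symm
        obtain ⟨⟨t, htH⟩, hto⟩ := exists_prime_orderOf_dvd_card' 2 h2H
        rw [Subgroup.orderOf_mk] at hto
        have ht : Inv2 t := ⟨by rw [← sq, ← hto, pow_orderOf_eq_one], fun e => by rw [e, orderOf_one] at hto; omega⟩
        have hxt : x * t = t * x := h.comm' hpH hxH htH
        obtain ⟨g, rfl⟩ := hinvconj t ht
        refine hNPc (g • P) r hr x ?_ hxo
        rw [← Sylow.smul_eq_iff_mem_normalizer]
        have h1 : g⁻¹ * x * g ∈ normalizer (P : Set G) := h.centralizer_le P ha₀c ha₀1 ha₀P (by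
          calc g⁻¹ * x * g * a₀ = g⁻¹ * (x * (g * a₀ * g⁻¹)) * g := by group
            _ = g⁻¹ * (g * a₀ * g⁻¹ * x) * g := by rw [hxt]
            _ = a₀ * (g⁻¹ * x * g) := by group)
        rw [← Sylow.smul_eq_iff_mem_normalizer, mul_smul, mul_smul, inv_smul_eq_iff] at h1
        exact h1
      · obtain ⟨w, hw, hw1⟩ := (Subgroup.bot_or_exists_ne_one _).resolve_left hU1
        obtain ⟨P', hP'⟩ := hU.exists_le_sylow
        refine hNPc P' r hr x ?_ hxo
        have hwx : x * w * x⁻¹ ∈ U := (mem_normalizer_iff.1 (hHU hxH) w).1 hw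
        have hxm : x * w * x⁻¹ ∈ ((x • P' : Sylow p G) : Subgroup G) := by
          rw [Sylow.coe_subgroup_smul]
          exact ⟨w, hP' hw, rfl⟩
        exact Sylow.smul_eq_iff_mem_normalizer.1
          (h.sylow_eq (hP' hwx) hxm fun e => hw1 (conj_eq_one_iff.1 e))
  refine (⟨hp.out, h.two_ne, by rw [hp3]; rfl, h.hpG, fun Q => ?_, fun Q a ha => ?_, h.hab', h.simple, htrQ, hprim,
    fun x hx hxp hx2 z hz => h.not_inverted hx hxp hx2 hz⟩ : MixedPrimes.Hyp G p 2).absurd'
  · rw [Sylow.card_eq_multiplicity Q, ← Sylow.card_eq_multiplicity R, hR4]; rfl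
  · obtain ⟨x, rfl⟩ := MulAction.exists_smul_eq G R Q
    have ha' : a ∈ ((x • R : Sylow 2 G) : Subgroup G) := ha
    rw [Sylow.coe_subgroup_smul] at ha'
    obtain ⟨v, hv, rfl⟩ := ha'
    show x * v * x⁻¹ * (x * v * x⁻¹) = 1
    calc x * v * x⁻¹ * (x * v * x⁻¹) = x * (v * v) * x⁻¹ := by group
      _ = 1 := by rw [hRexp v hv]; group

/-- Case: `P` is self-centralising and the order is even. -/
theorem false_of_even (h2 : 2 ∣ Nat.card G)
    (hD : ∀ (P : Sylow p G) (d : G), (orderOf d).Coprime p → (∀ v ∈ P, d * v = v * d) → d = 1) : False := by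
  classical
  haveI : Fact (Nat.Prime 2) := ⟨Nat.prime_two⟩
  have hp2 := h.two_ne
  have hCP : ∀ (P : Sylow p G) (g : G), (∀ v ∈ P, g * v = v * g) → g ∈ P := by
    intro P g hg
    obtain ⟨a, c, hac, hpa, hcc⟩ := exists_parts (p := p) g
    have hgN : g ∈ normalizer (P : Set G) :=
      centralizer_le_normalizer _ (mem_centralizer_iff.2 fun v hv => (hg v hv).symm)
    have hc1 := hD P _ hcc fun v hv => (Commute.pow_left (hg v hv) c).eq
    exact mem_of_two_pows hac (h.pel_mem P hpa (pow_mem hgN a)) (hc1 ▸ one_mem _)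
  have hCinv : ∀ (z : G), Inv2 z → ∀ x : G, Pel p x → x * z = z * x → x = 1 := by
    intro z hz x hx hxz
    by_contra hx1
    obtain ⟨P, hP⟩ := hx.isPGroup.exists_le_sylow
    have := (h.centralizes P (hP (mem_zpowers x)) hx1 hxz.symm).2
    exact hz.2 (hD P z (by rw [hz.orderOf_eq]; exact (Nat.coprime_primes Nat.prime_two hp.out).2 hp2.symm) this)
  have hinvP : ∀ (P : Sylow p G) (s : G), Inv2 s → s ∈ normalizer (P : Set G) →
      ∀ x ∈ P, s * x * s⁻¹ = x⁻¹ := by
    intro P s hs hsP x hx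
    have h1 : s * x * s⁻¹ ∈ P := (mem_normalizer_iff.1 hsP x).1 hx
    have hc := h.comm P hx h1
    have h3 : x * (s * x * s⁻¹) = 1 := by
      refine hCinv s hs _ (pel_of_mem P.isPGroup' ((P : Subgroup G).mul_mem hx h1)) ?_
      have h4 : s * (x * (s * x * s⁻¹)) * s⁻¹ = x * (s * x * s⁻¹) := by
        calc s * (x * (s * x * s⁻¹)) * s⁻¹ = s * x * s * x * (s⁻¹ * s⁻¹) := by group
          _ = s * x * s * x := by rw [hs.inv_eq, hs.1, mul_one]
          _ = s * x * s⁻¹ * x := by rw [hs.inv_eq]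
          _ = _ := hc.symm
      calc x * (s * x * s⁻¹) * s = s * (x * (s * x * s⁻¹)) * s⁻¹ * s := by rw [h4]
        _ = s * (x * (s * x * s⁻¹)) := by rw [inv_mul_cancel_right]
    exact (inv_eq_of_mul_eq_one_right h3).symm
  have hncp : ∀ s t : G, Inv2 s → Inv2 t → s * t ≠ t * s →
      Pel p (t * s) ∧ t * s ≠ 1 ∧ t * (t * s) * t⁻¹ = (t * s)⁻¹ := by
    intro s t hs ht hst
    have hinv : t * (t * s) * t⁻¹ = (t * s)⁻¹ := by
      rw [mul_inv_rev, hs.inv_eq, ht.inv_eq, ← mul_assoc t t s, ht.1, one_mul]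
    refine ⟨?_, fun e => hst ?_, hinv⟩
    · set m := orderOf (t * s) with hm
      have hodd : ¬ 2 ∣ m := by
        intro hd
        set y := (t * s) ^ (m / 2) with hy
        have ho : orderOf y = 2 := orderOf_pow_orderOf_div (orderOf_pos _).ne' hd
        have hyi : Inv2 y := ⟨by rw [← sq, ← ho, pow_orderOf_eq_one], fun e => by rw [e, orderOf_one] at ho; omega⟩
        by_cases hp2m : p ∣ m
        · set x := (t * s) ^ (m / p) with hx
          have hxo : orderOf x = p := orderOf_pow_orderOf_div (orderOf_pos _).ne' hp2m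
          have := hCinv y hyi x ⟨1, by rw [pow_one, ← hxo, pow_orderOf_eq_one]⟩
            (((Commute.refl (t * s)).pow_left _).pow_right _).eq
          rw [this, orderOf_one] at hxo
          exact hp.out.ne_one hxo.symm
        · apply hst
          have htn : t ∈ normalizer ((zpowers (t * s) : Subgroup G) : Set G) :=
            mem_normalizer_zpowers (Or.inl hinv) ht.1
          have hpS : ¬ p ∣ Nat.card ↥(zpowers t ⊔ zpowers (t * s)) := by
            intro hd'
            have h1 := hd'.trans (Dvd.intro _ (CfsgLib.NormalPComplement.card_sup_mul_card_inf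
              (A := zpowers t) (B := zpowers (t * s)) (zpowers_le.2 htn)))
            rw [Nat.card_zpowers, Nat.card_zpowers, ht.orderOf_eq] at h1
            rcases (Nat.Prime.dvd_mul hp.out).1 h1 with h' | h'
            · exact hp2 ((Nat.prime_dvd_prime_iff_eq hp.out Nat.prime_two).1 h')
            · exact hp2m h'
          have hc := h.comm' hpS (mem_sup_left (mem_zpowers t)) (mem_sup_right (mem_zpowers (t * s)))
          have hc' : t * (t * s) = t * (s * t) := by rw [← mul_assoc t s t]; exact hc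
          exact (mul_left_cancel hc').symm
      refine pel_of_mem (isPGroup_of_primes fun r hr hd => ?_) (mem_zpowers _)
      rw [Nat.card_zpowers] at hd
      by_contra hrp
      set y := (t * s) ^ (m / r) with hy
      have ho : orderOf y = r := orderOf_pow_orderOf_div (orderOf_pos _).ne' hd
      refine h.not_inverted (ho ▸ hr) (ho ▸ hrp) (fun e => hodd ?_) ht ?_
      · rw [ho] at e; exact e ▸ hd
      · rw [hy, ← conj_pow, hinv, inv_pow]
    · have : s = t := by rw [← inv_eq_of_mul_eq_one_right e, ht.inv_eq]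
      rw [this]
  obtain ⟨s₀, t, hs₀, ht, hne⟩ : ∃ s t : G, Inv2 s ∧ Inv2 t ∧ s * t ≠ t * s := by
    by_contra hno
    push Not at hno
    set I : Set G := {z | Inv2 z} with hI
    have hn : (Subgroup.closure I).Normal := by
      refine ⟨fun x hx g => ?_⟩
      have hle : (Subgroup.closure I).map (MulAut.conj g).toMonoidHom ≤ Subgroup.closure I := by
        rw [MonoidHom.map_closure]
        exact Subgroup.closure_mono (by rintro - ⟨z, hz, rfl⟩; exact hz.conj g)
      exact hle ⟨x, hx, rfl⟩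
    obtain ⟨a, hao⟩ := exists_prime_orderOf_dvd_card' 2 h2
    have hai : Inv2 a := ⟨by rw [← sq, ← hao, pow_orderOf_eq_one], fun e => by rw [e, orderOf_one] at hao; omega⟩
    have htop : Subgroup.closure I = ⊤ := (h.simple _ hn).resolve_left fun e =>
      hai.2 (mem_bot.1 (e ▸ Subgroup.subset_closure (hai : a ∈ I)))
    obtain ⟨P⟩ := (inferInstance : Nonempty (Sylow p G))
    obtain ⟨y, -, -, u, -, hyu⟩ := h.hy P
    have h1 : Subgroup.closure I ≤ centralizer (Subgroup.closure I : Set G) := by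
      rw [Subgroup.closure_le]
      intro t ht
      rw [SetLike.mem_coe, Subgroup.centralizer_closure, mem_centralizer_iff]
      exact fun s hs => hno s t hs ht
    rw [htop] at h1
    exact hyu (mem_centralizer_iff.1 (h1 (mem_top u)) y (mem_top y))
  set A := centralizer ({t} : Set G) with hA
  have hpA : ∀ z : G, Inv2 z → ¬ p ∣ Nat.card (centralizer ({z} : Set G)) := by
    intro z hz hd
    obtain ⟨⟨x, hxC⟩, hxo⟩ := exists_prime_orderOf_dvd_card' p hd
    rw [Subgroup.orderOf_mk] at hxo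
    have := hCinv z hz x ⟨1, by rw [pow_one, ← hxo, pow_orderOf_eq_one]⟩ (mem_centralizer_singleton_iff.1 hxC)
    rw [this, orderOf_one] at hxo
    exact hp.out.ne_one hxo.symm
  -- conjugation by a `p`-element
  have hfree : ∀ (T : Set G) (z : G), Pel p z → (∀ v ∈ T, z * v * z⁻¹ ∈ T) → (∀ v ∈ T, z * v ≠ v * z) →
      p ∣ T.ncard := by
    intro T z hz hstab hnc
    haveI : Finite (ConjAct G) := Finite.of_equiv G ConjAct.toConjAct.toEquiv
    obtain ⟨k, hk⟩ := hz
    have hKp : IsPGroup p (zpowers (ConjAct.toConjAct z)) :=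
      Pel.isPGroup ⟨k, by rw [← map_pow, hk, map_one]⟩
    have hmem : ∀ σ ∈ zpowers (ConjAct.toConjAct z), ∀ v ∈ T, σ • v ∈ T := by
      intro σ hσ
      rw [mem_zpowers_iff_mem_range_orderOf] at hσ
      obtain ⟨i, -, rfl⟩ := Finset.mem_image.1 hσ
      clear hσ
      intro v hv
      induction i with
      | zero => simpa using hv
      | succ i ih =>
        rw [pow_succ', mul_smul, ConjAct.toConjAct_smul]
        exact hstab _ ih
    let act : MulAction (zpowers (ConjAct.toConjAct z)) T :=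
      { smul := fun σ v => ⟨(σ : ConjAct G) • (v : G), hmem σ σ.2 v v.2⟩
        one_smul := fun v => Subtype.ext (one_smul (ConjAct G) (v : G))
        mul_smul := fun σ τ v => Subtype.ext (mul_smul (σ : ConjAct G) (τ : ConjAct G) (v : G)) }
    have h1 := @IsPGroup.card_modEq_card_fixedPoints p _ _ hKp _ T act _
    have h2 : IsEmpty (@MulAction.fixedPoints (zpowers (ConjAct.toConjAct z)) T _ act) := ⟨fun v => by
      have e : (ConjAct.toConjAct z) • ((v.1 : T) : G) = ((v.1 : T) : G) :=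
        congrArg Subtype.val (v.2 ⟨_, mem_zpowers _⟩)
      rw [ConjAct.toConjAct_smul] at e
      exact hnc _ v.1.2 (mul_inv_eq_iff_eq_mul.1 e)⟩
    rw [Nat.card_eq_zero.2 (Or.inl h2), Nat.modEq_zero_iff_dvd, Nat.card_coe_set_eq] at h1
    exact h1
  set I : Set G := {s | Inv2 s} with hI
  set C₀ : Set G := {s | Inv2 s ∧ s * t = t * s} with hC₀
  set Y : Set G := {s | Inv2 s ∧ s * t ≠ t * s} with hY
  have hdisj : I.ncard = C₀.ncard + Y.ncard := by
    rw [← Set.ncard_union_eq (Set.disjoint_left.2 fun s hs hs' => hs'.2 hs.2) (Set.toFinite _) (Set.toFinite _)]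
    congr 1
    ext s
    simp only [hI, hC₀, hY, Set.mem_setOf_eq, Set.mem_union]
    tauto
  obtain ⟨P₁⟩ := (inferInstance : Nonempty (Sylow p G))
  obtain ⟨u₁, hu₁, hu₁1⟩ := (Subgroup.bot_or_exists_ne_one _).resolve_left (h.psylow_ne_bot P₁)
  have hpI : p ∣ I.ncard := hfree I u₁ (pel_of_mem P₁.isPGroup' hu₁) (fun v hv => hv.conj u₁)
    fun v hv e => hu₁1 (hCinv v hv u₁ (pel_of_mem P₁.isPGroup' hu₁) e)
  -- commuting involutions form the nonidentity part of a Sylow `2`-subgroup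
  obtain ⟨S, hS⟩ := (Pel.isPGroup ⟨1, by rw [pow_one, sq, ht.1]⟩ : IsPGroup 2 (zpowers t)).exists_le_sylow
  have htS : t ∈ S := hS (mem_zpowers t)
  have hC0S : ∀ s, Inv2 s → s * t = t * s → s ∈ S := by
    intro s hs hst
    have h1 : zpowers s ≤ normalizer ((S : Subgroup G) : Set G) := by
      rw [zpowers_le]
      refine centralizer_le_normalizer _ (mem_centralizer_iff.2 fun a ha => ?_)
      exact h.comm' (hpA t ht) (mem_centralizer_singleton_iff.2 (h.comm_of_two S.isPGroup' ha htS))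
        (mem_centralizer_singleton_iff.2 hst)
    have hle := S.3 (IsPGroup.to_sup_of_normal_right'
      (Pel.isPGroup ⟨1, by rw [pow_one, sq, hs.1]⟩ : IsPGroup 2 (zpowers s)) S.isPGroup' h1) le_sup_right
    exact hle.le (mem_sup_left (mem_zpowers s))
  have hpC₀ : p ∣ C₀.ncard := by
    obtain ⟨z, hzN, hzp, a, ha, hza⟩ := h.exists_acting hp2.symm h2 S
    refine hfree C₀ z hzp (fun v hv => ⟨hv.1.conj z, h.comm_of_two S.isPGroup'
      ((mem_normalizer_iff.1 hzN v).1 (hC0S v hv.1 hv.2)) htS⟩) fun v hv e => ?_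
    exact hza (by rw [hCinv v hv.1 z hzp e, one_mul, mul_one])
  have hpY : p ∣ Y.ncard := (Nat.dvd_add_right hpC₀).1 (hdisj ▸ hpI)
  -- the Sylow subgroups normalised by `t`
  set PS : Set (Sylow p G) := {P | t ∈ normalizer (P : Set G)} with hPS
  set X : Set G := {x | Pel p x ∧ x ≠ 1 ∧ t * x * t⁻¹ = x⁻¹} with hX
  have huniq : ∀ x ∈ X, ∃ P ∈ PS, x ∈ P := by
    rintro x ⟨hx, hx1, htx⟩
    obtain ⟨P, hP⟩ := hx.isPGroup.exists_le_sylow
    exact ⟨P, h.normalizer_zpowers P (hP (mem_zpowers x)) hx1 (mem_normalizer_zpowers (Or.inl htx) ht.1),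
      hP (mem_zpowers x)⟩
  obtain ⟨P₀, hP₀⟩ : ∃ P₀, P₀ ∈ PS := by
    obtain ⟨h1, h2, h3⟩ := hncp s₀ t hs₀ ht hne
    obtain ⟨P, hP, -⟩ := huniq _ (show t * s₀ ∈ X from ⟨h1, h2, h3⟩)
    exact ⟨P, hP⟩
  have horb : MulAction.orbit A P₀ = PS := by
    refine Set.Subset.antisymm ?_ ?_
    · rintro - ⟨⟨a, ha⟩, rfl⟩
      show t ∈ normalizer ((a • P₀ : Sylow p G) : Set G)
      rw [← Sylow.smul_eq_iff_mem_normalizer, ← mul_smul, ← mem_centralizer_singleton_iff.1 ha, mul_smul,
        Sylow.smul_eq_iff_mem_normalizer.2 hP₀]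
    · intro P hP
      obtain ⟨g, rfl⟩ := MulAction.exists_smul_eq G P₀ P
      have ht' : g⁻¹ * t * g ∈ normalizer (P₀ : Set G) := by
        rw [← Sylow.smul_eq_iff_mem_normalizer, mul_smul, mul_smul,
          Sylow.smul_eq_iff_mem_normalizer.2 hP, inv_smul_smul]
      have hti : Inv2 (g⁻¹ * t * g) := by
        have := ht.conj g⁻¹
        rwa [inv_inv] at this
      set t' := g⁻¹ * t * g with ht'def
      set u := t * t' with hu
      have huP : u ∈ P₀ := by
        refine hCP P₀ u fun x hx => ?_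
        have e1 := hinvP P₀ t' hti ht' x hx
        have e2 := hinvP P₀ t ht hP₀ x⁻¹ (inv_mem hx)
        rw [inv_inv] at e2
        calc u * x = t * (t' * x * t'⁻¹) * t⁻¹ * (t * t') := by rw [hu]; group
          _ = x * u := by rw [e1, e2]
      obtain ⟨k, hk⟩ := pel_of_mem P₀.isPGroup' huP
      obtain ⟨m, hm⟩ : Odd (p ^ k) := (hp.out.odd_of_ne_two hp2).pow
      set v := u⁻¹ ^ (m + 1) with hv
      have hv2 : v * v = u⁻¹ := by
        rw [hv, ← pow_add, show m + 1 + (m + 1) = p ^ k + 1 by omega, pow_succ, inv_pow, hk, inv_one, one_mul]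
      have hvP : v ∈ P₀ := pow_mem (inv_mem huP) _
      have hvt : v * t * v⁻¹ = t' := by
        have e := hinvP P₀ t ht hP₀ v⁻¹ (inv_mem hvP)
        rw [inv_inv] at e
        calc v * t * v⁻¹ = v * (t * v⁻¹ * t⁻¹) * t := by group
          _ = v * v * t := by rw [e]
          _ = t' := by rw [hv2, hu, mul_inv_rev, hti.inv_eq, ht.inv_eq, mul_assoc, ht.1, mul_one]
      have hgv : g * v ∈ A := by
        rw [hA, mem_centralizer_singleton_iff]
        calc g * v * t = g * (v * t * v⁻¹) * v := by group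
          _ = t * (g * v) := by rw [hvt, ht'def]; group
      refine ⟨⟨g * v, hgv⟩, ?_⟩
      show (g * v) • P₀ = g • P₀
      rw [mul_smul, Sylow.smul_eq_iff_mem_normalizer.2 (le_normalizer hvP)]
  have hpk : ¬ p ∣ PS.ncard := by
    rw [← horb, ← MulAction.index_stabilizer]
    exact fun hd => hpA t ht (hd.trans (Subgroup.index_dvd_card _))
  have hXcard : Nat.card X = PS.ncard * (Nat.card P₀ - 1) := by
    have hsig : (Σ P : PS, {x : G // x ∈ (P : Sylow p G) ∧ x ≠ 1}) ≃ X :=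
      Equiv.ofBijective (fun y => ⟨y.2.1, pel_of_mem (y.1 : Sylow p G).isPGroup' y.2.2.1, y.2.2.2,
          hinvP _ t ht y.1.2 _ y.2.2.1⟩) ⟨by
        rintro ⟨P, x, hx, hx1⟩ ⟨P', x', hx', hx1'⟩ e
        obtain rfl : x = x' := congrArg Subtype.val e
        obtain rfl : P = P' := Subtype.ext (h.sylow_eq hx hx' hx1).symm
        rfl, fun x => by
        obtain ⟨P, hP, hxP⟩ := huniq x x.2
        exact ⟨⟨⟨P, hP⟩, x, hxP, x.2.2.1⟩, rfl⟩⟩
    haveI : Fintype PS := Fintype.ofFinite _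
    rw [← Nat.card_congr hsig, Nat.card_sigma]
    have hone : ∀ P : PS, Nat.card {x : G // x ∈ (P : Sylow p G) ∧ x ≠ 1} = Nat.card P₀ - 1 := fun P => by
      rw [show {x : G // x ∈ (P : Sylow p G) ∧ x ≠ 1} =
        ↥((((P : Sylow p G) : Subgroup G) : Set G) \ {1}) from rfl, Nat.card_coe_set_eq,
        Set.ncard_diff_singleton_of_mem (one_mem ((P : Sylow p G) : Subgroup G)), ← Nat.card_coe_set_eq]
      rw [Sylow.card_eq_multiplicity P₀, ← Sylow.card_eq_multiplicity (P : Sylow p G)]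
      rfl
    rw [Finset.sum_congr rfl fun P _ => hone P, Finset.sum_const, smul_eq_mul, Finset.card_univ,
      ← Nat.card_eq_fintype_card, Nat.card_coe_set_eq]
  have hYX : Nat.card Y = Nat.card X := by
    refine Nat.card_congr
      { toFun := fun s => ⟨t * (s : G), hncp s t s.2.1 ht s.2.2⟩
        invFun := fun x => ⟨t * (x : G), ?_, ?_⟩
        left_inv := fun s => Subtype.ext (by show t * (t * (s : G)) = s; rw [← mul_assoc, ht.1, one_mul])
        right_inv := fun x => Subtype.ext (by show t * (t * (x : G)) = x; rw [← mul_assoc, ht.1, one_mul]) }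
    · refine ⟨?_, fun e => ?_⟩
      · calc t * (x : G) * (t * (x : G)) = (t * (x : G) * t⁻¹) * x := by rw [ht.inv_eq]; group
          _ = 1 := by rw [x.2.2.2, inv_mul_cancel]
      · obtain ⟨k, hk⟩ := x.2.1
        have hxt : (x : G) = t := by rw [← inv_eq_of_mul_eq_one_right e, ht.inv_eq]
        exact x.2.2.1 (hCinv t ht x x.2.1 (by rw [hxt]))
    · intro e
      refine x.2.2.1 (hCinv t ht x x.2.1 ?_)
      have h1 : t * ((x : G) * t) = t * (t * (x : G)) := by rw [← mul_assoc]; exact e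
      exact mul_left_cancel h1
  rw [← Nat.card_coe_set_eq, hYX, hXcard] at hpY
  rcases (Nat.Prime.dvd_mul hp.out).1 hpY with h' | h'
  · exact hpk h'
  · have h1 := P₀.dvd_card_of_dvd_card h.hpG
    have h2 : p ∣ 1 := by
      have := Nat.dvd_sub h1 h'
      rwa [Nat.sub_sub_self (Nat.card_pos (α := P₀))] at this
    exact hp.out.not_dvd_one h2

/-- The configuration does not occur. -/
theorem absurd' : False := by
  by_cases hD : ∀ (P : Sylow p G) (d : G), (orderOf d).Coprime p → (∀ v ∈ P, d * v = v * d) → d = 1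
  swap
  · push Not at hD
    obtain ⟨P, d, hdc, hdP, hd1⟩ := hD
    exact h.false_of_centralized P hdc hd1 hdP
  by_cases h2 : 2 ∣ Nat.card G
  · exact h.false_of_even h2 hD
  have hodd : Odd (Nat.card G) := Nat.odd_iff.2 (Nat.two_dvd_ne_zero.1 h2)
  have hCN : Cfsg.IsCNGroup G := by
    intro x hx1
    have hcomm : IsMulCommutative (centralizer ({x} : Set G)) := by
      by_cases hpC : p ∣ Nat.card (centralizer ({x} : Set G))
      · obtain ⟨⟨w, hwC⟩, hwo⟩ := exists_prime_orderOf_dvd_card' p hpC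
        rw [Subgroup.orderOf_mk] at hwo
        have hw : Pel p w := ⟨1, by rw [pow_one, ← hwo, pow_orderOf_eq_one]⟩
        have hw1 : w ≠ 1 := fun e => hp.out.ne_one (by rw [← hwo, e, orderOf_one])
        obtain ⟨P, hP⟩ := hw.isPGroup.exists_le_sylow
        have hCP : ∀ g : G, (∀ v ∈ P, g * v = v * g) → g ∈ P := by
          intro g hg
          obtain ⟨a, c, hac, hpa, hcc⟩ := exists_parts (p := p) g
          have hgN : g ∈ normalizer (P : Set G) :=
            centralizer_le_normalizer _ (mem_centralizer_iff.2 fun v hv => (hg v hv).symm)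
          have hc1 := hD P _ hcc fun v hv => (Commute.pow_left (hg v hv) c).eq
          exact mem_of_two_pows hac (h.pel_mem P hpa (pow_mem hgN a)) (hc1 ▸ one_mem _)
        have hxP : x ∈ P := hCP x (h.centralizes P (hP (mem_zpowers w)) hw1
          (mem_centralizer_singleton_iff.1 hwC).symm).2
        refine ⟨⟨fun a b => Subtype.ext ?_⟩⟩
        exact h.comm P (hCP a (h.centralizes P hxP hx1 (mem_centralizer_singleton_iff.1 a.2)).2)
          (hCP b (h.centralizes P hxP hx1 (mem_centralizer_singleton_iff.1 b.2)).2)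
      · exact h.hab _ hpC
    letI : CommGroup (centralizer ({x} : Set G)) :=
      { (inferInstance : Group (centralizer ({x} : Set G))) with mul_comm := fun a b => hcomm.is_comm.comm a b }
    exact CommGroup.isNilpotent
  have hsol : Group.IsSolvable G := Cfsg.Agent.S0183.result hodd hCN
  obtain ⟨P⟩ := (inferInstance : Nonempty (Sylow p G))
  obtain ⟨y, -, -, u, -, hne⟩ := h.hy P
  have hnt : Nontrivial G := ⟨⟨y * u, u * y, hne⟩⟩
  have hlt : derivedSeries G 1 ≠ ⊤ := fun e => by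
    obtain ⟨n, hn⟩ := hsol
    have h3 : ∀ m, derivedSeries G m = ⊤ := by
      intro m
      induction m with
      | zero => exact derivedSeries_zero G
      | succ m ih => rw [derivedSeries_succ, ih, ← _root_.commutator_def, ← derivedSeries_one, e]
    rw [h3 n] at hn
    exact absurd hn top_ne_bot
  rw [derivedSeries_one] at hlt
  have hbot := (h.simple _ inferInstance).resolve_right hlt
  apply hne
  have h4 : ⁅y, u⁆ ∈ commutator G := Subgroup.commutator_mem_commutator (mem_top y) (mem_top u)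
  rw [hbot, mem_bot, commutatorElement_eq_one_iff_commute] at h4
  exact h4.eq

end Hyp

end CfsgLib.SchurExt.CyclicAbelian
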