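import Mathlib
import Cfsg.Agent.Lib.NormalPComplement.Basic

/-!
Small facts on prime parts of elements and normalizers of cyclic subgroups.
-/

set_option autoImplicit false

namespace CfsgLib.SchurExt

variable {G : Type*} [Group G] [Finite G]

/-- An element conjugating `x` into its cyclic subgroup normalizes that subgroup. -/
theorem mem_normalizer_zpowers {a x : G} (h : a * x * a⁻¹ ∈ Subgroup.zpowers x) :
    a ∈ Subgroup.normalizer ((Subgroup.zpowers x : Subgroup G) : Set G) := by
  have hmap : (Subgroup.zpowers x).map (MulAut.conj a).toMonoidHom = Subgroup.zpowers x :=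
    Subgroup.eq_of_le_of_card_ge (by rw [MonoidHom.map_zpowers, Subgroup.zpowers_le]; exact h)
      (by rw [Subgroup.card_map_of_injective (MulAut.conj a).injective])
  refine Subgroup.mem_normalizer_iff.2 fun z => ?_
  conv_rhs => rw [← hmap]
  exact (Subgroup.mem_map_iff_mem (f := (MulAut.conj a).toMonoidHom) (MulAut.conj a).injective).symm

/-- A power of `g` of order the full `q`-part of `orderOf g`. -/
theorem exists_pow_orderOf_eq {g : G} {q k : ℕ} (hq : q ^ k ∣ orderOf g) :
    ∃ c : ℕ, orderOf (g ^ c) = q ^ k := by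
  obtain ⟨c, hc⟩ := hq
  have hc0 : c ≠ 0 := fun h0 => (orderOf_pos g).ne' (by rw [hc, h0, mul_zero])
  exact ⟨c, by rw [orderOf_pow' g hc0, hc, Nat.gcd_eq_right (dvd_mul_left _ _),
    Nat.mul_div_cancel _ (Nat.pos_of_ne_zero hc0)]⟩

/-- An element lies in a subgroup as soon as its powers of prime power order do. -/
theorem mem_of_forall_primePow (D : Subgroup G) {g : G}
    (h : ∀ q k : ℕ, q.Prime → ∀ y ∈ Subgroup.zpowers g, orderOf y = q ^ k → y ∈ D) : g ∈ D := by
  rw [← Subgroup.zpowers_le]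
  have hdvd : orderOf g ∣ Nat.card ↥(Subgroup.zpowers g ⊓ D) := by
    refine (Nat.dvd_iff_prime_pow_dvd_dvd _ _).2 fun q k hq hk => ?_
    obtain ⟨c, hy⟩ := exists_pow_orderOf_eq hk
    have hmem := Subgroup.npow_mem_zpowers g c
    have hle : Subgroup.zpowers (g ^ c) ≤ Subgroup.zpowers g ⊓ D :=
      Subgroup.zpowers_le.2 ⟨hmem, h q k hq _ hmem hy⟩
    rw [← hy, ← Nat.card_zpowers]
    exact Subgroup.card_dvd_of_le hle
  have heq : Subgroup.zpowers g ⊓ D = Subgroup.zpowers g :=
    Subgroup.eq_of_le_of_card_ge inf_le_left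
      (by rw [Nat.card_zpowers]; exact Nat.le_of_dvd Nat.card_pos hdvd)
  exact heq ▸ inf_le_right

/-- An element of `q`-power order in a quotient lifts to one in the group. -/
theorem exists_lift_primePow (N : Subgroup G) [N.Normal] {q : ℕ} [Fact q.Prime] (x : G ⧸ N) {k : ℕ}
    (hk : orderOf x = q ^ k) : ∃ g : G, (g : G ⧸ N) = x ∧ ∃ e : ℕ, orderOf g = q ^ e := by
  obtain ⟨g, rfl⟩ := QuotientGroup.mk'_surjective N x
  obtain ⟨a, b, hab, ⟨e, he⟩, hb⟩ :=
    CfsgLib.NormalPComplement.exists_pParts (p := q) (isOfFinOrder_of_finite g)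
  obtain ⟨i, -, hi⟩ := (Nat.dvd_prime_pow Fact.out).1 he
  refine ⟨g ^ a, ?_, i, hi⟩
  have h1 : ((g ^ b : G) : G ⧸ N) = 1 := orderOf_eq_one_iff.1 (Nat.eq_one_of_dvd_coprimes
    (hb.pow_right k) (orderOf_map_dvd (QuotientGroup.mk' N) (g ^ b))
    (hk ▸ (QuotientGroup.mk_pow N g b).symm ▸ orderOf_pow_dvd b))
  calc ((g ^ a : G) : G ⧸ N) = ((g ^ a : G) : G ⧸ N) * ((g ^ b : G) : G ⧸ N) := by rw [h1, mul_one]
    _ = _ := by rw [← QuotientGroup.mk_mul, hab]; rfl

/-- An element whose order has only prime divisors away from `p` has order prime to `p`. -/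
theorem coprime_of_forall_prime {m p : ℕ} (h : ∀ r : ℕ, r.Prime → r ∣ m → r ≠ p) (hp : p.Prime) :
    m.Coprime p :=
  (hp.coprime_iff_not_dvd.2 fun hd => h p hp hd rfl).symm

/-- An element of `p`-power order lies in a normal Sylow `p`-subgroup. -/
theorem mem_sylow_of_normal {p a : ℕ} [Fact p.Prime] (P : Sylow p G) (hP : (P : Subgroup G).Normal)
    {x : G} (hx : orderOf x = p ^ a) : x ∈ (P : Subgroup G) := by
  obtain ⟨Q, hQ⟩ := (IsPGroup.of_card (p := p) (G := Subgroup.zpowers x) (n := a)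
    (by rw [Nat.card_zpowers, hx])).exists_le_sylow
  have := P.unique_of_normal hP
  rw [Subsingleton.elim P Q]
  exact hQ (Subgroup.mem_zpowers x)

/-- An element of order prime to the index of a normal subgroup lies in it. -/
theorem mem_of_coprime_index (K : Subgroup G) [K.Normal] {y : G}
    (hy : (orderOf y).Coprime K.index) : y ∈ K :=
  (QuotientGroup.eq_one_iff y).1 (orderOf_eq_one_iff.1 (Nat.eq_one_of_dvd_coprimes hy
    (orderOf_map_dvd (QuotientGroup.mk' K) y) (by rw [Subgroup.index_eq_card]; exact orderOf_dvd_natCard _)))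

/-- The two factors of a commuting product of coprime orders are powers of the product. -/
theorem mem_zpowers_mul_of_coprime {x y : G} (h : Commute x y) (hcop : (orderOf x).Coprime (orderOf y)) :
    x ∈ Subgroup.zpowers (x * y) := by
  obtain ⟨e, he1, he2⟩ := Nat.chineseRemainder hcop 1 0
  have : (x * y) ^ e = x := by
    rw [h.mul_pow, pow_eq_pow_iff_modEq.2 he1, pow_one, orderOf_dvd_iff_pow_eq_one.1
      (Nat.modEq_zero_iff_dvd.1 he2), mul_one]
  have hmem := Subgroup.npow_mem_zpowers (x * y) e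
  rwa [this] at hmem

end CfsgLib.SchurExt
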