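import Cfsg.Agent.Lib.SchurExt.KleinNineChar
import Cfsg.Agent.Lib.ClassicalLinear.Card
import Cfsg.Agent.Lib.Balance.ElemAb
import Cfsg.Agent.S3331
import Mathlib.GroupTheory.SpecificGroups.Alternating

/-!
The configuration forces `N(S) = G`.
-/

set_option autoImplicit false
set_option linter.style.haveILetI false
set_option linter.unusedSectionVars false

open Cfsg

namespace CfsgLib.SchurExt.KleinNine

open DihedralGroup

/-- The `p`-element counting fact: a prime `p ≥ 5` cannot centralise an element of order `3`. -/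
theorem Datum.prime_not_cent {G : Type*} [Group G] [Finite G] (D : Datum G) {p : ℕ} (hp : p.Prime)
    (h5 : 5 ≤ p) {x y : G} (hx : orderOf x = p) (hy : orderOf y = 3) : ¬ Commute x y := by
  haveI := Fact.mk Nat.prime_three
  intro hc
  obtain ⟨g, hg⟩ := D.exists_conj_le (IsPGroup.of_card (n := 1)
    (by rw [Nat.card_zpowers, hy, pow_one]) : IsPGroup 3 (Subgroup.zpowers y))
  have hy1 : g * y * g⁻¹ ≠ 1 := fun h => by
    have : y = 1 := by simpa using h
    rw [this, orderOf_one] at hy; omega
  have hmem : g * x * g⁻¹ ∈ D.e.range := by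
    refine D.cent_le _ (hg y (Subgroup.mem_zpowers y)) hy1 (Subgroup.mem_centralizer_singleton_iff.2 ?_)
    calc g * x * g⁻¹ * (g * y * g⁻¹) = g * (x * y) * g⁻¹ := by group
      _ = g * y * g⁻¹ * (g * x * g⁻¹) := by rw [hc.eq]; group
  have hord : orderOf (g * x * g⁻¹) = p := by
    rw [show g * x * g⁻¹ = MulAut.conj g x from rfl, MulEquiv.orderOf_eq, hx]
  have hdvd : p ∣ 36 := by
    have h := Subgroup.orderOf_dvd_natCard D.e.range hmem
    have hc36 : Nat.card D.e.range = 36 := by
      letI := Fintype.ofFinite G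
      exact D.card_range
    rwa [hord, hc36] at h
  have hle := Nat.le_of_dvd (by norm_num) hdvd
  interval_cases p <;> simp_all (config := { decide := true })

/-- A normal `3'`-subgroup is trivial. -/
theorem Datum.eq_bot_of_coprime {G : Type*} [Group G] [Finite G] (D : Datum G) {R : Subgroup G}
    [hR : R.Normal] (hcop : (Nat.card R).Coprime 3) : R = ⊥ := by
  haveI := Fact.mk Nat.prime_three
  haveI : IsMulCommutative (D.T : Subgroup G) :=
    IsMulCommutative.of_comm fun a b => Subtype.ext (D.comm_T a.2 b.2)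
  have hnc : ¬ IsCyclic (D.T : Subgroup G) := by
    intro hc
    obtain ⟨g, hg⟩ := IsCyclic.exists_generator (α := (D.T : Subgroup G))
    have h1 : orderOf g = 9 := by rw [orderOf_eq_card_of_forall_mem_zpowers hg, D.card_T]
    have h3 : orderOf g ∣ 3 := orderOf_dvd_of_pow_eq_one (Subtype.ext (by
      push_cast; exact D.cube_T g.2))
    rw [h1] at h3; norm_num at h3
  have hle : R ≤ D.e.range := by
    refine CoprimeAction.le_of_centralizers hnc ?_ ?_ fun a ha ha1 =>
      inf_le_right.trans (D.cent_le a ha ha1)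
    · intro x _
      rw [Subgroup.normalizer_eq_top_iff.2 hR]; trivial
    · rw [D.card_T, show (9 : ℕ) = 3 ^ 2 by norm_num]
      exact Nat.Coprime.pow_left 2 hcop.symm
  rw [Subgroup.eq_bot_iff_forall]
  intro x hx
  have hcomm : ∀ t ∈ (D.T : Subgroup G), x * t = t * x := by
    intro t ht
    have h1 : x * t * x⁻¹ * t⁻¹ ∈ R := by
      have := R.mul_mem hx (hR.conj_mem _ (R.inv_mem hx) t)
      simpa [mul_assoc] using this
    have hxn : x ∈ Subgroup.normalizer ((D.T : Subgroup G) : Set G) := D.range_eq ▸ hle hx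
    have h2 : x * t * x⁻¹ * t⁻¹ ∈ (D.T : Subgroup G) :=
      mul_mem ((Subgroup.mem_normalizer_iff.1 hxn t).1 ht) (inv_mem ht)
    have h3 : x * t * x⁻¹ * t⁻¹ = 1 := by
      rw [← orderOf_eq_one_iff]
      have ha : orderOf (x * t * x⁻¹ * t⁻¹) ∣ Nat.card R := Subgroup.orderOf_dvd_natCard R h1
      have hb : orderOf (x * t * x⁻¹ * t⁻¹) ∣ 3 := orderOf_dvd_of_pow_eq_one (D.cube_T h2)
      exact Nat.eq_one_of_dvd_coprimes hcop ha hb
    calc x * t = x * t * x⁻¹ * t⁻¹ * (t * x) := by group
      _ = t * x := by rw [h3, one_mul]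
  have hxT : x ∈ (D.T : Subgroup G) :=
    D.self_cent (Subgroup.mem_centralizer_iff.2 fun t ht => (hcomm t ht).symm)
  rw [← orderOf_eq_one_iff]
  exact Nat.eq_one_of_dvd_coprimes hcop (Subgroup.orderOf_dvd_natCard R hx)
    (orderOf_dvd_of_pow_eq_one (D.cube_T hxT))

theorem eq_ra {q : DihedralGroup 3} (hq : q ≠ 1) :
    q = .r 1 ∨ q * q = .r 1 ∨ (.r 1 : DihedralGroup 3) * q * (.r 1)⁻¹ * q⁻¹ = .r 1 ∨
      ((.r 1 : DihedralGroup 3) * q * (.r 1)⁻¹ * q⁻¹) *
        ((.r 1 : DihedralGroup 3) * q * (.r 1)⁻¹ * q⁻¹) = .r 1 := by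
  revert q; decide

/-- A proper normal subgroup containing `b` but not `a` cannot exist unless `N(S) = G`. -/
theorem Datum.range_eq_top_of_normal {G : Type*} [Group G] [Finite G] (D : Datum G) {L : Subgroup G}
    [hL : L.Normal] (hb : D.e rb ∈ L) (ha : D.e ra ∉ L) : D.e.range = ⊤ := by
  haveI := Fact.mk Nat.prime_three
  set b : L := ⟨D.e rb, hb⟩ with hbdef
  -- the centraliser of `b` in `L`
  have hcent : ∀ x : L, x * b = b * x → x ∈ Subgroup.zpowers b := by
    intro x hx
    have hxG : (x : G) * D.e rb = D.e rb * x := congrArg Subtype.val hx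
    obtain ⟨p, hp⟩ := D.cent_le _ (D.rot_mem (by decide : Rot rb)) (D.ne_one (by decide))
      (Subgroup.mem_centralizer_singleton_iff.2 hxG)
    have hpc : p * rb = rb * p := D.inj (by rw [map_mul, map_mul, hp, hxG])
    obtain ⟨k, hk⟩ := (by decide : ∀ p : DD, p * rb = rb * p → ∃ k : Fin 3, p = (p.1, 1) * rb ^ (k : ℕ))
      p hpc
    have h1 : D.e (p.1, 1) ∈ L := by
      have hxe : (x : G) = D.e (p.1, 1) * D.e rb ^ (k : ℕ) := by rw [← hp, ← map_pow, ← map_mul, ← hk]
      have : D.e (p.1, 1) = (x : G) * (D.e rb ^ (k : ℕ))⁻¹ := by rw [hxe, mul_inv_cancel_right]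
      rw [this]
      exact L.mul_mem x.2 (L.inv_mem (L.pow_mem hb _))
    by_cases hq : p.1 = 1
    · rw [Subgroup.mem_zpowers_iff]
      refine ⟨((k : ℕ) : ℤ), Subtype.ext ?_⟩
      rw [zpow_natCast, SubmonoidClass.coe_pow, hbdef, ← map_pow, ← hp, hk, hq]
      simp [map_one, Prod.mk_one_one]
    · exfalso
      apply ha
      set c : DD := (p.1, 1) with hc
      have hd : D.e (ra * c * ra⁻¹ * c⁻¹) ∈ L := by
        rw [map_mul, map_mul, map_mul, map_inv, map_inv]
        exact L.mul_mem (hL.conj_mem _ h1 _) (L.inv_mem h1)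
      rcases eq_ra hq with h | h | h | h
      · rw [show ra = c from Prod.ext h.symm rfl]; exact h1
      · rw [show ra = c * c from Prod.ext h.symm (by simp [hc, ra]), map_mul]
        exact L.mul_mem h1 h1
      · rw [show ra = ra * c * ra⁻¹ * c⁻¹ from Prod.ext h.symm (by simp [hc, ra])]
        exact hd
      · rw [show ra = (ra * c * ra⁻¹ * c⁻¹) * (ra * c * ra⁻¹ * c⁻¹) from
          Prod.ext h.symm (by simp [hc, ra]), map_mul]
        exact L.mul_mem hd hd
  have hordb : orderOf b = 3 := by
    refine orderOf_eq_prime (Subtype.ext ?_) fun e => D.ne_one (by decide) (congrArg Subtype.val e)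
    rw [SubmonoidClass.coe_pow, hbdef, ← map_pow, (by decide : rb ^ 3 = 1), map_one]
    rfl
  have hX : Nat.card (Subgroup.zpowers b) = 3 := by rw [Nat.card_zpowers, hordb]
  have hC : Subgroup.centralizer ((Subgroup.zpowers b : Subgroup L) : Set L) = Subgroup.zpowers b := by
    refine le_antisymm (fun x hx => hcent x ?_) fun x hx => Subgroup.mem_centralizer_iff.2 ?_
    · exact ((Subgroup.mem_centralizer_iff.1 hx) b (Subgroup.mem_zpowers b)).symm
    · intro y hy
      obtain ⟨m, rfl⟩ := Subgroup.mem_zpowers_iff.1 hx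
      obtain ⟨n, rfl⟩ := Subgroup.mem_zpowers_iff.1 hy
      rw [← zpow_add, ← zpow_add, add_comm]
  -- normal `3'`-subgroups of `L` are trivial
  have hcore : ∀ R : Subgroup L, R.Normal → (Nat.card R).Coprime 3 → R = ⊥ := by
    intro R hRn hR
    have hle := Cores.le_pPrimeCore (p := 3) hR
    haveI : ((pPrimeCore 3 L).map L.subtype).Normal := Cores.normal_map_subtype L _
    have h0 := D.eq_bot_of_coprime (R := (pPrimeCore 3 L).map L.subtype) (by
      rw [Subgroup.card_map_of_injective L.subtype_injective]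
      exact Cores.card_pPrimeCore_coprime 3)
    rw [Subgroup.map_eq_bot_iff_of_injective _ L.subtype_injective] at h0
    exact le_bot_iff.1 (h0 ▸ hle)
  -- large cases
  have hbig : ∀ p : ℕ, p.Prime → 5 ≤ p → p ∣ Nat.card L →
      ((p = 5 ∧ Nat.card L = 60) ∨ (p = 7 ∧ Nat.card L = 168)) → False := by
    intro p hp h5 hdvd hcase
    haveI := Fact.mk hp
    obtain ⟨P⟩ : Nonempty (Sylow p L) := inferInstance
    have hFr := P.normalizer_sup_eq_top
    set PG := (P : Subgroup L).map L.subtype with hPG
    set NG := Subgroup.normalizer (PG : Set G) with hNG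
    -- `3` divides the index of `L`
    have h3idx : 3 ∣ L.index := by
      have h1 : orderOf (QuotientGroup.mk (D.e ra) : G ⧸ L) = 3 := by
        refine orderOf_eq_prime ?_ fun e => ha ((QuotientGroup.eq_one_iff _).1 e)
        rw [← QuotientGroup.mk_pow, ← map_pow, (by decide : ra ^ 3 = 1), map_one, QuotientGroup.mk_one]
      rw [← h1, Subgroup.index_eq_card]
      exact orderOf_dvd_natCard _
    have hcardN : Nat.card NG = L.index * Nat.card (L.subgroupOf NG) := by
      rw [← Subgroup.card_mul_index (L.subgroupOf NG), mul_comm]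
      congr 1
      rw [← Subgroup.relIndex, ← Subgroup.relIndex_sup_right, hNG, hPG, hFr,
        Subgroup.relIndex_top_right]
    have hPle : PG ≤ NG := Subgroup.le_normalizer
    have hkey : ∃ y ∈ NG, orderOf y = 3 ∧ ∀ x ∈ PG, Commute x y := by
      -- the action on `P`
      have hcP : Nat.card PG = p := by
        rw [hPG, Subgroup.card_map_of_injective L.subtype_injective]
        obtain ⟨n, hn⟩ := P.isPGroup'.exists_card_eq
        have hsq : ¬ p ^ 2 ∣ Nat.card L := by
          rcases hcase with ⟨rfl, h⟩ | ⟨rfl, h⟩ <;> rw [h] <;> norm_num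
        have hle : n ≤ 1 := by
          by_contra hlt
          exact hsq ((Nat.pow_dvd_pow p (show 2 ≤ n by omega)).trans
            (hn ▸ Subgroup.card_subgroup_dvd_card (P : Subgroup L)))
        have hne : n ≠ 0 := by
          intro h0
          have := P.dvd_card_of_dvd_card hdvd
          rw [hn, h0, pow_zero, Nat.dvd_one] at this
          exact hp.ne_one this
        rw [hn, show n = 1 by omega, pow_one]
      haveI : IsCyclic PG := isCyclic_of_prime_card hcP
      have hAut : Nat.card (MulAut PG) = p - 1 := by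
        rw [IsCyclic.card_mulAut, hcP, Nat.totient_prime hp]
      let φ : NG →* MulAut PG := PG.normalizerMonoidHom
      have hker : ∀ y : NG, φ y = 1 → ∀ x ∈ PG, Commute x (y : G) := by
        intro y hy x hx
        have := congrArg Subtype.val (DFunLike.congr_fun hy ⟨x, hx⟩)
        have h' : (y : G) * x * (y : G)⁻¹ = x := this
        exact (mul_inv_eq_iff_eq_mul.1 h').symm
      have hdk : 3 ∣ Nat.card φ.ker := by
        have hprod := Subgroup.card_mul_index φ.ker
        have hidx : φ.ker.index ∣ p - 1 := by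
          rw [Subgroup.index_ker, ← hAut]
          exact Subgroup.card_subgroup_dvd_card _
        rcases hcase with ⟨rfl, -⟩ | ⟨rfl, h168⟩
        · have h3N : 3 ∣ Nat.card φ.ker * φ.ker.index := by
            rw [hprod, hcardN]; exact h3idx.mul_right _
          rcases (Nat.Prime.dvd_mul Nat.prime_three).1 h3N with h | h
          · exact h
          · exact absurd (h.trans hidx) (by norm_num)
        · have h3P : 3 ∣ Nat.card (Subgroup.normalizer ((P : Subgroup L) : Set L)) := by
            have hn7 := card_sylow_modEq_one 7 L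
            have hd := P.card_dvd_index
            have hm := Subgroup.card_mul_index (Subgroup.normalizer ((P : Subgroup L) : Set L))
            have hidxN : Nat.card (Sylow 7 L) =
                (Subgroup.normalizer ((P : Subgroup L) : Set L)).index :=
              P.card_eq_index_normalizer
            rw [← hidxN, h168] at hm
            have hP7 : (P : Subgroup L).index * Nat.card (P : Subgroup L) = 168 := by
              rw [mul_comm, Subgroup.card_mul_index, h168]
            have hP7' : Nat.card (P : Subgroup L) = 7 := by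
              rw [← Subgroup.card_map_of_injective L.subtype_injective]; exact hcP
            rw [hP7'] at hP7
            have hi : (P : Subgroup L).index = 24 := by omega
            rw [hi] at hd
            have hle : Nat.card (Sylow 7 L) ≤ 24 := Nat.le_of_dvd (by norm_num) hd
            unfold Nat.ModEq at hn7
            interval_cases hn : Nat.card (Sylow 7 L) <;> omega
          have h3NL : 3 ∣ Nat.card (L.subgroupOf NG) := by
            refine h3P.trans ?_
            have hle : (Subgroup.normalizer ((P : Subgroup L) : Set L)).map L.subtype ≤ L ⊓ NG :=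
              le_inf (Subgroup.map_subtype_le _) (by
                rw [hNG, hPG]; exact Subgroup.le_normalizer_map _)
            have e1 : Nat.card (L.subgroupOf NG) = Nat.card (L ⊓ NG : Subgroup G) := by
              rw [← Subgroup.subgroupOf_map_subtype L NG]
              exact (Subgroup.card_map_of_injective NG.subtype_injective).symm
            rw [e1, ← Subgroup.card_map_of_injective L.subtype_injective]
            exact Subgroup.card_dvd_of_le hle
          have h9 : 3 * 3 ∣ Nat.card φ.ker * φ.ker.index := by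
            rw [hprod, hcardN]; exact Nat.mul_dvd_mul h3idx h3NL
          by_contra h3
          have : 3 * 3 ∣ φ.ker.index :=
            (Nat.Coprime.mul_left ((Nat.prime_three.coprime_iff_not_dvd).2 h3)
              ((Nat.prime_three.coprime_iff_not_dvd).2 h3)).dvd_of_dvd_mul_left h9
          exact absurd (this.trans hidx) (by norm_num)
      obtain ⟨y, hy⟩ := exists_prime_orderOf_dvd_card' (G := φ.ker) 3 hdk
      refine ⟨((y : NG) : G), (y : NG).2, ?_, hker _ y.2⟩
      rw [Subgroup.orderOf_coe, Subgroup.orderOf_coe, hy]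
    obtain ⟨y, -, hy3, hcomm⟩ := hkey
    have hne : (P : Subgroup L) ≠ ⊥ := fun h => by
      have := P.dvd_card_of_dvd_card hdvd
      rw [h, Subgroup.card_bot, Nat.dvd_one] at this
      exact hp.ne_one this
    obtain ⟨x, hxP, hx1⟩ := (Subgroup.bot_or_exists_ne_one _).resolve_left hne
    obtain ⟨k, hk⟩ := P.isPGroup' ⟨x, hxP⟩
    have hk' : (x : G) ^ p ^ k = 1 := by
      have := congrArg (fun z : (P : Subgroup L) => ((z : L) : G)) hk
      simpa using this
    obtain ⟨m, hm, hmk⟩ := (Nat.dvd_prime_pow hp).1 (orderOf_dvd_of_pow_eq_one hk')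
    have hm0 : m ≠ 0 := fun h0 => hx1 (Subtype.ext (orderOf_eq_one_iff.1 (by rw [hmk, h0, pow_zero])))
    have hz : orderOf ((x : G) ^ p ^ (m - 1)) = p := by
      rw [orderOf_pow_of_dvd (pow_ne_zero _ hp.ne_zero) (by rw [hmk]; exact Nat.pow_dvd_pow _ (by omega)),
        hmk, Nat.pow_div (by omega) hp.pos, show m - (m - 1) = 1 by omega, pow_one]
    exact D.prime_not_cent hp h5 hz hy3 ((hcomm _ (Subgroup.mem_map_of_mem _ hxP)).pow_left _)
  rcases Cfsg.Agent.S3331.result (Subgroup.zpowers b) hX hC with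
    ⟨M, hM, -, hMc, hq⟩ | ⟨M, hM, -, hMe, ⟨e⟩⟩ | ⟨⟨e⟩⟩
  · -- `L` of order `3` or `6`
    haveI := hM
    have hM0 := hcore M hM hMc
    have hcL : Nat.card L = Nat.card (L ⧸ M) := by
      rw [hM0]; exact Nat.card_congr (QuotientGroup.quotientBot).symm.toEquiv
    have h36 : Nat.card L = 3 ∨ Nat.card L = 6 := by
      rcases hq with h | ⟨⟨e⟩⟩
      · exact Or.inl (hcL.trans h)
      · exact Or.inr (by
          rw [hcL, Nat.card_congr e.toEquiv, Nat.card_perm, Nat.card_fin]; rfl)
    have hidx : (Subgroup.zpowers b).index = 1 ∨ (Subgroup.zpowers b).index = 2 := by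
      have := Subgroup.card_mul_index (Subgroup.zpowers b)
      rw [hX] at this
      omega
    haveI hXn : (Subgroup.zpowers b).Normal := by
      rcases hidx with h | h
      · rw [Subgroup.index_eq_one.1 h]; infer_instance
      · exact Subgroup.normal_of_index_eq_two h
    rw [eq_top_iff]
    intro g _
    have hcg : g * D.e rb * g⁻¹ ∈ L := hL.conj_mem _ hb g
    have hpow : (⟨g * D.e rb * g⁻¹, hcg⟩ : L) ∈ Subgroup.zpowers b := by
      have h3 : (⟨g * D.e rb * g⁻¹, hcg⟩ : L) ^ 3 = 1 := Subtype.ext (by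
        rw [SubmonoidClass.coe_pow, conj_pow, ← map_pow, (by decide : rb ^ 3 = 1), map_one,
          mul_one, mul_inv_cancel]; rfl)
      rw [← QuotientGroup.eq_one_iff, ← orderOf_eq_one_iff]
      refine Nat.eq_one_of_dvd_coprimes (show (Subgroup.zpowers b).index.Coprime 3 by
        rcases hidx with h | h <;> rw [h] <;> norm_num) ?_
        (orderOf_dvd_of_pow_eq_one (by rw [← QuotientGroup.mk_pow, h3, QuotientGroup.mk_one]))
      rw [Subgroup.index_eq_card]
      exact orderOf_dvd_natCard _
    obtain ⟨m, hm⟩ := Subgroup.mem_zpowers_iff.1 hpow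
    refine D.fusion (D.rot_mem (by decide : Rot rb)) (D.ne_one (by decide)) ?_
    have hm' := congrArg Subtype.val hm
    push_cast at hm'
    rw [← hm']
    exact zpow_mem (D.rot_mem (by decide)) m
  · haveI := hM
    have h2 : IsPGroup 2 M := fun x => ⟨1, Subtype.ext (by push_cast; exact hMe x x.2)⟩
    obtain ⟨m, hm⟩ := h2.exists_card_eq
    have hM0 := hcore M hM (by rw [hm]; exact Nat.Coprime.pow_left m (by norm_num))
    have hcL : Nat.card L = Nat.card (L ⧸ M) := by
      rw [hM0]; exact Nat.card_congr (QuotientGroup.quotientBot).symm.toEquiv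
    refine (hbig 5 (by norm_num) le_rfl ?_ (Or.inl ⟨rfl, ?_⟩)).elim
    all_goals
      rw [hcL, Nat.card_congr e.toEquiv, nat_card_alternatingGroup, Nat.card_fin]
      norm_num [Nat.factorial]
  · haveI : Fact (Nat.Prime 7) := ⟨by norm_num⟩
    have h168 : Nat.card L = 168 := by
      have h2 := ClassicalLinear.card_PSL_two_of_odd (F := ZMod 7) (q := 7) (ZMod.card 7) (by decide)
      rw [Nat.card_congr e.toEquiv]
      rw [show (7 : ℕ) * (7 ^ 2 - 1) = 336 from rfl] at h2
      omega
    exact (hbig 7 (by norm_num) (by norm_num) (by rw [h168]; norm_num)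
      (Or.inr ⟨rfl, h168⟩)).elim

/-- A proper normal subgroup containing `j` forces `N(S) = G`. -/
theorem Datum.range_eq_top_of_sj {G : Type*} [Group G] [Finite G] (D : Datum G) {M : Subgroup G}
    [hM : M.Normal] (hne : M ≠ ⊤) (hj : D.e sj ∈ M) : D.e.range = ⊤ := by
  haveI := Fact.mk Nat.prime_three
  have hb : D.e rb ∈ M := by
    rw [(by decide : rb = sj * (rb * sj⁻¹ * rb⁻¹)), map_mul, map_mul, map_mul, map_inv, map_inv]
    exact M.mul_mem hj (hM.conj_mem _ (M.inv_mem hj) _)
  by_cases ha : D.e ra ∈ M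
  swap
  · exact D.range_eq_top_of_normal hb ha
  -- `M` contains `S`
  have hT : (D.T : Subgroup G) ≤ M := by
    intro g hg
    obtain ⟨p, hp, rfl⟩ := (D.mem_T g).1 hg
    obtain ⟨u, v, rfl⟩ := (by decide : ∀ p : DD, Rot p → ∃ u v : Fin 3, p = ra ^ (u : ℕ) * rb ^ (v : ℕ))
      p hp
    rw [map_mul, map_pow, map_pow]
    exact M.mul_mem (M.pow_mem ha _) (M.pow_mem hb _)
  have hsi : D.e si ∉ M := by
    intro hi
    apply hne
    have hNM : D.e.range ≤ M := by
      rintro g ⟨p, rfl⟩
      obtain ⟨u, v, s, t, rfl⟩ := (by decide : ∀ p : DD, ∃ u v : Fin 3, ∃ s t : Fin 2,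
        p = ra ^ (u : ℕ) * si ^ (s : ℕ) * (rb ^ (v : ℕ) * sj ^ (t : ℕ))) p
      simp only [map_mul, map_pow]
      exact M.mul_mem (M.mul_mem (M.pow_mem ha _) (M.pow_mem hi _))
        (M.mul_mem (M.pow_mem hb _) (M.pow_mem hj _))
    have hFr := (D.T.subtype hT).normalizer_sup_eq_top
    rw [Sylow.coe_subtype, Subgroup.map_subgroupOf_eq_of_le hT, ← D.range_eq] at hFr
    rw [eq_top_iff, ← hFr]
    exact sup_le hNM le_rfl
  -- transfer in `M`
  set TM : Sylow 3 M := D.T.subtype hT with hTM
  haveI : IsMulCommutative (TM : Subgroup M) := IsMulCommutative.of_comm fun x y =>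
    Subtype.ext (Subtype.ext (D.comm_T (Subgroup.mem_subgroupOf.1 x.2) (Subgroup.mem_subgroupOf.1 y.2)))
  letI : CommGroup (TM : Subgroup M) :=
    { (inferInstance : Group (TM : Subgroup M)) with mul_comm := fun x y => mul_comm' x y }
  set a : M := ⟨D.e ra, ha⟩ with hadef
  have key : ∀ (k : ℕ) (g₀ : M), g₀⁻¹ * a ^ k * g₀ ∈ (TM : Subgroup M) →
      g₀⁻¹ * a ^ k * g₀ = a ^ k := by
    intro k g₀ hk
    by_cases h1 : a ^ k = 1
    · rw [h1]; group
    have hakT : D.e (ra ^ k) ∈ (D.T : Subgroup G) := by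
      rw [map_pow]; exact pow_mem (D.rot_mem (by decide)) k
    have hne1 : D.e (ra ^ k) ≠ 1 := fun h => h1 (Subtype.ext (by
      rw [SubmonoidClass.coe_pow]; rw [map_pow] at h; exact h))
    have hmem : (g₀ : G)⁻¹ * D.e (ra ^ k) * (g₀ : G)⁻¹⁻¹ ∈ (D.T : Subgroup G) := by
      have := Subgroup.mem_subgroupOf.1 hk
      rw [inv_inv, map_pow]
      simpa [hadef] using this
    obtain ⟨q, hq⟩ := D.fusion hakT hne1 hmem
    have hrot : rot q.1 = true := by
      by_contra hf
      refine hsi ?_
      obtain ⟨u, v, s, hq'⟩ := (by decide : ∀ q : DD, rot q.1 ≠ true → ∃ u v : Fin 3, ∃ s : Fin 2,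
        si = q * (rb ^ (v : ℕ) * sj ^ (s : ℕ)) * ra ^ (u : ℕ)) q hf
      rw [hq', map_mul, map_mul, map_mul, map_pow, map_pow, map_pow, hq]
      exact M.mul_mem (M.mul_mem (M.inv_mem g₀.2) (M.mul_mem (M.pow_mem hb _) (M.pow_mem hj _)))
        (M.pow_mem ha _)
    have hc : Commute q ra := (by decide : ∀ q : DD, rot q.1 = true → q * ra = ra * q) q hrot
    have hcG : Commute (g₀ : G)⁻¹ (D.e (ra ^ k)) := by
      rw [← hq]; exact (hc.pow_right k).map D.e
    refine Subtype.ext ?_
    push_cast
    rw [map_pow] at hcG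
    rw [hadef]
    calc (g₀ : G)⁻¹ * D.e ra ^ k * g₀ = D.e ra ^ k * (g₀ : G)⁻¹ * g₀ := by rw [hcG.eq]
      _ = D.e ra ^ k := by group
  have htr := MonoidHom.transfer_eq_pow (MonoidHom.id (TM : Subgroup M)) a key
  have haL : a ∉ commutator M := by
    intro hc
    have h1 := Abelianization.commutator_subset_ker
      (MonoidHom.transfer (MonoidHom.id (TM : Subgroup M))) hc
    rw [MonoidHom.mem_ker, htr] at h1
    have h2 : a ^ (TM : Subgroup M).index = 1 := congrArg Subtype.val h1
    have hord : orderOf a = 3 := by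
      refine orderOf_eq_prime (Subtype.ext ?_) fun e => D.ne_one (by decide) (congrArg Subtype.val e)
      rw [SubmonoidClass.coe_pow, hadef, ← map_pow, (by decide : ra ^ 3 = 1), map_one]
      rfl
    have h3 := orderOf_dvd_of_pow_eq_one h2
    rw [hord] at h3
    exact TM.not_dvd_index h3
  set L := (commutator M).map M.subtype with hLdef
  haveI : L.Normal := Cores.normal_map_subtype M _
  refine D.range_eq_top_of_normal (L := L) ?_ fun h => haL ?_
  · rw [(by decide : rb = sj * rb * sj⁻¹ * rb⁻¹)]
    refine ⟨⟨D.e sj, hj⟩ * ⟨D.e rb, hb⟩ * ⟨D.e sj, hj⟩⁻¹ * ⟨D.e rb, hb⟩⁻¹, ?_, by simp⟩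
    exact Subgroup.commutator_mem_commutator (Subgroup.mem_top _) (Subgroup.mem_top _)
  · obtain ⟨y, hy, hye⟩ := h
    rwa [show a = y from Subtype.ext hye.symm]

/-- In the configuration `N(S) = G`. -/
theorem Datum.range_eq_top {G : Type*} [Group G] [Finite G] (D : Datum G) : D.e.range = ⊤ := by
  letI := Fintype.ofFinite G
  rcases D.isolated with ⟨hi, hk⟩ | ⟨hi, hk⟩
  · obtain ⟨M, hM, hne, hj⟩ := D.exists_normal hi hk
    exact D.range_eq_top_of_sj hne hj
  · obtain ⟨M, hM, hne, hj⟩ := D.swap.exists_normal hi hk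
    rw [D.range_eq, ← (show D.swap.T = D.T from rfl), ← D.swap.range_eq]
    exact D.swap.range_eq_top_of_sj hne hj

end CfsgLib.SchurExt.KleinNine
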