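import Mathlib
import Cfsg.Agent.Lib.SchurExt.Elementary

/-!
TI Sylow subgroups, and `p'`-elements acting on cyclic `p`-groups.
-/

set_option autoImplicit false

open scoped Pointwise

namespace CfsgLib.SchurExt

variable {G : Type*} [Group G]

theorem mem_conj_smul {g z : G} {H : Subgroup G} : z ∈ MulAut.conj g • H ↔ g⁻¹ * z * g ∈ H := by
  rw [Subgroup.mem_pointwise_smul_iff_inv_smul_mem, ← map_inv, MulAut.smul_def, MulAut.conj_apply,
    inv_inv]

/-- A TI Sylow subgroup makes all its conjugates TI. -/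
theorem sylow_ti_elem [Finite G] {p : ℕ} [Fact p.Prime] (P : Sylow p G)
    (hTI : ∀ g : G, g ∉ Subgroup.normalizer ((P : Subgroup G) : Set G) →
      (P : Subgroup G) ⊓ (MulAut.conj g • (P : Subgroup G)) = ⊥)
    (Q : Sylow p G) {u x : G} (hx : x ≠ 1) (hxQ : x ∈ (Q : Subgroup G))
    (hux : u⁻¹ * x * u ∈ (Q : Subgroup G)) : u ∈ Subgroup.normalizer ((Q : Subgroup G) : Set G) := by
  obtain ⟨h, rfl⟩ := MulAction.exists_smul_eq G P Q
  rw [Sylow.coe_subgroup_smul] at hxQ hux ⊢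
  rw [mem_conj_smul] at hxQ hux
  have hP : h⁻¹ * u * h ∈ Subgroup.normalizer ((P : Subgroup G) : Set G) := by
    by_contra hn
    refine hx ?_
    have : h⁻¹ * x * h ∈ (P : Subgroup G) ⊓ (MulAut.conj (h⁻¹ * u * h) • (P : Subgroup G)) := by
      refine ⟨hxQ, mem_conj_smul.2 ?_⟩
      simpa [mul_assoc] using hux
    rw [hTI _ hn, Subgroup.mem_bot] at this
    simpa [mul_assoc, inv_mul_eq_one] using congrArg (fun t => h * t * h⁻¹) this
  refine Subgroup.mem_normalizer_iff.2 fun z => ?_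
  rw [mem_conj_smul, mem_conj_smul, Subgroup.mem_normalizer_iff.1 hP (h⁻¹ * z * h)]
  simp [mul_assoc]

/-- An element of order prime to `p` sending `x` of `p`-power order to `x ^ k` with `k ≡ 1 mod p`
centralizes `x`. -/
theorem commute_of_conj_eq_zpow {p n : ℕ} {g x : G} {k : ℤ} (hk : g * x * g⁻¹ = x ^ k)
    (hp : (p : ℤ) ∣ k - 1) (hx : orderOf x ∣ p ^ n) (hg : (orderOf g).Coprime p) : g * x = x * g := by
  have hpow : ∀ i : ℕ, g ^ i * x * (g ^ i)⁻¹ = x ^ (k ^ i) := by
    intro i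
    induction i with
    | zero => simp
    | succ i ih =>
      calc g ^ (i + 1) * x * (g ^ (i + 1))⁻¹ = g * (g ^ i * x * (g ^ i)⁻¹) * g⁻¹ := by
            rw [pow_succ']; group
        _ = _ := by rw [ih, ← conj_zpow, hk, ← zpow_mul, pow_succ']
  have h1 : g ^ (p ^ n) * x * (g ^ (p ^ n))⁻¹ = x := by
    rw [hpow]
    conv_rhs => rw [← zpow_one x]
    refine (orderOf_dvd_sub_iff_zpow_eq_zpow).1 ?_
    refine (Int.natCast_dvd_natCast.2 hx).trans ?_
    have := dvd_sub_pow_of_dvd_sub hp n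
    rw [one_pow] at this
    refine dvd_trans ?_ this
    push_cast
    exact pow_dvd_pow _ n.le_succ
  have h2 : Commute (g ^ (p ^ n)) x := mul_inv_eq_iff_eq_mul.1 h1
  obtain ⟨m, hm⟩ := exists_pow_eq_self_of_coprime (x := g) (hg.symm.pow_left n)
  have := h2.pow_left m
  rw [hm] at this
  exact this.eq

end CfsgLib.SchurExt
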